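import Cfsg.Agent.H557.SubLink
import Cfsg.Agent.H557.InvE8
import Cfsg.Agent.LieClassical.OrthTrans
import Cfsg.Agent.H527.C3.Twist_m3
import Cfsg.Agent.LieClassical.SLTwoTorus
import Cfsg.Agent.H415.C3.LKitOne_mg_m3
import Cfsg.Agent.H402.PSL2Cls
import Cfsg.Agent.ClassicalGeometry.SpinorSign
import Cfsg.Agent.BpExc.AsmN_m3
import Cfsg.Agent.H892.ElReg
import Cfsg.Agent.H953.Rank
import Cfsg.Agent.H392.KKL.X2a_mg
import Cfsg.Agent.H129.TorusUntw
import Cfsg.Prelude.Def_LieTypeChar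
import Cfsg.Agent.H165.RV.Defs
import Cfsg.Agent.TwoGenCore.Involution
import Cfsg.Agent.SmallSimple.SylowMaxInter
import Cfsg.Agent.StrongEmb.Strong
import Cfsg.Agent.KFacts.RgdLieCharP
import Cfsg.Agent.OddHalf.Small.RankOne
import Cfsg.Agent.EvenType.ChevTwoF4
import Mathlib
import Cfsg.Agent.EvenType.ChevTwoTits
import Cfsg.Agent.FastGrp
import Cfsg.Agent.Prune
set_option linter.all false

section
prune_inst 0x7ff0bcfba9f8a9dedfff7e7fa6d4cffdf9b9bfffa6dff9cbffe061ff2bdf6b000945fb858fe010fe0ef7e21410b87813fbffefffe36bdc7ffffd5ff41ffbee0fa5e6b50851dc88b40f340ff603f0778e7f3fffffffffffffffffffffffffffbeffbdffffffff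

-- part: H557/Co3/CentE8
section
prune_inst 0xd42041604562120000180592b1002044640004000063000088e0080008084f29a00227003c701110000a80c4003c8000010000c00000000000008600011901a084a852023340a10ca6009f809880000000000000000000000000000000000004000000000
set_option linter.all false
open scoped Cfsg.Agent.FastGrp

-- part: H557/Co3/CentGen
section
/-!
# Generators of the centraliser of an element of the torus (helper557, S1920)

* `HH Rd t` : the subgroup generated by the torus and the elements of root groups commuting with `t`;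
* `cent_le` : the centraliser of `t ∈ T` is `HH t`, if the fixer of `t` in the Weyl group has representatives in `HH t`;
* `HC hp t` : the subgroup generated by the torus and the root groups `X_x`, `x(t) = 1`, of `D.group K`;
* `centralizer_le` : `C(t) ≤ HC t`, if the fixer is generated by reflections `w s_j w⁻¹` with `(w (α j)) (t) = 1`;
* `fix_gen` : the fixer of an involution with a checked table is generated by the reflections of the table;
* `HC_le` : `HC t ≤ closure (TT ∪ {x_r(a) | r(t) = 1})`.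
-/

set_option autoImplicit false
set_option linter.unusedSectionVars false

namespace Cfsg.Agent.H557.Co3

open CoxeterSystem Cfsg.Agent.ChevalleyStructure.CoxeterGeom Cfsg.Agent.Tits.Roots Cfsg.Agent.Tits.Core
  Cfsg.Agent.Tits.RootComb Cfsg.Agent.Nodes.Comb Cfsg.Agent.Nodes.Reps Cfsg.Agent.Nodes.BNOf
  Cfsg.Agent.Nodes.BNOf.RGD Cfsg.Agent.Nodes.Unique Cfsg.Agent.Nodes.NormalForm
  Cfsg.Agent.Nodes.Bruhat Cfsg.Agent.Nodes.OppDec Cfsg.Agent.H557.CardCent Cfsg.Agent.H557.WAct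
  Cfsg.Agent.H557.CentChev
open Cfsg.Lie Cfsg.Agent.ChevalleyStructure Cfsg.Agent.ChevalleyStructure.Elts
  Cfsg.Agent.ChevalleyStructure.RootVec
  Cfsg.Agent.ChevalleyStructure.CoxeterGeomTypes Cfsg.Agent.Nodes.RGDChev
  Cfsg.Agent.KFacts.RgdField Cfsg.Agent.KFacts.RgdChevCoord Cfsg.Agent.OddHalf.NI.ModelChev
open Cfsg.Agent.ChevalleyStructure.WeylAbstract Cfsg.Agent.ChevalleyStructure.WeylStep
  Cfsg.Agent.ChevalleyStructure.CoxeterWordCheck Cfsg.Agent.H557.SubTab Cfsg.Agent.H557.SumHom Cfsg.Agent.H557.SubLink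

universe u

section

variable {I W Y : Type*} [Fintype I] [DecidableEq I] [Group W] [Group Y] {M : CoxeterMatrix I}
  {cs : CoxeterSystem M W} {A : I → I → ℤ} {h : IsCartan M A} {p : ℕ} {T : Subgroup Y} {n : I → Y}
  {X : (I → ℤ) → Subgroup Y}

/-- the torus and the elements of root groups commuting with `t` -/
def HH (cs : CoxeterSystem M W) (h : IsCartan M A) (T : Subgroup Y) (X : (I → ℤ) → Subgroup Y) (t : Y) : Subgroup Y :=
  Subgroup.closure ((T : Set Y) ∪ {g | ∃ x, IsRoot cs h x ∧ g ∈ X x ∧ t * g = g * t})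

theorem T_le_HH (t : Y) : T ≤ HH cs h T X t := fun _ ha => Subgroup.subset_closure (Or.inl ha)

theorem mem_HH {t g : Y} {x : I → ℤ} (hx : IsRoot cs h x) (hg : g ∈ X x) (hc : t * g = g * t) : g ∈ HH cs h T X t :=
  Subgroup.subset_closure (Or.inr ⟨x, hx, hg, hc⟩)

variable (Rd : RGD cs h p T n X)

include Rd

theorem sup_fut_le [Finite W] {t : Y} (ht : t ∈ T) (w : W) {s : Set (I → ℤ)}
    (hS : s ⊆ Fut cs h w) (hc : Closed cs h s) {g : Y} (hg : g ∈ RGD.Sup X s) (hgt : t * g = g * t) :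
    g ∈ HH cs h T X t := by
  classical
  induction hn : (Fut cs h w).ncard generalizing w s g with
  | zero =>
    have h1 := (Set.ncard_eq_zero (finite_fut w)).1 hn
    rw [h1, Set.subset_empty_iff] at hS
    subst hS
    have h2 : RGD.Sup X (∅ : Set (I → ℤ)) = ⊥ := by
      rw [eq_bot_iff]
      refine Sup_le fun z hz => ?_
      simp at hz
    rw [h2, Subgroup.mem_bot] at hg
    rw [hg]
    exact one_mem _
  | succ k ih =>
    have hne : (Fut cs h w).Nonempty := by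
      rw [Set.nonempty_iff_ne_empty]
      intro h1
      rw [h1, Set.ncard_empty] at hn
      omega
    obtain ⟨y, hy⟩ := hne
    obtain ⟨i, hi⟩ := exists_simple hy
    set x := rep cs h w (sr i) with hxdef
    have hcard : (Fut cs h (w * cs.simple i)).ncard = k := by
      rw [fut_mul hi, Set.ncard_sdiff_singleton_of_mem (mem_fut hi), hn]
      rfl
    have hsub : s \ {x} ⊆ Fut cs h (w * cs.simple i) := by
      rw [fut_mul hi]
      exact Set.sdiff_subset_sdiff_left hS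
    have hcl := closed_diff hi hS hc
    by_cases hx : x ∈ s
    · have hpos : s ⊆ Pos cs h := hS.trans (fut_subset_pos w)
      have hxr : IsRoot cs h x := (hpos hx).1
      have hbot : X x ⊓ RGD.Sup X (s \ {x}) = ⊥ := by
        rw [eq_bot_iff, ← tail_inf Rd (w := w) (i := i)]
        exact inf_le_inf_left _ (Sup_mono hsub)
      obtain ⟨a, ha, b, hb, rfl⟩ := (mem_peel Rd hpos hc hx).1 hg
      have h2 : t * a * t⁻¹ ∈ X x := by
        rw [← Rd.tor x hxr t ht]; exact conj_mem_cj.2 ha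
      have h3 : t * b * t⁻¹ ∈ RGD.Sup X (s \ {x}) :=
        (Subgroup.mem_normalizer_iff.1 (Rd.T_le_normalizer (S := s \ {x})
          (fun z hz => (hpos hz.1).1) ht) b).1 hb
      have h4 : a⁻¹ * (t * a * t⁻¹) = b * (t * b * t⁻¹)⁻¹ := by
        have h5 : (t * a * t⁻¹) * (t * b * t⁻¹) = a * b := by
          have : (t * a * t⁻¹) * (t * b * t⁻¹) = t * (a * b) * t⁻¹ := by group
          rw [this, hgt]; group
        rw [eq_mul_inv_iff_mul_eq, mul_assoc, h5]; group
      have h5 : a⁻¹ * (t * a * t⁻¹) ∈ X x ⊓ RGD.Sup X (s \ {x}) :=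
        Subgroup.mem_inf.2 ⟨mul_mem (inv_mem ha) h2, by rw [h4]; exact mul_mem hb (inv_mem h3)⟩
      rw [hbot, Subgroup.mem_bot] at h5
      have hac : t * a * t⁻¹ = a := (inv_mul_eq_one.1 h5).symm
      rw [h5] at h4
      have hbc : t * b * t⁻¹ = b := (mul_inv_eq_one.1 h4.symm).symm
      exact mul_mem (mem_HH hxr ha (mul_inv_eq_iff_eq_mul.1 hac))
        (ih (w * cs.simple i) hsub hcl hb (mul_inv_eq_iff_eq_mul.1 hbc) hcard)
    · have hs : s \ {x} = s := Set.sdiff_singleton_eq_self hx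
      rw [hs] at hsub
      exact ih (w * cs.simple i) hsub hc hg hgt hcard

/-- **the centraliser of an element of the torus** -/
theorem cent_le [Finite W] (hG : GG cs h T X = ⊤) (hT : ∀ a ∈ T, ∀ b ∈ T, a * b = b * a)
    {t : Y} (ht : t ∈ T) (hfix : ∀ w ∈ fixS cs Rd.nsys hT ⟨t, ht⟩, ∃ k ∈ HH cs h T X t, Rp cs Rd.nsys w k) {g : Y}
    (hg : t * g = g * t) : g ∈ HH cs h T X t := by
  have hgG : g ∈ GG cs h T X := by rw [hG]; exact Subgroup.mem_top g
  obtain ⟨w, hw⟩ := (mem_GG Rd).1 hgG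
  obtain ⟨u, hu, k, hk, v, hv, rfl⟩ := exists_normal_form Rd hw
  have hmem : ∀ y : Y, y ∈ Subgroup.centralizer ({t} : Set Y) ↔ t * y = y * t := by
    intro y
    rw [Subgroup.mem_centralizer_iff]
    exact ⟨fun h => h t rfl, fun h z hz => by rw [Set.mem_singleton_iff.1 hz]; exact h⟩
  obtain ⟨h1, h2, h3⟩ := centralizer_form Rd (S := {t}) (by
    rw [Set.singleton_subset_iff]; exact ht) hu hk hv ((hmem _).2 hg)
  rw [hmem] at h1 h2 h3
  have h4 : w ∈ fixS cs Rd.nsys hT ⟨t, ht⟩ := by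
    rw [mem_fixS, act_rp cs Rd.nsys hT hk ht]
    exact mul_inv_eq_iff_eq_mul.2 h2.symm
  obtain ⟨k', hk', hk''⟩ := hfix w h4
  have h5 : k ∈ HH cs h T X t := by
    have h6 : k'⁻¹ * k ∈ T := hk''.unique hk
    have h7 : k = k' * (k'⁻¹ * k) := by group
    rw [h7]
    exact mul_mem hk' (T_le_HH t h6)
  refine mul_mem (mul_mem (sup_fut_le Rd ht 1 ?_ closed_pos hu h1) h5) (sup_fut_le Rd ht 1 ?_ (closed_NW w) hv h3)
  · rw [fut_one]
  · rw [fut_one]
    exact NW_subset_pos w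

/-- representatives of reflections -/
theorem exists_rp_refl (w : W) (i : I) (hne : ∃ u ∈ X (-sr i), u ≠ 1) :
    ∃ k ∈ X (rep cs h w (sr i)) ⊔ X (-rep cs h w (sr i)), Rp cs Rd.nsys (w * cs.simple i * w⁻¹) k := by
  obtain ⟨u, hu, hu1⟩ := hne
  obtain ⟨a, ha, t, ht, b, hb, e⟩ := Rd.rk1 i u hu hu1
  obtain ⟨g, hg⟩ := exists_rp cs Rd.nsys w
  have h1 : t * n i ∈ X (sr i) ⊔ X (-sr i) := by
    have h2 : t * n i = a⁻¹ * u * b⁻¹ := by rw [e]; group
    rw [h2]
    exact mul_mem (mul_mem (inv_mem (Subgroup.mem_sup_left ha)) (Subgroup.mem_sup_right hu))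
      (inv_mem (Subgroup.mem_sup_left hb))
  refine ⟨g * (t * n i) * g⁻¹, ?_, ?_⟩
  · have h2 : cj g (X (sr i)) = X (rep cs h w (sr i)) := Rd.conj_rp hg (isRoot_sr cs h i)
    have h3 : cj g (X (-sr i)) = X (-rep cs h w (sr i)) := by
      rw [← map_neg]
      exact Rd.conj_rp hg (isRoot_sr cs h i).neg
    have h4 : cj g (X (sr i) ⊔ X (-sr i)) = X (rep cs h w (sr i)) ⊔ X (-rep cs h w (sr i)) := by
      rw [← h2, ← h3]
      exact Subgroup.map_sup _ _ _
    rw [← h4]
    exact conj_mem_cj.2 h1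
  · have h2 := (rp_of_mem (cs := cs) (hN := Rd.nsys) ht).mul (rp_simple cs Rd.nsys i)
    rw [one_mul] at h2
    exact (hg.mul h2).mul hg.inv

end

/-! ### Chevalley groups -/

section

variable {D : ChevalleyDatum} {l : ℕ} {M : CoxeterMatrix (Fin l)} (hp : IsType D l M) {K : Type u} [Field K]

/-- the torus and the root groups `X_x` with `x(t) = 1` -/
def HC (t : ↥(D.group K)) : Subgroup ↥(D.group K) :=
  Subgroup.closure ((TT D K : Set ↥(D.group K)) ∪
    {g | ∃ r, r < D.nroots ∧ ch hp (vec D l r) t = 1 ∧ g ∈ XX D l K (vec D l r)})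

theorem TT_le_HC (t : ↥(D.group K)) : TT D K ≤ HC hp t := fun _ ha => Subgroup.subset_closure (Or.inl ha)

variable {W : Type*} [Group W] (cs : CoxeterSystem M W)

theorem XX_le_HC {t : ↥(D.group K)} {x : Fin l → ℤ} (hx : IsRoot cs hp.isCartan x) (h1 : ch hp x t = 1) :
    XX D l K x ≤ HC hp t := by
  obtain ⟨r, hr, rfl⟩ := (isRoot_iff hp cs x).1 hx
  exact fun g hg => Subgroup.subset_closure (Or.inr ⟨r, hr, h1, hg⟩)

variable [Finite K] (p : ℕ) [Fact p.Prime] [CharP K p]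

include p in
theorem HH_le_HC {t : ↥(D.group K)} (ht : t ∈ TT D K) :
    HH cs hp.isCartan (TT D K) (XX D l K) t ≤ HC hp t := by
  refine (Subgroup.closure_le _).2 ?_
  rintro g (hg | ⟨x, hx, hg, hc⟩)
  · exact TT_le_HC hp t hg
  · have C := (coords (K := K) hp cs p).coord x hx
    obtain ⟨a, rfl⟩ := (C.mem g).1 hg
    have h1 := C.act t ht a
    rw [hc, mul_inv_cancel_right] at h1
    have h2 := C.inj h1
    have h3 : (ch hp x t - 1) * a = 0 := by rw [sub_mul, one_mul, ← h2, sub_self]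
    rcases mul_eq_zero.1 h3 with h4 | h4
    · exact XX_le_HC hp cs hx (sub_eq_zero.1 h4) hg
    · rw [h4, C.zero]
      exact one_mem _

include p in
theorem HC_le_HH {t : ↥(D.group K)} (ht : t ∈ TT D K) :
    HC hp t ≤ HH cs hp.isCartan (TT D K) (XX D l K) t := by
  refine (Subgroup.closure_le _).2 ?_
  rintro g (hg | ⟨r, hr, h1, hg⟩)
  · exact T_le_HH t hg
  · have hx := isRoot_vec hp cs hr
    have C := (coords (K := K) hp cs p).coord _ hx
    refine mem_HH hx hg ?_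
    obtain ⟨a, rfl⟩ := (C.mem g).1 hg
    have h2 := C.act t ht a
    rw [h1, one_mul] at h2
    exact mul_inv_eq_iff_eq_mul.1 h2

/-- the reflections `w s_j w⁻¹` fixing `t` with `(w α_j)(t) = 1` -/
def Refl (t : TT D K) : Set W :=
  {v | v ∈ fixS cs (rgd (K := K) hp cs p).nsys (comm_mem_TT hp) t ∧ ∃ w j, v = w * cs.simple j * w⁻¹ ∧
    ch hp (rep cs hp.isCartan w (sr j)) (t : ↥(D.group K)) = 1}

/-- **the centraliser of an element of the torus, if its fixer is generated by reflections** -/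
theorem centralizer_le [Finite W] (t : TT D K)
    (hfix : fixS cs (rgd (K := K) hp cs p).nsys (comm_mem_TT hp) t ≤ Subgroup.closure (Refl hp cs p t))
    {g : ↥(D.group K)} (hg : (t : ↥(D.group K)) * g = g * t) : g ∈ HC hp (t : ↥(D.group K)) := by
  have Rd := rgd (K := K) hp cs p
  have hHC := HC_le_HH hp cs p t.2
  have hne : ∀ i : Fin l, ∃ u ∈ XX D l K (-sr i), u ≠ 1 := by
    intro i
    have hx : IsRoot cs hp.isCartan (-sr i) := (isRoot_sr cs hp.isCartan i).neg
    have C := (coords (K := K) hp cs p).coord _ hx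
    refine ⟨xc hp (-sr i) 1, (C.mem _).2 ⟨1, rfl⟩, fun h => ?_⟩
    rw [← C.zero] at h
    exact one_ne_zero (C.inj h)
  have key : ∀ w ∈ fixS cs Rd.nsys (comm_mem_TT hp) t, ∃ k ∈ HC hp (t : ↥(D.group K)), Rp cs Rd.nsys w k := by
    intro w hw
    have h1 := hfix hw
    clear hw
    induction h1 using Subgroup.closure_induction with
    | mem v hv =>
      obtain ⟨hv1, w, j, rfl, hv2⟩ := hv
      obtain ⟨k, hk, hk'⟩ := exists_rp_refl Rd w j (hne j)
      refine ⟨k, ?_, hk'⟩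
      have hr : IsRoot cs hp.isCartan (rep cs hp.isCartan w (sr j)) := ⟨w, j, rfl⟩
      have h3 : ch hp (-rep cs hp.isCartan w (sr j)) (t : ↥(D.group K)) = 1 := by
        have h4 := ch_fix hp p cs hv1 hr
        have h5 : rep cs hp.isCartan (w * cs.simple j * w⁻¹) (rep cs hp.isCartan w (sr j)) =
            -rep cs hp.isCartan w (sr j) := by
          rw [← rep_mul_apply, inv_mul_cancel_right, rep_mul_apply, rep_simple_sr, map_neg]
        rw [h5] at h4
        rw [h4, hv2]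
      exact (sup_le (XX_le_HC hp cs hr hv2) (XX_le_HC hp cs hr.neg h3)) hk
    | one => exact ⟨1, one_mem _, rp_one⟩
    | mul v w hv hw h1 h2 =>
      obtain ⟨a, ha, ha'⟩ := h1
      obtain ⟨b, hb, hb'⟩ := h2
      exact ⟨a * b, mul_mem ha hb, ha'.mul hb'⟩
    | inv v hv h1 =>
      obtain ⟨a, ha, ha'⟩ := h1
      exact ⟨a⁻¹, inv_mem ha, ha'.inv⟩
  refine HH_le_HC hp cs p t.2 (cent_le Rd (GG_eq_top hp cs) (comm_mem_TT hp) t.2 (fun w hw => ?_) hg)
  obtain ⟨k, hk, hk'⟩ := key w hw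
  exact ⟨k, hHC hk, hk'⟩

end

/-! ### the fixer of an involution with a checked table -/

section

variable {D : ChevalleyDatum} {l : ℕ} {M : CoxeterMatrix (Fin l)} {hp : IsType D l M}
  {W : Type*} [Group W] {cs : CoxeterSystem M W} {T : Tab l} {i₀ : Fin l} (L : Lnk hp cs T i₀)

include L in
/-- the fixer is generated by the reflections of the table -/
theorem fix_gen {K : Type u} [Field K] [Finite K] (p : ℕ) [Fact p.Prime] [CharP K p] [Finite W] (hok : T.Ok)
    (hβ : ∃ r < T.N, vf T r i₀ ≠ 0) (t : TT D K)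
    (hch : ∀ x, IsRoot cs hp.isCartan x → (ch hp x (t : ↥(D.group K)) = 1 ↔ Even (x i₀)))
    (hw : ∀ i : Fin l, cs.wordProd (T.w i) ∈ fixS cs (rgd (K := K) hp cs p).nsys (comm_mem_TT hp) t)
    (Ls : List (List Node)) (hLs : chainOK l [] T.A l Ls = true)
    (hcard : Nat.card ↥(fixS cs (rgd (K := K) hp cs p).nsys (comm_mem_TT hp) t) = pe 1 (poly Ls)) :
    fixS cs (rgd (K := K) hp cs p).nsys (comm_mem_TT hp) t ≤
      Subgroup.closure (Set.range fun i : Fin l => cs.wordProd (T.w i)) := by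
  classical
  set C := fixS cs (rgd (K := K) hp cs p).nsys (comm_mem_TT hp) t with hCdef
  have hC : ∀ w ∈ C, ∀ x, IsRoot cs hp.isCartan x → Even (x i₀) → Even (rep cs hp.isCartan w x i₀) := by
    intro w hw x hx h0
    rw [← hch _ (hx.act w), ch_fix hp p cs hw hx, hch x hx]
    exact h0
  obtain ⟨ρ, hρ⟩ := exists_rho L C hC
  set R := Tab.rdata hok with hR
  have hinj : Function.Injective ρ := by
    rw [injective_iff_map_eq_one]
    intro w hw1
    apply Subtype.ext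
    refine eq_one_of_fix' L hβ fun r hr => ?_
    have h1 := hρ w ⟨r, hr⟩
    rw [hw1, Equiv.Perm.one_apply] at h1
    exact h1.symm
  have hgen : ∀ i : Fin l, ρ ⟨cs.wordProd (T.w i), hw i⟩ = R.refl i := by
    intro i
    ext r
    have h1 := hρ ⟨cs.wordProd (T.w i), hw i⟩ r
    rw [L.act i r r.2] at h1
    exact L.inj _ (Fin.is_lt _) _ (hok.fl i i.2 r r.2) h1
  have hle : R.W Set.univ ≤ ρ.range := by
    unfold RData.W
    rw [Subgroup.closure_le]
    rintro _ ⟨i, -, rfl⟩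
    exact ⟨_, hgen i⟩
  have hfin : Finite (Equiv.Perm (Fin T.N)) := inferInstance
  have hc1 : Nat.card ρ.range = Nat.card C :=
    (Nat.card_congr (MonoidHom.ofInjective hinj).toEquiv).symm
  have hc2 : Nat.card (R.W Set.univ) = Nat.card C := by
    rw [hcard, ← sum_W R T.A (fun _ _ => rfl) (fun i => hok.al i i.2) Ls hLs 1]
    simp only [one_pow]
    rw [finsum_mem_eq_finite_toFinset_sum _ (Set.toFinite _), Finset.sum_const, smul_eq_mul, mul_one,
      ← Set.ncard_eq_toFinset_card]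
    exact Nat.card_coe_set_eq (R.W Set.univ : Set (Equiv.Perm (Fin T.N)))
  have heq : R.W Set.univ = ρ.range := by
    refine Subgroup.eq_of_le_of_card_ge hle ?_
    rw [hc1, hc2]
  intro w hwC
  have h1 : ρ ⟨w, hwC⟩ ∈ R.W Set.univ := by rw [heq]; exact ⟨_, rfl⟩
  have h2 : R.W Set.univ ≤ ((Subgroup.closure (Set.range fun i : Fin l => cs.wordProd (T.w i))).subgroupOf C).map ρ := by
    unfold RData.W
    rw [Subgroup.closure_le]
    rintro _ ⟨i, -, rfl⟩
    exact ⟨⟨cs.wordProd (T.w i), hw i⟩, Subgroup.subset_closure ⟨i, rfl⟩, hgen i⟩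
  obtain ⟨v, hv, e⟩ := h2 h1
  have h3 := hinj e
  rw [h3] at hv
  exact hv

/-- the words of the table are reflections in roots with even coordinate `i₀` -/
def okW (T : Tab l) (rows : List (List ℤ)) (i₀ : ℕ) : Bool := (List.range l).all fun i =>
  match (T.w i).drop ((T.w i).length / 2) with
  | [] => false
  | j :: ω => (T.w i).take ((T.w i).length / 2) == ω.reverse &&
    decide ((actList rows (((T.w i).take ((T.w i).length / 2)).map Fin.val) (unit l j)).getD i₀ 0 % 2 = 0)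

theorem okW_spec {rw : List (List ℤ)} (hrw : rows (cartanOf D l) = rw) (h : okW T rw i₀ = true) (i : Fin l) :
    ∃ (ω : List (Fin l)) (j : Fin l), T.w i = ω ++ j :: ω.reverse ∧
      Even (rep cs hp.isCartan (cs.wordProd ω) (sr j) i₀) := by
  unfold okW at h
  simp only [List.all_eq_true, List.mem_range] at h
  have h1 := h i i.2
  split at h1
  · exact absurd h1 (by simp)
  · rename_i j ω e
    rw [Bool.and_eq_true, beq_iff_eq, decide_eq_true_eq] at h1
    obtain ⟨h2, h3⟩ := h1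
    refine ⟨ω.reverse, j, ?_, ?_⟩
    · rw [List.reverse_reverse, ← h2, ← e, List.take_append_drop]
    · rw [← hrw, ← ofFn_single, actList_ofFn cs hp.isCartan, getD_ofFn, h2] at h3
      exact Int.even_iff.2 h3

end

end Cfsg.Agent.H557.Co3
end

-- part: H557/Co3/CentE8
section
/-!
# Generators of the centralisers of the involutions of `chevE8` (helper557, S1920)

* `GC hp i₀` : the subgroup of `D.group K` generated by the diagonal subgroup and the `x_r(a)`, `r` with even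
  coordinate at the node `i₀`;
* `cent_le` : `C(t) ≤ GC` for the involution `t = th hp (sg K l n)` of a class with checked tables;
* `cent_D8`, `cent_E7A1` : the two classes of `chevE8`.
-/

set_option autoImplicit false
set_option linter.unusedSectionVars false

namespace Cfsg.Agent.H557.Co3.CentE8

open CoxeterSystem Cfsg.Agent.ChevalleyStructure.CoxeterGeom Cfsg.Agent.Tits.Roots Cfsg.Agent.Tits.Core
  Cfsg.Agent.Nodes.Reps Cfsg.Agent.Nodes.BNOf
  Cfsg.Agent.H557.CardCent Cfsg.Agent.H557.WAct Cfsg.Agent.H557.CentChev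
open Cfsg.Lie Cfsg.Agent.ChevalleyStructure Cfsg.Agent.ChevalleyStructure.Elts
  Cfsg.Agent.ChevalleyStructure.RootVec
  Cfsg.Agent.ChevalleyStructure.CoxeterGeomTypes Cfsg.Agent.Nodes.RGDChev
  Cfsg.Agent.KFacts.RgdChevCoord Cfsg.Agent.OddHalf.NI.ModelChev Cfsg.Agent.H557.Toral
open Cfsg.Agent.ChevalleyStructure.WeylStep Cfsg.Agent.ChevalleyStructure.CoxeterWordCheck
  Cfsg.Agent.H557.SubTab Cfsg.Agent.H557.SumHom
  Cfsg.Agent.H557.SubLink Cfsg.Agent.H557.SignTorus Cfsg.Agent.H557.InvClass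
  Cfsg.Agent.H557.ToralTypes Cfsg.Agent.H557.LinkE8 Cfsg.Agent.H557.OrbE8 Cfsg.Agent.H557.InvE8

universe u

section

variable {D : ChevalleyDatum} {l : ℕ} {M : CoxeterMatrix (Fin l)} (hp : IsType D l M)

/-- the subgroup generated by the diagonal subgroup and the `x_r(a)`, `r` with even coordinate at `i₀` -/
def GC (K : Type u) [Field K] (i₀ : Fin l) : Subgroup ↥(D.group K) :=
  Subgroup.closure ({g | g ∈ TT D K} ∪
    {g | ∃ (r : ℕ) (a : K), r < D.nroots ∧ Even (vec D l r i₀) ∧ (g : GL D.Idx K) = xG hp.inList r a})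

variable {W : Type*} [Group W] (cs : CoxeterSystem M W) {K : Type u} [Field K] [Finite K] (p : ℕ) [Fact p.Prime] [CharP K p]

include cs p in
theorem HC_le_GC {i₀ : Fin l} {t : ↥(D.group K)}
    (hch : ∀ x, IsRoot cs hp.isCartan x → (ch hp x t = 1 ↔ Even (x i₀))) : HC hp t ≤ GC hp K i₀ := by
  refine (Subgroup.closure_le _).2 ?_
  rintro g (hg | ⟨r, hr, h1, hg⟩)
  · exact Subgroup.subset_closure (Or.inl hg)
  · have hx := isRoot_vec hp cs hr
    have C := (coords (K := K) hp cs p).coord _ hx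
    obtain ⟨a, rfl⟩ := (C.mem g).1 hg
    exact Subgroup.subset_closure (Or.inr ⟨r, a, hr, (hch _ hx).1 h1, coe_xc hp hr a⟩)

variable {hp cs} {cm : List ℕ} {T : Tab l} {ds : List ℕ} {n O : ℕ} (C : ClassData hp cs cm T ds n O)
  (hcm : OkC (cartanOf D l) cm)

include hcm p in
/-- **generators of the centraliser of an involution of the torus** -/
theorem cent_le [Finite W] (h2 : (2 : K) ≠ 0) (hth : ∀ t : Fin l → Kˣ, th hp t = 1 → t = 1)
    {rw : List (List ℤ)} (hrw : rows (cartanOf D l) = rw) (hok : okW T rw C.i₀ = true) {g : ↥(D.group K)}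
    (hg : th hp (sg K l n) * g = g * th hp (sg K l n)) : g ∈ GC hp K C.i₀ := by
  have hch : ∀ x, IsRoot cs hp.isCartan x → (ch hp x ((thT hp (sg K l n) : TT D K) : ↥(D.group K)) = 1 ↔ Even (x C.i₀)) :=
    fun x hx => ch_sg hp cs hcm hx h2 C.n0
  have hw : ∀ i : Fin l, cs.wordProd (T.w i) ∈ fixS cs (rgd (K := K) hp cs p).nsys (comm_mem_TT hp)
      (thT hp (sg K l n)) := by
    intro i
    show actHom cs (rgd (K := K) hp cs p).nsys (comm_mem_TT hp) (cs.wordProd (T.w i)) (thT hp (sg K l n)) =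
      thT hp (sg K l n)
    rw [act_word hp cs hcm p, C.wd i]
  have hcard : Nat.card ↥(fixS cs (rgd (K := K) hp cs p).nsys (comm_mem_TT hp) (thT hp (sg K l n))) =
      pe 1 (poly C.Ls) := by
    have h3 := card_orbit hp cs hcm p h2 hth C.n_lt C.nO C.okO C.okC C.lc
    rw [← C.cW] at h3
    exact Nat.eq_of_mul_eq_mul_right C.c0 h3
  refine HC_le_GC hp cs p hch (centralizer_le hp cs p (thT hp (sg K l n))
    ((fix_gen C.L p C.ok C.beta (thT hp (sg K l n)) hch hw C.Ls C.ch hcard).trans ?_) hg)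
  refine Subgroup.closure_mono ?_
  rintro _ ⟨i, rfl⟩
  obtain ⟨ω, j, e, h5⟩ := okW_spec (hp := hp) (cs := cs) hrw hok i
  refine ⟨hw i, cs.wordProd ω, j, ?_, (hch _ ⟨_, j, rfl⟩).2 h5⟩
  show cs.wordProd (T.w i) = _
  rw [e, wordProd_append, wordProd_cons, wordProd_reverse, mul_assoc]

end

/-! ### `chevE8` -/

section

variable {K : Type u} [Field K] [Finite K]

theorem W_TabD8 : okW TabD8.tab rw 0 = true := by decide +kernel

theorem exists_p (ho : Odd (Nat.card K)) : ∃ p : ℕ, ∃ _ : Fact p.Prime, CharP K p ∧ (2 : K) ≠ 0 := by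
  have hfin : Fintype K := Fintype.ofFinite K
  rw [Nat.card_eq_fintype_card] at ho
  obtain ⟨p, hpp, hpc, hp2⟩ := exists_char K ho
  have : Fact p.Prime := ⟨hpp⟩
  refine ⟨p, this, hpc, fun h => ?_⟩
  have h3 : p ∣ 2 := (CharP.cast_eq_zero_iff K p 2).1 (by exact_mod_cast h)
  have h4 := (Nat.prime_dvd_prime_iff_eq hpp Nat.prime_two).1 h3
  rw [h4] at hp2
  exact absurd hp2 (by decide)

/-- **the centraliser of the involution of type `D8`** -/
theorem cent_D8 (ho : Odd (Nat.card K)) {g : ↥(chevE8.group K)}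
    (hg : th Nodes.KindE.isType8 (sg K 8 n_TabD8) * g = g * th Nodes.KindE.isType8 (sg K 8 n_TabD8)) :
    g ∈ GC Nodes.KindE.isType8 K 0 := by
  obtain ⟨p, hp, hpc, h2⟩ := exists_p ho
  have hfin : Fintype K := Fintype.ofFinite K
  have hW : Finite (CoxeterMatrix.E₈).Group := Nat.finite_of_card_ne_zero (by rw [cardW]; norm_num)
  exact cent_le p D_TabD8 hcm h2 inj_E8 hrw W_TabD8 hg

end

end Cfsg.Agent.H557.Co3.CentE8
end
end

-- part: H14/C3/SecFive
section
prune_inst 0xd40041400500100000000010a0000000400000000000000000a00800010084620000a000a08000000000080400300040000000000000000000000000011804811000000001000000000080000080000000000000000000000000000000000000200000000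
set_option linter.all false
open scoped Cfsg.Agent.FastGrp

-- part: H14/C3/ArfAlg
section
/-!
# S1920, case B, `POmega`, the group `D₈ ∘ Q₈` (helper14): the algebra

`AO Q W n1 m1 n2 m2 α β` : isometries `n1, m1` (generating a `D₈`) and `n2, m2` (generating a `Q₈`) of the subspace `W`,
`α² + β² = -1`.  `Mo` = `{v ∈ W | n1 v = v, α n2 v + β m2 v = v}` is totally isotropic and carries the alternating form
`B(v, d w)`, `d = n2 m2`; `Sp(Mo)` acts on `V` and commutes with `n1, m1, n2, m2`: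
* `T v w` : the rank one operator `u ↦ B(d w, u) v` of `Mo`, extended to `V`; `T_comp`, `T_comm`;
* `exists_X` : the elements of `SL₂(K)` on a hyperbolic plane of `Mo` extend to elements of `Ω(V) = E Q`.
-/

set_option autoImplicit false
set_option linter.unusedVariables false

namespace Cfsg.Agent.H14.C3

open Cfsg.Agent.LieClassical.OrthCore QuadraticMap

variable {K : Type*} [Field K] {V : Type*} [AddCommGroup V] [Module K V]

/-- the configuration `D₈ ∘ Q₈` on the subspace `W` -/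
structure AO (Q : QuadraticForm K V) (W : Submodule K V) (n1 m1 n2 m2 : V ≃ₗ[K] V) (α β : K) : Prop where
  two : (2 : K) ≠ 0
  On1 : n1 ∈ O Q
  Om1 : m1 ∈ O Q
  On2 : n2 ∈ O Q
  Om2 : m2 ∈ O Q
  Wn1 : ∀ v ∈ W, n1 v ∈ W
  Wm1 : ∀ v ∈ W, m1 v ∈ W
  Wn2 : ∀ v ∈ W, n2 v ∈ W
  Wm2 : ∀ v ∈ W, m2 v ∈ W
  n1n1 : ∀ v ∈ W, n1 (n1 v) = v
  m1m1 : ∀ v ∈ W, m1 (m1 v) = v
  n2n2 : ∀ v ∈ W, n2 (n2 v) = -v
  m2m2 : ∀ v ∈ W, m2 (m2 v) = -v
  n1m1 : ∀ v ∈ W, n1 (m1 v) = -m1 (n1 v)
  n2m2 : ∀ v ∈ W, n2 (m2 v) = -m2 (n2 v)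
  n1n2 : ∀ v ∈ W, n1 (n2 v) = n2 (n1 v)
  n1m2 : ∀ v ∈ W, n1 (m2 v) = m2 (n1 v)
  m1n2 : ∀ v ∈ W, m1 (n2 v) = n2 (m1 v)
  m1m2 : ∀ v ∈ W, m1 (m2 v) = m2 (m1 v)
  ab : α * α + β * β = -1

/-- the symplectic space -/
def Mo (W : Submodule K V) (n1 n2 m2 : V ≃ₗ[K] V) (α β : K) : Submodule K V where
  carrier := {v | v ∈ W ∧ n1 v = v ∧ α • n2 v + β • m2 v = v}
  zero_mem' := ⟨W.zero_mem, map_zero _, by simp⟩
  add_mem' := by
    rintro v w ⟨h1, h2, h3⟩ ⟨h4, h5, h6⟩
    refine ⟨W.add_mem h1 h4, by rw [map_add, h2, h5], ?_⟩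
    rw [map_add, map_add]
    calc _ = (α • n2 v + β • m2 v) + (α • n2 w + β • m2 w) := by module
      _ = _ := by rw [h3, h6]
  smul_mem' := by
    rintro c v ⟨h1, h2, h3⟩
    refine ⟨W.smul_mem c h1, by rw [map_smul, h2], ?_⟩
    rw [map_smul, map_smul]
    calc _ = c • (α • n2 v + β • m2 v) := by module
      _ = _ := by rw [h3]

/-- `d = n2 m2` -/
def dd (n2 m2 : V ≃ₗ[K] V) : V ≃ₗ[K] V := n2 * m2

theorem dd_apply (n2 m2 : V ≃ₗ[K] V) (v : V) : dd n2 m2 v = n2 (m2 v) := rfl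

/-- the operator `T v w` -/
def TT (Q : QuadraticForm K V) (m1 d : V ≃ₗ[K] V) (v w : V) : V →ₗ[K] V :=
  (polarBilin Q (d w)).smulRight v - (polarBilin Q w).smulRight (d v)
    + (polarBilin Q (m1 (d w))).smulRight (m1 v) - (polarBilin Q (m1 w)).smulRight (m1 (d v))

theorem TT_apply (Q : QuadraticForm K V) (m1 d : V ≃ₗ[K] V) (v w y : V) :
    TT Q m1 d v w y = polar Q (d w) y • v - polar Q w y • d v + polar Q (m1 (d w)) y • m1 v
      - polar Q (m1 w) y • m1 (d v) := rfl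

/-- the extension of a 2×2 matrix -/
def XX (Q : QuadraticForm K V) (m1 d : V ≃ₗ[K] V) (v w : V) (a b c e : K) : V →ₗ[K] V :=
  LinearMap.id + (a - 1) • TT Q m1 d v w + c • TT Q m1 d w w - b • TT Q m1 d v v + (1 - e) • TT Q m1 d w v

theorem XX_apply (Q : QuadraticForm K V) (m1 d : V ≃ₗ[K] V) (v w : V) (a b c e : K) (y : V) :
    XX Q m1 d v w a b c e y = y + (a - 1) • TT Q m1 d v w y + c • TT Q m1 d w w y - b • TT Q m1 d v v y
      + (1 - e) • TT Q m1 d w v y := rfl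

theorem XX_congr {Q : QuadraticForm K V} {m1 d : V ≃ₗ[K] V} {v w : V} {a b c e a' b' c' e' : K} (h1 : a = a')
    (h2 : b = b') (h3 : c = c') (h4 : e = e') (y : V) : XX Q m1 d v w a b c e y = XX Q m1 d v w a' b' c' e' y := by
  rw [h1, h2, h3, h4]

theorem X_comm {Q : QuadraticForm K V} {m1 d : V ≃ₗ[K] V} {v w : V} {s : V ≃ₗ[K] V}
    (h : ∀ v' w' : V, (v' = v ∨ v' = w) → (w' = v ∨ w' = w) → ∀ y, TT Q m1 d v' w' (s y) = s (TT Q m1 d v' w' y))
    (a b c e : K) (y : V) :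
    XX Q m1 d v w a b c e (s y) = s (XX Q m1 d v w a b c e y) := by
  rw [XX_apply, XX_apply, h v w (Or.inl rfl) (Or.inr rfl), h w w (Or.inr rfl) (Or.inr rfl),
    h v v (Or.inl rfl) (Or.inl rfl), h w v (Or.inr rfl) (Or.inl rfl)]
  simp only [map_add, map_sub, map_smul]

namespace AO

variable {Q : QuadraticForm K V} {W : Submodule K V} {n1 m1 n2 m2 : V ≃ₗ[K] V} {α β : K}

local notation "B" => polar Q
local notation "d" => dd n2 m2
local notation "M" => Mo W n1 n2 m2 α β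

section
variable (A : AO Q W n1 m1 n2 m2 α β)
include A

theorem Od : d ∈ O Q := (O Q).mul_mem A.On2 A.Om2

theorem Wd {v : V} (hv : v ∈ W) : d v ∈ W := A.Wn2 _ (A.Wm2 _ hv)

theorem ddd {v : V} (hv : v ∈ W) : d (d v) = -v := by
  rw [dd_apply, dd_apply, A.n2m2 _ (A.Wn2 _ (A.Wm2 _ hv)), A.n2n2 _ (A.Wm2 _ hv), map_neg, neg_neg, A.m2m2 _ hv]

theorem n1d {v : V} (hv : v ∈ W) : n1 (d v) = d (n1 v) := by
  rw [dd_apply, dd_apply, A.n1n2 _ (A.Wm2 _ hv), A.n1m2 _ hv]

theorem n2d {v : V} (hv : v ∈ W) : n2 (d v) = -d (n2 v) := by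
  rw [dd_apply, dd_apply, A.n2m2 _ hv, map_neg, A.n2m2 _ (A.Wn2 _ hv)]

theorem m2d {v : V} (hv : v ∈ W) : m2 (d v) = -d (m2 v) := by
  rw [dd_apply, dd_apply, A.n2m2 _ (A.Wm2 _ hv), neg_neg]

theorem n2v {v : V} (hv : v ∈ M) : n2 v = -α • v + β • d v := by
  obtain ⟨hW, h1, h2⟩ := hv
  have h3 := congrArg n2 h2
  rw [map_add, map_smul, map_smul, A.n2n2 _ hW, ← dd_apply] at h3
  rw [← h3]; module

theorem m2v {v : V} (hv : v ∈ M) : m2 v = -β • v - α • d v := by
  obtain ⟨hW, h1, h2⟩ := hv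
  have h3 := congrArg m2 h2
  rw [map_add, map_smul, map_smul, A.m2m2 _ hW] at h3
  have h4 : m2 (n2 v) = -d v := by rw [dd_apply, A.n2m2 _ hW, neg_neg]
  rw [h4] at h3
  rw [← h3]; module

theorem half {a : K} (h : a = -a) : a = 0 := by
  have : (2 : K) * a = 0 := by linear_combination h
  rcases mul_eq_zero.1 this with h2 | h2
  · exact absurd h2 A.two
  · exact h2

theorem Bn2 {v w : V} (hv : v ∈ W) : B (n2 v) w = - B v (n2 w) := by
  rw [← polar_map A.On2 (n2 v) w, A.n2n2 _ hv, polar_neg_left]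

theorem Bm2 {v w : V} (hv : v ∈ W) : B (m2 v) w = - B v (m2 w) := by
  rw [← polar_map A.Om2 (m2 v) w, A.m2m2 _ hv, polar_neg_left]

theorem Bd {v w : V} (hv : v ∈ W) : B (d v) w = - B v (d w) := by
  rw [← polar_map A.Od (d v) w, A.ddd hv, polar_neg_left]

theorem Bm1 {v w : V} (hv : v ∈ W) : B (m1 v) w = B v (m1 w) := by
  rw [← polar_map A.Om1 (m1 v) w, A.m1m1 _ hv]

theorem Bn1 {v w : V} (hv : v ∈ W) : B (n1 v) w = B v (n1 w) := by
  rw [← polar_map A.On1 (n1 v) w, A.n1n1 _ hv]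

theorem Bdd (v w : V) : B (d v) (d w) = B v w := polar_map A.Od v w

theorem Bmm (v w : V) : B (m1 v) (m1 w) = B v w := polar_map A.Om1 v w

theorem Bvw {v w : V} (hv : v ∈ M) (hw : w ∈ M) : B v w = 0 := by
  apply A.half
  calc B v w = B (α • n2 v + β • m2 v) w := by rw [hv.2.2]
    _ = - B v (α • n2 w + β • m2 w) := by
      rw [polar_add_left, polar_smul_left, polar_smul_left, A.Bn2 hv.1, A.Bm2 hv.1, polar_add_right,
        polar_smul_right, polar_smul_right]
      simp only [smul_eq_mul]; ring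
    _ = - B v w := by rw [hw.2.2]

/-- orthogonality of the eigenspaces of `n1` -/
theorem Bm {v w : V} (hv : v ∈ W) (hw : w ∈ W) (h1 : n1 v = v) (h2 : n1 w = w) : B v (m1 w) = 0 := by
  apply A.half
  calc B v (m1 w) = B (n1 v) (n1 (m1 w)) := (polar_map A.On1 _ _).symm
    _ = - B v (m1 w) := by rw [h1, A.n1m1 _ hw, h2, polar_neg_right]

theorem n1dv {v : V} (hv : v ∈ M) : n1 (d v) = d v := by rw [A.n1d hv.1, hv.2.1]

theorem Qv {v : V} (hv : v ∈ M) : Q v = 0 := by
  have h := A.Bvw hv hv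
  rw [polar_self'] at h
  exact (mul_eq_zero.1 h).resolve_left A.two

theorem Bvdv {v : V} (hv : v ∈ W) : B v (d v) = 0 := by
  apply A.half
  rw [← A.Bd hv, polar_comm]

theorem sym {v w : V} (hv : v ∈ W) : B (d v) w = - B (d w) v := by
  rw [A.Bd hv, polar_comm]

theorem T_M {v w u : V} (hv : v ∈ M) (hw : w ∈ M) (hu : u ∈ M) : TT Q m1 d v w u = B (d w) u • v := by
  rw [TT_apply, A.Bvw hw hu, A.Bm1 (A.Wd hw.1), A.Bm (A.Wd hw.1) hu.1 (A.n1dv hw) hu.2.1, A.Bm1 hw.1,
    A.Bm hw.1 hu.1 hw.2.1 hu.2.1]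
  module

theorem T_dM {v w u : V} (hv : v ∈ M) (hw : w ∈ M) (hu : u ∈ M) : TT Q m1 d v w (d u) = B (d w) u • d v := by
  have hd := A.Wd hu.1
  rw [TT_apply, A.Bdd, A.Bvw hw hu, A.Bm1 (A.Wd hw.1), A.Bm (A.Wd hw.1) hd (A.n1dv hw) (A.n1dv hu), A.Bm1 hw.1,
    A.Bm hw.1 hd hw.2.1 (A.n1dv hu), A.Bd hw.1]
  module

theorem T_mM {v w u : V} (hv : v ∈ M) (hw : w ∈ M) (hu : u ∈ M) : TT Q m1 d v w (m1 u) = B (d w) u • m1 v := by
  rw [TT_apply, A.Bmm, A.Bmm, A.Bvw hw hu, A.Bm (A.Wd hw.1) hu.1 (A.n1dv hw) hu.2.1,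
    A.Bm hw.1 hu.1 hw.2.1 hu.2.1]
  module

theorem T_mdM {v w u : V} (hv : v ∈ M) (hw : w ∈ M) (hu : u ∈ M) :
    TT Q m1 d v w (m1 (d u)) = B (d w) u • m1 (d v) := by
  have hd := A.Wd hu.1
  rw [TT_apply, A.Bmm, A.Bmm, A.Bdd, A.Bvw hw hu, A.Bm (A.Wd hw.1) hd (A.n1dv hw) (A.n1dv hu),
    A.Bm hw.1 hd hw.2.1 (A.n1dv hu), A.Bd hw.1]
  module

theorem T_comp {v w v' w' : V} (hv : v ∈ M) (hw : w ∈ M) (hv' : v' ∈ M) (y : V) :
    TT Q m1 d v w (TT Q m1 d v' w' y) = B (d w) v' • TT Q m1 d v w' y := by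
  rw [TT_apply Q m1 d v' w' y, map_sub, map_add, map_sub, map_smul, map_smul, map_smul, map_smul,
    A.T_M hv hw hv', A.T_dM hv hw hv', A.T_mM hv hw hv', A.T_mdM hv hw hv', TT_apply]
  module

theorem T_perp {v w y : V} (hw : w ∈ M) (hy : ∀ u ∈ W, B u y = 0) : TT Q m1 d v w y = 0 := by
  rw [TT_apply, hy _ (A.Wd hw.1), hy _ hw.1, hy _ (A.Wm1 _ (A.Wd hw.1)), hy _ (A.Wm1 _ hw.1)]
  module

theorem T_n1 {v w : V} (hv : v ∈ M) (hw : w ∈ M) (y : V) :
    TT Q m1 d v w (n1 y) = n1 (TT Q m1 d v w y) := by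
  have h1 : n1 (m1 v) = -m1 v := by rw [A.n1m1 _ hv.1, hv.2.1]
  have h2 : n1 (m1 (d v)) = -m1 (d v) := by rw [A.n1m1 _ (A.Wd hv.1), A.n1dv hv]
  have h3 : n1 (m1 w) = -m1 w := by rw [A.n1m1 _ hw.1, hw.2.1]
  have h4 : n1 (m1 (d w)) = -m1 (d w) := by rw [A.n1m1 _ (A.Wd hw.1), A.n1dv hw]
  rw [TT_apply, TT_apply, ← A.Bn1 (A.Wd hw.1), ← A.Bn1 hw.1, ← A.Bn1 (A.Wm1 _ (A.Wd hw.1)),
    ← A.Bn1 (A.Wm1 _ hw.1), h3, h4, A.n1dv hw, hw.2.1]
  simp only [map_sub, map_add, map_smul, h1, h2, hv.2.1, A.n1dv hv, polar_neg_left]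
  module

theorem T_m1 {v w : V} (hv : v ∈ M) (hw : w ∈ M) (y : V) :
    TT Q m1 d v w (m1 y) = m1 (TT Q m1 d v w y) := by
  rw [TT_apply, TT_apply, A.Bmm, A.Bmm, ← A.Bm1 (A.Wd hw.1), ← A.Bm1 hw.1]
  simp only [map_sub, map_add, map_smul, A.m1m1 _ hv.1, A.m1m1 _ (A.Wd hv.1)]
  module

theorem n2dv {v : V} (hv : v ∈ M) : n2 (d v) = α • d v + β • v := by
  rw [A.n2d hv.1, A.n2v hv, map_add, map_smul, map_smul, A.ddd hv.1]; module

theorem m2dv {v : V} (hv : v ∈ M) : m2 (d v) = β • d v - α • v := by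
  rw [A.m2d hv.1, A.m2v hv, map_sub, map_smul, map_smul, A.ddd hv.1]; module

theorem T_n2 {v w : V} (hv : v ∈ M) (hw : w ∈ M) (y : V) :
    TT Q m1 d v w (n2 y) = n2 (TT Q m1 d v w y) := by
  have e1 : B (d w) (n2 y) = -(α * B (d w) y + β * B w y) := by
    have := A.Bn2 (w := y) (A.Wd hw.1)
    rw [A.n2dv hw, polar_add_left, polar_smul_left, polar_smul_left, smul_eq_mul, smul_eq_mul] at this
    linear_combination this
  have e2 : B w (n2 y) = α * B w y - β * B (d w) y := by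
    have := A.Bn2 (w := y) hw.1
    rw [A.n2v hw, polar_add_left, polar_smul_left, polar_smul_left, smul_eq_mul, smul_eq_mul] at this
    linear_combination this
  have e3 : B (m1 (d w)) (n2 y) = -(α * B (m1 (d w)) y + β * B (m1 w) y) := by
    have := A.Bn2 (w := y) (A.Wm1 _ (A.Wd hw.1))
    rw [← A.m1n2 _ (A.Wd hw.1), A.n2dv hw, map_add, map_smul, map_smul, polar_add_left, polar_smul_left,
      polar_smul_left, smul_eq_mul, smul_eq_mul] at this
    linear_combination this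
  have e4 : B (m1 w) (n2 y) = α * B (m1 w) y - β * B (m1 (d w)) y := by
    have := A.Bn2 (w := y) (A.Wm1 _ hw.1)
    rw [← A.m1n2 _ hw.1, A.n2v hw, map_add, map_smul, map_smul, polar_add_left, polar_smul_left,
      polar_smul_left, smul_eq_mul, smul_eq_mul] at this
    linear_combination this
  rw [TT_apply, TT_apply, e1, e2, e3, e4]
  simp only [map_sub, map_add, map_smul, ← A.m1n2 _ hv.1, ← A.m1n2 _ (A.Wd hv.1), A.n2v hv, A.n2dv hv]
  module

theorem T_m2 {v w : V} (hv : v ∈ M) (hw : w ∈ M) (y : V) :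
    TT Q m1 d v w (m2 y) = m2 (TT Q m1 d v w y) := by
  have e1 : B (d w) (m2 y) = -(β * B (d w) y - α * B w y) := by
    have := A.Bm2 (w := y) (A.Wd hw.1)
    rw [A.m2dv hw, polar_sub_left, polar_smul_left, polar_smul_left, smul_eq_mul, smul_eq_mul] at this
    linear_combination this
  have e2 : B w (m2 y) = β * B w y + α * B (d w) y := by
    have := A.Bm2 (w := y) hw.1
    rw [A.m2v hw, polar_sub_left, polar_smul_left, polar_smul_left, smul_eq_mul, smul_eq_mul] at this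
    linear_combination this
  have e3 : B (m1 (d w)) (m2 y) = -(β * B (m1 (d w)) y - α * B (m1 w) y) := by
    have := A.Bm2 (w := y) (A.Wm1 _ (A.Wd hw.1))
    rw [← A.m1m2 _ (A.Wd hw.1), A.m2dv hw, map_sub, map_smul, map_smul, polar_sub_left, polar_smul_left,
      polar_smul_left, smul_eq_mul, smul_eq_mul] at this
    linear_combination this
  have e4 : B (m1 w) (m2 y) = β * B (m1 w) y + α * B (m1 (d w)) y := by
    have := A.Bm2 (w := y) (A.Wm1 _ hw.1)
    rw [← A.m1m2 _ hw.1, A.m2v hw, map_sub, map_smul, map_smul, polar_sub_left, polar_smul_left,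
      polar_smul_left, smul_eq_mul, smul_eq_mul] at this
    linear_combination this
  rw [TT_apply, TT_apply, e1, e2, e3, e4]
  simp only [map_sub, map_add, map_smul, ← A.m1m2 _ hv.1, ← A.m1m2 _ (A.Wd hv.1), A.m2v hv, A.m2dv hv]
  module

/-- commutation with an isometry acting by `ε` -/
theorem T_eps {v w : V} {s : V ≃ₗ[K] V} {ε : K} (hε : ε * ε = 1) (hs : s ∈ O Q)
    (hsm : ∀ u ∈ W, s (m1 u) = m1 (s u)) (hsd : ∀ u ∈ W, s (d u) = d (s u))
    (hv : v ∈ M) (hw : w ∈ M) (h1 : s v = ε • v) (h2 : s w = ε • w) (y : V) :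
    TT Q m1 d v w (s y) = s (TT Q m1 d v w y) := by
  have key : ∀ u : V, s u = ε • u → B u (s y) = ε * B u y := by
    intro u hu
    have h3 := polar_map hs u y
    rw [hu, polar_smul_left, smul_eq_mul] at h3
    calc B u (s y) = ε * (ε * B u (s y)) := by rw [← mul_assoc, hε, one_mul]
      _ = _ := by rw [h3]
  have hdw : s (d w) = ε • d w := by rw [hsd _ hw.1, h2, map_smul]
  have hdv : s (d v) = ε • d v := by rw [hsd _ hv.1, h1, map_smul]
  rw [TT_apply, TT_apply, key _ hdw, key _ h2, key _ (by rw [hsm _ (A.Wd hw.1), hdw, map_smul]),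
    key _ (by rw [hsm _ hw.1, h2, map_smul])]
  simp only [map_sub, map_add, map_smul, h1, hdv, hsm _ hv.1, hsm _ (A.Wd hv.1)]
  module

/-- the elements of `E Q` commuting with everything -/
theorem exists_tau {v : V} (hv : v ∈ M) (a : K) : ∃ g ∈ E Q, ∀ y, g y = y + a • TT Q m1 d v v y := by
  have hQv := A.Qv hv
  have hQm : Q (m1 v) = 0 := by rw [mem_O.1 A.Om1, hQv]
  have hdv : Q (d v) = 0 := by rw [mem_O.1 A.Od, hQv]
  have hQmd : Q (m1 (d v)) = 0 := by rw [mem_O.1 A.Om1, hdv]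
  have h1 : B v (-a • d v) = 0 := by rw [polar_smul_right, A.Bvdv hv.1, smul_zero]
  have h2 : B (m1 v) (-a • m1 (d v)) = 0 := by rw [polar_smul_right, A.Bmm, A.Bvdv hv.1, smul_zero]
  refine ⟨siegel Q v (-a • d v) hQv h1 * siegel Q (m1 v) (-a • m1 (d v)) hQm h2,
    (E Q).mul_mem (siegel_mem_E _ _) (siegel_mem_E _ _), fun y => ?_⟩
  change siegel Q v (-a • d v) hQv h1 (siegel Q (m1 v) (-a • m1 (d v)) hQm h2 y) = _
  rw [siegel_apply, siegel_apply, TT_apply]
  have z1 : B v (m1 v) = 0 := A.Bm hv.1 hv.1 hv.2.1 hv.2.1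
  have z2 : B v (m1 (d v)) = 0 := A.Bm hv.1 (A.Wd hv.1) hv.2.1 (A.n1dv hv)
  have z3 : B (d v) (m1 v) = 0 := A.Bm (A.Wd hv.1) hv.1 (A.n1dv hv) hv.2.1
  have z4 : B (d v) (m1 (d v)) = 0 := A.Bm (A.Wd hv.1) (A.Wd hv.1) (A.n1dv hv) (A.n1dv hv)
  simp only [polar_add_right, polar_sub_right, polar_smul_right, polar_smul_left, z1, z2, z3, z4, smul_eq_mul,
    QuadraticMap.map_smul, hdv, hQmd]
  module

/-- products of the extensions -/
theorem X_comp {v w : V} (hv : v ∈ M) (hw : w ∈ M) (h : B (d w) v = 1) (a b c e a' b' c' e' : K) (y : V) :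
    XX Q m1 d v w a b c e (XX Q m1 d v w a' b' c' e' y)
      = XX Q m1 d v w (a * a' + b * c') (a * b' + b * e') (c * a' + e * c') (c * b' + e * e') y := by
  have h1 : B (d v) w = -1 := by rw [A.sym hv.1, h]
  have h2 : B (d v) v = 0 := by rw [polar_comm, A.Bvdv hv.1]
  have h3 : B (d w) w = 0 := by rw [polar_comm, A.Bvdv hw.1]
  simp only [XX_apply, map_add, map_sub, map_smul, A.T_comp hv hw hv, A.T_comp hv hw hw, A.T_comp hw hw hv,
    A.T_comp hw hw hw, A.T_comp hv hv hv, A.T_comp hv hv hw, A.T_comp hw hv hv, A.T_comp hw hv hw, h, h1, h2, h3]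
  module

theorem X_v {v w : V} (hv : v ∈ M) (hw : w ∈ M) (h : B (d w) v = 1) (a b c e : K) :
    XX Q m1 d v w a b c e v = a • v + c • w := by
  have h2 : B (d v) v = 0 := by rw [polar_comm, A.Bvdv hv.1]
  rw [XX_apply, A.T_M hv hw hv, A.T_M hw hw hv, A.T_M hv hv hv, A.T_M hw hv hv, h, h2]
  module

theorem X_w {v w : V} (hv : v ∈ M) (hw : w ∈ M) (h : B (d w) v = 1) (a b c e : K) :
    XX Q m1 d v w a b c e w = b • v + e • w := by
  have h1 : B (d v) w = -1 := by rw [A.sym hv.1, h]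
  have h3 : B (d w) w = 0 := by rw [polar_comm, A.Bvdv hw.1]
  rw [XX_apply, A.T_M hv hw hw, A.T_M hw hw hw, A.T_M hv hv hw, A.T_M hw hv hw, h1, h3]
  module

theorem X_perp {v w y : V} (hv : v ∈ M) (hw : w ∈ M) (a b c e : K) (hy : ∀ u ∈ W, B u y = 0) :
    XX Q m1 d v w a b c e y = y := by
  rw [XX_apply, A.T_perp hw hy, A.T_perp hw hy, A.T_perp hv hy, A.T_perp hv hy]
  module

/-- the extensions of orthogonal planes commute -/
theorem X_orth {v w v' w' : V} (hv : v ∈ M) (hw : w ∈ M) (hv' : v' ∈ M) (hw' : w' ∈ M)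
    (h1 : B (d v) v' = 0) (h2 : B (d v) w' = 0) (h3 : B (d w) v' = 0) (h4 : B (d w) w' = 0)
    (a b c e a' b' c' e' : K) (y : V) :
    XX Q m1 d v w a b c e (XX Q m1 d v' w' a' b' c' e' y)
      = XX Q m1 d v' w' a' b' c' e' (XX Q m1 d v w a b c e y) := by
  have k1 : B (d v') v = 0 := by rw [A.sym hv'.1, h1, neg_zero]
  have k2 : B (d w') v = 0 := by rw [A.sym hw'.1, h2, neg_zero]
  have k3 : B (d v') w = 0 := by rw [A.sym hv'.1, h3, neg_zero]
  have k4 : B (d w') w = 0 := by rw [A.sym hw'.1, h4, neg_zero]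
  simp only [XX_apply, map_add, map_sub, map_smul, A.T_comp hv hw hv', A.T_comp hv hw hw', A.T_comp hw hw hv',
    A.T_comp hw hw hw', A.T_comp hv hv hv', A.T_comp hv hv hw', A.T_comp hw hv hv', A.T_comp hw hv hw',
    A.T_comp hv' hw' hv, A.T_comp hv' hw' hw, A.T_comp hw' hw' hv, A.T_comp hw' hw' hw,
    A.T_comp hv' hv' hv, A.T_comp hv' hv' hw, A.T_comp hw' hv' hv, A.T_comp hw' hv' hw,
    h1, h2, h3, h4, k1, k2, k3, k4]
  module

/-- an extension is trivial on the orthogonal vectors of `M` -/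
theorem X_fix {v w u : V} (hv : v ∈ M) (hw : w ∈ M) (hu : u ∈ M)
    (h1 : B (d v) u = 0) (h3 : B (d w) u = 0) (a b c e : K) :
    XX Q m1 d v w a b c e u = u := by
  rw [XX_apply, A.T_M hv hw hu, A.T_M hw hw hu, A.T_M hv hv hu, A.T_M hw hv hu, h1, h3]
  module

/-- **`SL₂(K)` acts through `Ω(V)`.** -/
theorem exists_X {v w : V} (hv : v ∈ M) (hw : w ∈ M) (h : B (d w) v = 1) {a b c e : K} (hdet : a * e - b * c = 1) :
    ∃ g ∈ E Q, ∀ y, g y = XX Q m1 d v w a b c e y := by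
  have hlow : ∀ x : K, ∃ g ∈ E Q, ∀ y, g y = XX Q m1 d v w 1 0 x 1 y := by
    intro x
    obtain ⟨g, hg, h1⟩ := A.exists_tau hw x
    refine ⟨g, hg, fun y => ?_⟩
    rw [h1, XX_apply]; module
  have hup : ∀ x : K, ∃ g ∈ E Q, ∀ y, g y = XX Q m1 d v w 1 x 0 1 y := by
    intro x
    obtain ⟨g, hg, h1⟩ := A.exists_tau hv (-x)
    refine ⟨g, hg, fun y => ?_⟩
    rw [h1, XX_apply]; module
  have hne : ∀ {a b c e : K}, a * e - b * c = 1 → c ≠ 0 → ∃ g ∈ E Q, ∀ y, g y = XX Q m1 d v w a b c e y := by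
    intro a b c e hdet hc
    obtain ⟨g1, hg1, h1⟩ := hup ((a - 1) / c)
    obtain ⟨g2, hg2, h2⟩ := hlow c
    obtain ⟨g3, hg3, h3⟩ := hup ((e - 1) / c)
    refine ⟨g1 * (g2 * g3), (E Q).mul_mem hg1 ((E Q).mul_mem hg2 hg3), fun y => ?_⟩
    change g1 (g2 (g3 y)) = _
    rw [h1, h2, h3, A.X_comp hv hw h, A.X_comp hv hw h]
    refine XX_congr ?_ ?_ ?_ ?_ y
    · field_simp
      ring
    · field_simp
      linear_combination hdet
    · ring
    · field_simp
      ring
  by_cases hc : c = 0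
  · subst hc
    have he : e ≠ 0 := by
      rintro rfl
      simp at hdet
    obtain ⟨g1, hg1, h1⟩ := hne (a := a + b) (b := b) (c := e) (e := e) (by linear_combination hdet) he
    obtain ⟨g2, hg2, h2⟩ := hlow (-1)
    refine ⟨g1 * g2, (E Q).mul_mem hg1 hg2, fun y => ?_⟩
    change g1 (g2 y) = _
    rw [h1, h2, A.X_comp hv hw h]
    refine XX_congr ?_ ?_ ?_ ?_ y <;> ring
  · exact hne hdet hc

/-- the decomposition `W = M ⊕ d M ⊕ m1 M ⊕ m1 d M` -/
theorem exists_dec {y : V} (hy : y ∈ W) :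
    ∃ y0 ∈ M, ∃ y1 ∈ M, ∃ y2 ∈ M, ∃ y3 ∈ M, y = y0 + d y1 + (m1 y2 + m1 (d y3)) := by
  have h2 := A.two
  -- the quaternion part
  have hq : ∀ y ∈ W, n1 y = y → ∃ y0 ∈ M, ∃ y1 ∈ M, y = y0 + d y1 := by
    intro y hy h1
    have hW : ∀ c e : K, c • n2 y + e • m2 y ∈ W := fun c e => W.add_mem (W.smul_mem _ (A.Wn2 _ hy)) (W.smul_mem _ (A.Wm2 _ hy))
    have e1 : n2 (m2 y) = d y := rfl
    have e2 : m2 (n2 y) = - d y := by rw [dd_apply, A.n2m2 _ hy, neg_neg]
    have hd1 : n2 (d y) = -d (n2 y) := A.n2d hy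
    have hd2 : m2 (d y) = -d (m2 y) := A.m2d hy
    have hcc : α • n2 (α • n2 y + β • m2 y) + β • m2 (α • n2 y + β • m2 y) = y := by
      simp only [map_add, map_smul, A.n2n2 _ hy, A.m2m2 _ hy, e1, e2]
      have h3 : α • (α • (-y) + β • d y) + β • (α • (-d y) + β • (-y)) = (-(α * α + β * β)) • y := by module
      rw [h3, A.ab, neg_neg, one_smul]
    refine ⟨(2 : K)⁻¹ • (y + (α • n2 y + β • m2 y)), ?_, -d ((2 : K)⁻¹ • (y - (α • n2 y + β • m2 y))), ?_, ?_⟩
    · refine ⟨W.smul_mem _ (W.add_mem hy (hW _ _)), ?_, ?_⟩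
      · rw [map_smul, map_add, map_add, map_smul, map_smul, A.n1n2 _ hy, A.n1m2 _ hy, h1]
      · calc _ = (2 : K)⁻¹ • ((α • n2 y + β • m2 y)
            + (α • n2 (α • n2 y + β • m2 y) + β • m2 (α • n2 y + β • m2 y))) := by
              simp only [map_add, map_smul]; module
          _ = _ := by rw [hcc]; module
    · refine ⟨W.neg_mem (A.Wd (W.smul_mem _ (W.sub_mem hy (hW _ _)))), ?_, ?_⟩
      · have hn1u : n1 ((2 : K)⁻¹ • (y - (α • n2 y + β • m2 y))) = (2 : K)⁻¹ • (y - (α • n2 y + β • m2 y)) := by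
          simp only [map_smul, map_sub, map_add, A.n1n2 _ hy, A.n1m2 _ hy, h1]
        rw [map_neg, A.n1d (W.smul_mem _ (W.sub_mem hy (hW _ _))), hn1u]
      · have hd3 : ∀ u ∈ W, n2 (d u) = -d (n2 u) := fun u hu => A.n2d hu
        have hd4 : ∀ u ∈ W, m2 (d u) = -d (m2 u) := fun u hu => A.m2d hu
        set u := (2 : K)⁻¹ • (y - (α • n2 y + β • m2 y)) with hu
        have huW : u ∈ W := W.smul_mem _ (W.sub_mem hy (hW _ _))
        have hcu : α • n2 u + β • m2 u = -u := by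
          calc _ = (2 : K)⁻¹ • ((α • n2 y + β • m2 y)
              - (α • n2 (α • n2 y + β • m2 y) + β • m2 (α • n2 y + β • m2 y))) := by
                rw [hu]; simp only [map_sub, map_add, map_smul]; module
            _ = _ := by rw [hcc, hu]; module
        clear_value u
        have h5 : n2 (-d u) = d (n2 u) := by rw [map_neg, hd3 u huW, neg_neg]
        have h6 : m2 (-d u) = d (m2 u) := by rw [map_neg, hd4 u huW, neg_neg]
        have h7 : d (α • n2 u + β • m2 u) = d (-u) := congrArg _ hcu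
        rw [map_add, map_smul, map_smul, map_neg] at h7
        rw [h5, h6, h7]
    · rw [map_neg, A.ddd (W.smul_mem _ (W.sub_mem hy (hW _ _)))]
      have : y = ((2 : K)⁻¹ * 2) • y := by rw [inv_mul_cancel₀ h2, one_smul]
      nth_rewrite 1 [this]
      module
  have hn : n1 y ∈ W := A.Wn1 _ hy
  obtain ⟨y0, hy0, y1, hy1, e1⟩ := hq ((2 : K)⁻¹ • (y + n1 y)) (W.smul_mem _ (W.add_mem hy hn))
    (by rw [map_smul, map_add, A.n1n1 _ hy, add_comm])
  have hs : y - n1 y ∈ W := W.sub_mem hy hn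
  obtain ⟨y2, hy2, y3, hy3, e2⟩ := hq ((2 : K)⁻¹ • m1 (y - n1 y)) (W.smul_mem _ (A.Wm1 _ hs))
    (by rw [map_smul, A.n1m1 _ hs, map_sub, A.n1n1 _ hy, ← map_neg, neg_sub])
  refine ⟨y0, hy0, y1, hy1, y2, hy2, y3, hy3, ?_⟩
  rw [← e1, ← map_add, ← e2, map_smul, A.m1m1 _ hs]
  have : y = ((2 : K)⁻¹ * 2) • y := by rw [inv_mul_cancel₀ h2, one_smul]
  nth_rewrite 1 [this]
  module

/-- the alternating form of `M` is nondegenerate -/
theorem exists_pair (hW : ∀ y ∈ W, (∀ u ∈ W, B y u = 0) → y = 0) {v : V} (hv : v ∈ M) (h0 : v ≠ 0) :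
    ∃ w ∈ M, B (d w) v = 1 := by
  have h1 : ∃ u ∈ W, B v u ≠ 0 := by
    by_contra hcon
    push Not at hcon
    exact h0 (hW v hv.1 hcon)
  obtain ⟨u, hu, hne⟩ := h1
  obtain ⟨y0, hy0, y1, hy1, y2, hy2, y3, hy3, rfl⟩ := A.exists_dec hu
  rw [polar_add_right, polar_add_right, polar_add_right, A.Bvw hv hy0, A.Bm hv.1 hy2.1 hv.2.1 hy2.2.1,
    A.Bm hv.1 (A.Wd hy3.1) hv.2.1 (A.n1dv hy3), zero_add, add_zero, add_zero] at hne
  refine ⟨(B v (d y1))⁻¹ • y1, (M).smul_mem _ hy1, ?_⟩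
  rw [map_smul, polar_smul_left, polar_comm Q (d y1) v, smul_eq_mul, inv_mul_cancel₀ hne]

end

end AO

end Cfsg.Agent.H14.C3
end

-- part: H14/C3/ArfTools
section
/-!
# S1920, case B, `POmega`, Arf invariant one (helper14): tools

* `Kit.T5b` : `T5` with `b² ∈ ⟨s⟩`;
* `no_SL2` : a group of order prime to nothing, embedded in `SL₂(F)`, char `F ≠ 3`, has no homomorphism to `S₆` whose
  image contains `A₆` (the Sylow 3-subgroups of `SL₂(F)` are cyclic).
-/

set_option autoImplicit false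
set_option linter.unusedVariables false

open Subgroup

namespace Cfsg.Agent.H14.C3

open Cfsg.Agent.H415.C3

variable {G : Type*} [Group G]

/-- **T5**, with `b² ∈ ⟨s⟩`. -/
theorem T5b [Finite G] {N0 A E : Subgroup G} {z s x r : G} {ψ : ↥A →* Equiv.Perm (Fin 6)}
    (T : Kit N0 A E z s x r ψ) {a b : G} (ha : ∀ n ∈ N0, a * n = n * a) (hb : ∀ n ∈ N0, b * n = n * b)
    (hab : a * b = b * a) (ha4 : a ^ 4 = 1) (hb2 : b ^ 2 ∈ zpowers s)
    (h : ∀ i j : ℕ, a ^ i * b ^ j ∈ zpowers s → 4 ∣ i ∧ 2 ∣ j) : False := by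
  have hb8 : b ^ 8 = 1 := by
    obtain ⟨k, hk⟩ := hb2
    have hk' : s ^ k = b ^ 2 := hk
    rw [show 8 = 2 * 4 by norm_num, pow_mul, ← hk', ← zpow_natCast, ← zpow_mul, mul_comm, zpow_mul, zpow_natCast,
      T.s_four, one_zpow]
  have hmem : ∀ i j : ℕ, ∀ n ∈ N0, a ^ i * b ^ j * n = n * (a ^ i * b ^ j) := by
    intro i j n hn
    have h1 : Commute a n := ha n hn
    have h2 : Commute b n := hb n hn
    exact ((h1.pow_left i).mul_left (h2.pow_left j)).eq
  have hpow : ∀ i j : ℕ, (a ^ i * b ^ j) ^ 2 ^ 3 = 1 := by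
    intro i j
    have h1 : Commute (a ^ i) (b ^ j) := (show Commute a b from hab).pow_pow i j
    rw [h1.mul_pow, ← pow_mul, ← pow_mul, show i * 2 ^ 3 = 4 * (2 * i) by ring, show j * 2 ^ 3 = 8 * j by ring,
      pow_mul a 4, pow_mul b 8, ha4, hb8, one_pow, one_pow, mul_one]
  let u : ↥A := ⟨a, T.comm_mem ha⟩
  let v : ↥A := ⟨b, T.comm_mem hb⟩
  have huv : u * v = v * u := Subtype.ext hab
  have hker : ∀ i j : ℕ, ψ u ^ i * ψ v ^ j = 1 → 4 ∣ i ∧ 2 ∣ j := by
    intro i j hij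
    apply h i j
    refine T.T4 (hmem i j) (hpow i j) ?_
    rw [← map_pow, ← map_pow, ← map_mul] at hij
    exact hij
  have hsu : Equiv.Perm.sign (ψ u) = 1 := T.even_of_comm ha u.2
  have hsv : Equiv.Perm.sign (ψ v) = 1 := T.even_of_comm hb v.2
  let σ : alternatingGroup (Fin 6) := ⟨ψ u, Equiv.Perm.mem_alternatingGroup.2 hsu⟩
  let τ : alternatingGroup (Fin 6) := ⟨ψ v, Equiv.Perm.mem_alternatingGroup.2 hsv⟩
  have hστ : Commute σ τ := Subtype.ext (by
    change ψ u * ψ v = ψ v * ψ u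
    rw [← map_mul, ← map_mul, huv])
  have hk : ∀ i j : ℕ, σ ^ i * τ ^ j = 1 → 4 ∣ i ∧ 2 ∣ j := by
    intro i j hij
    exact hker i j (congrArg Subtype.val hij)
  have hσ4 : σ ^ 4 = 1 := Subtype.ext (by
    change ψ u ^ 4 = 1
    rw [← map_pow, ← map_one ψ]
    exact congrArg ψ (Subtype.ext ha4))
  have hτ2 : τ ^ 2 = 1 := Subtype.ext (by
    change ψ v ^ 2 = 1
    rw [← map_pow]
    have hN : b ^ 2 ∈ N0 := by
      obtain ⟨k, hk⟩ := hb2
      have hk' : s ^ k = b ^ 2 := hk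
      rw [← hk']
      exact zpow_mem T.sN k
    exact T.N_ker (b ^ 2) (T.N_A hN) hN)
  have hoσ : orderOf σ = 4 := by
    refine Nat.dvd_antisymm (orderOf_dvd_of_pow_eq_one hσ4) ?_
    exact (hk _ 0 (by rw [pow_orderOf_eq_one, pow_zero, mul_one])).1
  have hoτ : orderOf τ = 2 := by
    refine Nat.dvd_antisymm (orderOf_dvd_of_pow_eq_one hτ2) ?_
    exact (hk 0 _ (by rw [pow_orderOf_eq_one, pow_zero, mul_one])).2
  let f := (zpowers σ).subtype.noncommCoprod (zpowers τ).subtype (by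
    rintro ⟨_, ⟨i, rfl⟩⟩ ⟨_, ⟨j, rfl⟩⟩
    exact (hστ.zpow_zpow i j))
  have hf : Function.Injective f := by
    rw [MonoidHom.noncommCoprod_injective]
    refine ⟨(zpowers σ).subtype_injective, (zpowers τ).subtype_injective, ?_⟩
    rw [Subgroup.range_subtype, Subgroup.range_subtype, disjoint_iff, eq_bot_iff]
    rintro y ⟨h1, h2⟩
    have h1' : y ∈ Submonoid.powers σ := mem_powers_iff_mem_zpowers.2 h1
    obtain ⟨i, rfl⟩ := h1'
    have h2' := (mem_powers_iff_mem_zpowers).2 h2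
    obtain ⟨j, hj⟩ := h2'
    have hj' : τ ^ j = σ ^ i := hj
    have h3 : σ ^ (3 * i) * τ ^ j = 1 := by
      rw [hj', ← pow_add, show 3 * i + i = 4 * i by ring, pow_mul, hσ4, one_pow]
    obtain ⟨h4, h5⟩ := hk _ _ h3
    obtain ⟨k, rfl⟩ := h5
    rw [pow_mul, hτ2, one_pow] at hj'
    rw [Subgroup.mem_bot]
    exact hj'.symm
  have hcard : Nat.card f.range = 8 := by
    rw [Nat.card_congr (MonoidHom.ofInjective hf).toEquiv.symm, Nat.card_prod, Nat.card_zpowers, Nat.card_zpowers,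
      hoσ, hoτ]
  refine no_abelian8 f.range ?_ hcard
  rintro _ ⟨⟨⟨_, ⟨i, rfl⟩⟩, ⟨_, ⟨j, rfl⟩⟩⟩, rfl⟩ _ ⟨⟨⟨_, ⟨i', rfl⟩⟩, ⟨_, ⟨j', rfl⟩⟩⟩, rfl⟩
  have hc : ∀ p q : ↥(zpowers σ) × ↥(zpowers τ), p * q = q * p := by
    rintro ⟨⟨_, ⟨i, rfl⟩⟩, ⟨_, ⟨j, rfl⟩⟩⟩ ⟨⟨_, ⟨i', rfl⟩⟩, ⟨_, ⟨j', rfl⟩⟩⟩
    refine Prod.ext (Subtype.ext ?_) (Subtype.ext ?_)
    · exact ((Commute.refl σ).zpow_zpow i i').eq
    · exact ((Commute.refl τ).zpow_zpow j j').eq
  rw [← map_mul, ← map_mul, hc]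

/-- A subgroup of `SL_2(F)` of prime power order `r ^ n`, `r` odd and not the characteristic, is cyclic. -/
theorem isCyclic_SL2 {F : Type*} [Field F] (p : ℕ) [Fact p.Prime] [CharP F p] (r : ℕ)
    [Fact r.Prime] (hr : r ≠ 2) (hrp : r ≠ p) (R : Subgroup (Matrix.SpecialLinearGroup (Fin 2) F))
    [Finite R] (hR : IsPGroup r R) : IsCyclic R := by
  rcases subsingleton_or_nontrivial R with hsub | hnt
  · exact isCyclic_of_subsingleton
  have hcen := hR.center_nontrivial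
  obtain ⟨⟨⟨z, hzR⟩, hzc⟩, hz1⟩ := exists_ne (1 : Subgroup.center R)
  have hz1' : z ≠ 1 := by
    intro h
    apply hz1
    apply Subtype.ext
    apply Subtype.ext
    exact h
  obtain ⟨k, hk⟩ := hR.exists_card_eq
  refine LieClassical.SLTwoTorus.isCyclic_of_commute p R ?_
    (z : Matrix (Fin 2) (Fin 2) F) ?_ ?_
  · rw [hk]
    exact Nat.Coprime.pow_left _ ((Nat.coprime_primes Fact.out Fact.out).mpr hrp)
  · intro c hc
    have hdet : (z : Matrix (Fin 2) (Fin 2) F).det = 1 := z.det_coe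
    rw [hc, Matrix.det_smul, Matrix.det_one, mul_one, Fintype.card_fin] at hdet
    have hz2 : z ^ 2 = 1 := by
      apply Subtype.ext
      have : ((z ^ 2 : Matrix.SpecialLinearGroup (Fin 2) F) : Matrix (Fin 2) (Fin 2) F) =
          (z : Matrix (Fin 2) (Fin 2) F) ^ 2 := by simp
      rw [this, hc, smul_pow, hdet, one_pow, one_smul]
      rfl
    have hd2 : orderOf z ∣ 2 := orderOf_dvd_of_pow_eq_one hz2
    have hdr : orderOf z ∣ r ^ k := by
      have := orderOf_dvd_natCard (⟨z, hzR⟩ : R)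
      rwa [Subgroup.orderOf_mk, hk] at this
    have hcop : Nat.Coprime 2 (r ^ k) :=
      Nat.Coprime.pow_right _ ((Nat.coprime_primes Nat.prime_two Fact.out).mpr (Ne.symm hr))
    have : orderOf z = 1 := Nat.eq_one_of_dvd_coprimes hcop hd2 hdr
    exact hz1' (orderOf_eq_one_iff.mp this)
  · intro h hh
    have := congrArg Subtype.val ((Subgroup.mem_center_iff.mp hzc) ⟨h, hh⟩)
    have := congrArg Subtype.val this
    simpa only [_root_.MulMemClass.mk_mul_mk, _root_.Matrix.SpecialLinearGroup.coe_mul] using this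

/-- the 3-cycle `(3 4 5)` -/
def c3' : Equiv.Perm (Fin 6) := Equiv.swap 3 4 * Equiv.swap 4 5

theorem sign_c3' : Equiv.Perm.sign c3' = 1 := by decide

theorem c3_pow : c3 ^ 3 = 1 := by decide

theorem c3'_pow : c3' ^ 3 = 1 := by decide

theorem c3_comm : c3 * c3' = c3' * c3 := by decide

theorem c3_ne : c3 ≠ 1 := by decide

theorem c3_sq_ne : c3 ^ 2 ≠ 1 := by decide

theorem c3_sq_ne' : c3 ^ 2 ≠ c3 := by decide

theorem c3'_ne : c3' ≠ 1 ∧ c3' ≠ c3 ∧ c3' ≠ c3 ^ 2 := by decide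

/-- **no cover of `A₆` in `SL₂(F)`, char `F ≠ 3`** -/
theorem no_SL2 {F : Type*} [Field F] [Finite F] (h3 : (3 : F) ≠ 0) {X : Type*} [Group X] [Finite X]
    (f : X →* Matrix.SpecialLinearGroup (Fin 2) F) (hf : Function.Injective f) (ψ : X →* Equiv.Perm (Fin 6))
    (hψ : ∀ σ : Equiv.Perm (Fin 6), Equiv.Perm.sign σ = 1 → ∃ x, ψ x = σ) : False := by
  have f3 : Fact (Nat.Prime 3) := ⟨Nat.prime_three⟩
  obtain ⟨p, hp⟩ := CharP.exists F
  have hpp : p.Prime := CharP.char_is_prime F p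
  have fp : Fact p.Prime := ⟨hpp⟩
  have hp3 : (3 : ℕ) ≠ p := by
    rintro rfl
    apply h3
    exact_mod_cast CharP.cast_eq_zero F 3
  obtain ⟨P⟩ := (inferInstance : Nonempty (Sylow 3 X))
  -- `P` is cyclic
  have hPc : IsCyclic (P : Subgroup X) := by
    have h1 : IsPGroup 3 ((P : Subgroup X).map f) := P.isPGroup'.map f
    have h2 := isCyclic_SL2 p 3 (by norm_num) hp3 ((P : Subgroup X).map f) h1
    exact isCyclic_of_surjective ((P : Subgroup X).equivMapOfInjective f hf).symm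
      ((P : Subgroup X).equivMapOfInjective f hf).symm.surjective
  -- its image
  let P' : Sylow 3 ψ.range := P.mapSurjective ψ.rangeRestrict_surjective
  have hP' : IsCyclic (P' : Subgroup ψ.range) := by
    have h1 : (P' : Subgroup ψ.range) = (P : Subgroup X).map ψ.rangeRestrict := rfl
    rw [h1]
    exact isCyclic_of_surjective (ψ.rangeRestrict.subgroupMap (P : Subgroup X))
      (ψ.rangeRestrict.subgroupMap_surjective (P : Subgroup X))
  have hall : ∀ R : Sylow 3 ψ.range, IsCyclic (R : Subgroup ψ.range) := fun R =>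
    isCyclic_of_surjective (P'.equiv R) (P'.equiv R).surjective
  obtain ⟨x, hx⟩ := hψ c3 sign_c3
  obtain ⟨y, hy⟩ := hψ c3' sign_c3'
  let a : ψ.range := ⟨c3, ⟨x, hx⟩⟩
  let b : ψ.range := ⟨c3', ⟨y, hy⟩⟩
  have hab : Commute a b := Subtype.ext c3_comm
  have ha3 : a ^ 3 = 1 := Subtype.ext c3_pow
  have hb3 : b ^ 3 = 1 := Subtype.ext c3'_pow
  have hg : ∀ g : ψ.range, g ^ 3 = 1 → IsPGroup 3 (zpowers g) := by
    intro g hg
    rw [IsPGroup.iff_card]
    obtain ⟨j, -, hj⟩ := (Nat.dvd_prime_pow Nat.prime_three).1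
      (show orderOf g ∣ 3 ^ 1 from orderOf_dvd_of_pow_eq_one (by rw [pow_one]; exact hg))
    exact ⟨j, by rw [Nat.card_zpowers, hj]⟩
  have hn : zpowers b ≤ normalizer (zpowers a : Set ψ.range) := by
    refine le_trans ?_ (centralizer_le_normalizer _)
    rw [zpowers_le, mem_centralizer_iff]
    rintro _ ⟨k, rfl⟩
    exact (hab.zpow_left k).eq
  obtain ⟨R, hR⟩ := (IsPGroup.to_sup_of_normal_left' (hg a ha3) (hg b hb3) hn).exists_le_sylow
  have hcyc := hall R
  have haR : a ∈ (R : Subgroup ψ.range) := hR (le_sup_left (a := zpowers a) (mem_zpowers a))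
  have hbR : b ∈ (R : Subgroup ψ.range) := hR (le_sup_right (b := zpowers b) (mem_zpowers b))
  classical
  have : Fintype (R : Subgroup ψ.range) := Fintype.ofFinite _
  let a' : (R : Subgroup ψ.range) := ⟨a, haR⟩
  let b' : (R : Subgroup ψ.range) := ⟨b, hbR⟩
  have h4 := IsCyclic.card_pow_eq_one_le (α := (R : Subgroup ψ.range)) (n := 3) (by norm_num)
  have h5 : ({1, a', a' ^ 2, b'} : Finset (R : Subgroup ψ.range)) ⊆ Finset.univ.filter (fun g => g ^ 3 = 1) := by
    intro g hg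
    simp only [Finset.mem_insert, Finset.mem_singleton] at hg
    rw [Finset.mem_filter]
    refine ⟨Finset.mem_univ _, ?_⟩
    rcases hg with rfl | rfl | rfl | rfl
    · exact one_pow _
    · exact Subtype.ext ha3
    · rw [← pow_mul, show 2 * 3 = 3 * 2 by norm_num, pow_mul, show a' ^ 3 = 1 from Subtype.ext ha3, one_pow]
    · exact Subtype.ext hb3
  have val : ∀ g h : (R : Subgroup ψ.range), g = h → ((g : ψ.range) : Equiv.Perm (Fin 6)) = ((h : ψ.range) : Equiv.Perm (Fin 6)) :=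
    fun g h e => by rw [e]
  have h6 : ({1, a', a' ^ 2, b'} : Finset (R : Subgroup ψ.range)).card = 4 := by
    rw [Finset.card_insert_of_notMem, Finset.card_insert_of_notMem, Finset.card_insert_of_notMem,
      Finset.card_singleton]
    · rw [Finset.mem_singleton]
      intro h
      exact c3'_ne.2.2 (val _ _ h).symm
    · rw [Finset.mem_insert, Finset.mem_singleton]
      rintro (h | h)
      · exact c3_sq_ne' (val _ _ h).symm
      · exact c3'_ne.2.1 (val _ _ h).symm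
    · rw [Finset.mem_insert, Finset.mem_insert, Finset.mem_singleton]
      rintro (h | h | h)
      · exact c3_ne (val _ _ h).symm
      · exact c3_sq_ne (val _ _ h).symm
      · exact c3'_ne.1 (val _ _ h).symm
  have h7 := Finset.card_le_card h5
  omega

end Cfsg.Agent.H14.C3
end

-- part: H14/C3/ArfOne
section
/-!
# S1920, case B, `POmega`, Arf invariant one (helper14)

`arf_one` : in the situation `rho = 0`, `l = 1` of the plan, if `Nh` acts on `Vr = ker (sh² - 1)` as `⟨±1, sh⟩ (D₈ ∘ Q₈)`,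
then `Eh` is trivial on `Vr`.
-/

set_option autoImplicit false
set_option linter.unusedVariables false

open Subgroup

namespace Cfsg.Agent.H14.C3

open Cfsg.Agent.H415.C3
open Cfsg.Agent.LieClassical.OrthCore Cfsg.Agent.LieClassical.OrthTrans QuadraticMap

variable {K : Type*} [Field K] {V : Type*} [AddCommGroup V] [Module K V]

/-- `ker (s² - 1)` -/
def Wr (s : V ≃ₗ[K] V) : Submodule K V where
  carrier := {v | s (s v) = v}
  zero_mem' := by simp
  add_mem' := by
    intro v w hv hw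
    have hv' : s (s v) = v := hv
    have hw' : s (s w) = w := hw
    change s (s (v + w)) = v + w
    rw [map_add, map_add, hv', hw']
  smul_mem' := by
    intro c v hv
    have hv' : s (s v) = v := hv
    change s (s (c • v)) = c • v
    rw [map_smul, map_smul, hv']

theorem mem_Wr {s : V ≃ₗ[K] V} {v : V} : v ∈ Wr s ↔ s (s v) = v := Iff.rfl

/-- the elements commuting with a linear map -/
def comS (X : V →ₗ[K] V) : Subgroup (V ≃ₗ[K] V) where
  carrier := {g | ∀ y, X (g y) = g (X y)}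
  one_mem' := fun y => rfl
  mul_mem' := by
    intro a b ha hb y
    change X (a (b y)) = a (b (X y))
    rw [ha, hb]
  inv_mem' := by
    intro a ha y
    have h := ha (a⁻¹ y)
    have h2 : a (a⁻¹ y) = y := LinearEquiv.apply_symm_apply a y
    rw [h2] at h
    rw [h]
    exact (LinearEquiv.symm_apply_apply a _).symm

/-- the configuration with `s` : `V = Vr ⊥ Vc` -/
structure SO (Q : QuadraticForm K V) (s n1 m1 n2 m2 : V ≃ₗ[K] V) (α β : K) (Nh : Subgroup (V ≃ₗ[K] V)) : Prop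
    extends AO Q (Wr s) n1 m1 n2 m2 α β where
  nd : Nondeg Q
  Os : s ∈ O Q
  s4 : ∀ v, s (s (s (s v))) = v
  NO : Nh ≤ O Q
  Ns : ∀ n ∈ Nh, ∀ v, n (s v) = s (n v)
  N1 : n1 ∈ Nh
  M1 : m1 ∈ Nh
  N2 : n2 ∈ Nh
  M2 : m2 ∈ Nh
  gen : ∀ S : Subgroup (V ≃ₗ[K] V), n1 ∈ S → m1 ∈ S → n2 ∈ S → m2 ∈ S → s ∈ S →
    (∀ g ∈ Nh, ((∀ v, s (s v) = v → g v = v) ∨ (∀ v, s (s v) = v → g v = -v)) → g ∈ S) → Nh ≤ S

namespace SO

variable {Q : QuadraticForm K V} {s n1 m1 n2 m2 : V ≃ₗ[K] V} {α β : K} {Nh : Subgroup (V ≃ₗ[K] V)}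

local notation "B" => polar Q
local notation "d" => dd n2 m2
local notation "M" => Mo (Wr s) n1 n2 m2 α β

section
variable (A : SO Q s n1 m1 n2 m2 α β Nh)
include A

theorem dec (y : V) : ∃ a b : V, y = a + b ∧ s (s a) = a ∧ s (s b) = -b := by
  have h2 := A.two
  refine ⟨(2 : K)⁻¹ • (y + s (s y)), (2 : K)⁻¹ • (y - s (s y)), ?_, ?_, ?_⟩
  · have : y = ((2 : K)⁻¹ * 2) • y := by rw [inv_mul_cancel₀ h2, one_smul]
    nth_rewrite 1 [this]
    module
  · simp only [map_smul, map_add, A.s4]; rw [add_comm]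
  · simp only [map_smul, map_sub, A.s4]; module

theorem orth {a b : V} (ha : s (s a) = a) (hb : s (s b) = -b) : B a b = 0 := by
  apply A.half
  calc B a b = B (s (s a)) (s (s b)) := by rw [polar_map A.Os, polar_map A.Os]
    _ = - B a b := by rw [ha, hb, polar_neg_right]

theorem ndr : ∀ y ∈ Wr s, (∀ u ∈ Wr s, B y u = 0) → y = 0 := by
  intro y hy h
  refine A.nd y fun u => ?_
  obtain ⟨a, b, rfl, ha, hb⟩ := A.dec u
  rw [polar_add_right, h a ha, A.orth hy hb, add_zero]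

/-- on `Vc` the element `s` is not a scalar -/
theorem not_sc {c : K} {b : V} (hb : s (s b) = -b) (h : ∀ v, s (s v) = -v → s v = c • v) : b = 0 := by
  refine A.nd b fun u => ?_
  obtain ⟨a', b', rfl, ha, hb'⟩ := A.dec u
  rw [polar_add_right, polar_comm, A.orth ha hb, zero_add]
  -- `B b b' = B (s b) (s b') = c² B b b' = - B b b'`
  by_cases h0 : b = 0
  · rw [h0, polar_zero_left]
  have hc : c * c = -1 := by
    have h1 : s (s b) = (c * c) • b := by rw [h b hb, map_smul, h b hb, smul_smul]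
    rw [hb] at h1
    have h2 : (c * c + 1) • b = 0 := by rw [add_smul, ← h1, one_smul, neg_add_cancel]
    rcases smul_eq_zero.1 h2 with h3 | h3
    · linear_combination h3
    · exact absurd h3 h0
  apply A.half
  calc B b b' = B (s b) (s b') := (polar_map A.Os _ _).symm
    _ = (c * c) * B b b' := by rw [h b hb, h b' hb', polar_smul_left, polar_smul_right, smul_eq_mul, smul_eq_mul, mul_assoc]
    _ = - B b b' := by rw [hc, neg_one_mul]

theorem sd (u : V) : s (d u) = d (s u) := by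
  rw [dd_apply, dd_apply, ← A.Ns _ A.N2, ← A.Ns _ A.M2]

theorem sM {v : V} (hv : v ∈ M) : s v ∈ M := by
  obtain ⟨h1, h2, h3⟩ := hv
  refine ⟨?_, ?_, ?_⟩
  · rw [mem_Wr] at h1 ⊢
    rw [h1]
  · rw [A.Ns _ A.N1, h2]
  · have h4 := congrArg s h3
    rw [map_add, map_smul, map_smul] at h4
    rw [A.Ns _ A.N2, A.Ns _ A.M2, h4]

/-- elements commuting with `Nh` preserve `M` -/
theorem eM {e : V ≃ₗ[K] V} (he : ∀ n ∈ Nh, e * n = n * e) (hes : e * s = s * e) {v : V} (hv : v ∈ M) : e v ∈ M := by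
  have h : ∀ n ∈ Nh, ∀ y, e (n y) = n (e y) := fun n hn y => congrArg (fun f : V ≃ₗ[K] V => f y) (he n hn)
  have h' : ∀ y, e (s y) = s (e y) := fun y => congrArg (fun f : V ≃ₗ[K] V => f y) hes
  obtain ⟨h1, h2, h3⟩ := hv
  refine ⟨?_, ?_, ?_⟩
  · rw [mem_Wr] at h1 ⊢
    rw [← h', ← h', h1]
  · rw [← h _ A.N1, h2]
  · have h4 := congrArg e h3
    rw [map_add, map_smul, map_smul] at h4
    rw [← h _ A.N2, ← h _ A.M2, h4]

/-- the extensions commute with `Nh` -/
theorem X_N {v w : V} {ε : K} (hε : ε * ε = 1) (hv : v ∈ M) (hw : w ∈ M) (h1 : s v = ε • v) (h2 : s w = ε • w)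
    (a b c e : K) : Nh ≤ comS (XX Q m1 d v w a b c e) := by
  have hm : ∀ v' : V, (v' = v ∨ v' = w) → v' ∈ M := by
    rintro v' (rfl | rfl) <;> assumption
  have hs' : ∀ v' : V, (v' = v ∨ v' = w) → s v' = ε • v' := by
    rintro v' (rfl | rfl) <;> assumption
  refine A.gen _ ?_ ?_ ?_ ?_ ?_ ?_
  · exact X_comm (fun v' w' k1 k2 => A.T_n1 (hm v' k1) (hm w' k2)) a b c e
  · exact X_comm (fun v' w' k1 k2 => A.T_m1 (hm v' k1) (hm w' k2)) a b c e
  · exact X_comm (fun v' w' k1 k2 => A.T_n2 (hm v' k1) (hm w' k2)) a b c e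
  · exact X_comm (fun v' w' k1 k2 => A.T_m2 (hm v' k1) (hm w' k2)) a b c e
  · exact X_comm (fun v' w' k1 k2 => A.T_eps hε A.Os (fun u _ => (A.Ns _ A.M1 u).symm) (fun u _ => A.sd u)
      (hm v' k1) (hm w' k2) (hs' v' k1) (hs' w' k2)) a b c e
  · intro g hg hg'
    have hη : ∃ η : K, η * η = 1 ∧ ∀ v ∈ Wr s, g v = η • v := by
      rcases hg' with h | h
      · exact ⟨1, one_mul 1, fun v hv => by rw [h v hv, one_smul]⟩
      · exact ⟨-1, by ring, fun v hv => by rw [h v hv, neg_one_smul]⟩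
    obtain ⟨η, hη1, hη2⟩ := hη
    exact X_comm (fun v' w' k1 k2 => A.T_eps hη1 (A.NO hg)
      (fun u hu => by rw [hη2 _ (A.Wm1 _ hu), hη2 _ hu, map_smul])
      (fun u hu => by rw [hη2 _ (A.Wd hu), hη2 _ hu, map_smul])
      (hm v' k1) (hm w' k2) (hη2 _ (hm v' k1).1) (hη2 _ (hm w' k2).1)) a b c e

/-- hyperbolic pairs -/
theorem hyp {v : V} {ε : K} (hε : ε * ε = 1) (hv : v ∈ M) (h0 : v ≠ 0) (h1 : s v = ε • v) :
    ∃ w ∈ M, s w = ε • w ∧ B (d w) v = 1 := by
  obtain ⟨w, hw, hwv⟩ := A.exists_pair A.ndr hv h0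
  refine ⟨(2 : K)⁻¹ • (w + ε • s w), (M).smul_mem _ ((M).add_mem hw ((M).smul_mem _ (A.sM hw))), ?_, ?_⟩
  · have hsw : s (s w) = w := hw.1
    simp only [map_smul, map_add, hsw]
    have : (2 : K)⁻¹ • (s w + ε • w) = (2 : K)⁻¹ • ((ε * ε) • s w + ε • w) := by rw [hε, one_smul]
    rw [this]; module
  · have h3 : B (d (s w)) v = ε := by
      have h4 : B (s (d w)) (s v) = B (d w) v := polar_map A.Os _ _
      rw [h1, polar_smul_right, A.sd, hwv, smul_eq_mul] at h4
      calc _ = ε * (ε * B (d (s w)) v) := by rw [← mul_assoc, hε, one_mul]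
        _ = _ := by rw [h4, mul_one]
    simp only [map_smul, map_add, polar_smul_left, polar_add_left, hwv, h3, smul_eq_mul, hε]
    have := A.two
    field_simp
    norm_num

/-- eigenvectors -/
theorem eig {v : V} (hv : v ∈ M) (h0 : v ≠ 0) : ∃ ε c : K, ε * ε = 1 ∧ (2 : K)⁻¹ • (v + ε • s v) ≠ 0 := by
  by_contra hcon
  push Not at hcon
  have h1 := hcon 1 0 (one_mul 1)
  have h2 := hcon (-1) 0 (by ring)
  apply h0
  have h3 : v = ((2 : K)⁻¹ * 2) • v := by rw [inv_mul_cancel₀ A.two, one_smul]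
  rw [h3]
  calc ((2 : K)⁻¹ * 2) • v = (2 : K)⁻¹ • (v + (1 : K) • s v) + (2 : K)⁻¹ • (v + (-1 : K) • s v) := by module
    _ = 0 := by rw [h1, h2, add_zero]

/-- the decomposition of `V` and equality of maps commuting with `Nh` -/
theorem eq_one {e : V ≃ₗ[K] V} (he : ∀ n ∈ Nh, e * n = n * e) (hM : ∀ v ∈ M, e v = v)
    (hc : ∀ v, s (s v) = -v → e v = v) : e = 1 := by
  have h : ∀ n ∈ Nh, ∀ y, e (n y) = n (e y) := fun n hn y => congrArg (fun f : V ≃ₗ[K] V => f y) (he n hn)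
  have hd : ∀ y, e (d y) = d (e y) := fun y => by
    rw [dd_apply, dd_apply, h _ A.N2, h _ A.M2]
  refine LinearEquiv.ext fun y => ?_
  obtain ⟨a, b, rfl, ha, hb⟩ := A.dec y
  obtain ⟨y0, hy0, y1, hy1, y2, hy2, y3, hy3, rfl⟩ := A.exists_dec (show a ∈ Wr s from ha)
  change e (y0 + d y1 + (m1 y2 + m1 (d y3)) + b) = y0 + d y1 + (m1 y2 + m1 (d y3)) + b
  simp only [map_add, hc b hb, h _ A.M1, hd, hM _ hy0, hM _ hy1, hM _ hy2, hM _ hy3]

/-- the form and hyperbolic pairs -/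
theorem pair_facts {v w : V} (hv : v ∈ M) (hw : w ∈ M) (h : B (d w) v = 1) :
    B (d v) w = -1 ∧ B (d v) v = 0 ∧ B (d w) w = 0 :=
  ⟨by rw [A.sym hv.1, h], by rw [polar_comm, A.Bvdv hv.1], by rw [polar_comm, A.Bvdv hw.1]⟩

/-- independence -/
theorem indep {v w : V} (hv : v ∈ M) (hw : w ∈ M) (h : B (d w) v = 1) {a b c e : K}
    (h1 : a • v + b • w = c • v + e • w) : a = c ∧ b = e := by
  obtain ⟨k1, k2, k3⟩ := A.pair_facts hv hw h
  constructor
  · have h2 := congrArg (fun y => B (d w) y) h1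
    simp only [polar_add_right, polar_smul_right, h, k3, smul_eq_mul] at h2
    linear_combination h2
  · have h2 := congrArg (fun y => B (d v) y) h1
    simp only [polar_add_right, polar_smul_right, k1, k2, smul_eq_mul] at h2
    linear_combination -h2

/-- a second pair -/
theorem second {v w y : V} {ε : K} (hε : ε * ε = 1) (hv : v ∈ M) (hw : w ∈ M) (h1 : s v = ε • v) (h2 : s w = ε • w)
    (h : B (d w) v = 1) (hy : y ∈ M) (hne : y ≠ B (d w) y • v - B (d v) y • w) :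
    ∃ (v' w' : V) (ε' : K), ε' * ε' = 1 ∧ v' ∈ M ∧ w' ∈ M ∧ s v' = ε' • v' ∧ s w' = ε' • w' ∧ B (d w') v' = 1 ∧
      B (d v) v' = 0 ∧ B (d v) w' = 0 ∧ B (d w) v' = 0 ∧ B (d w) w' = 0 := by
  obtain ⟨k1, k2, k3⟩ := A.pair_facts hv hw h
  have key : ∀ u : V, s u = ε • u → ∀ x, B (d u) (s x) = ε * B (d u) x := by
    intro u hu x
    have h4 : B (s (d u)) (s x) = B (d u) x := polar_map A.Os _ _
    rw [A.sd, hu, map_smul, polar_smul_left, smul_eq_mul] at h4
    calc _ = ε * (ε * B (d u) (s x)) := by rw [← mul_assoc, hε, one_mul]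
      _ = _ := by rw [h4]
  -- projection to the orthogonal complement
  let y' := y - (B (d w) y • v - B (d v) y • w)
  have hy' : y' ∈ M := (M).sub_mem hy ((M).sub_mem ((M).smul_mem _ hv) ((M).smul_mem _ hw))
  have hy0 : y' ≠ 0 := fun h => hne (sub_eq_zero.1 h)
  have o1 : B (d v) y' = 0 := by
    simp only [y', polar_sub_right, polar_smul_right, k1, k2, smul_eq_mul]; ring
  have o2 : B (d w) y' = 0 := by
    simp only [y', polar_sub_right, polar_smul_right, h, k3, smul_eq_mul]; ring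
  obtain ⟨ε', -, hε', hv0⟩ := A.eig hy' hy0
  set v' := (2 : K)⁻¹ • (y' + ε' • s y') with hv'
  have hv'M : v' ∈ M := (M).smul_mem _ ((M).add_mem hy' ((M).smul_mem _ (A.sM hy')))
  have hsv' : s v' = ε' • v' := by
    have hss : s (s y') = y' := hy'.1
    rw [hv']
    simp only [map_smul, map_add, hss]
    have : (2 : K)⁻¹ • (s y' + ε' • y') = (2 : K)⁻¹ • ((ε' * ε') • s y' + ε' • y') := by rw [hε', one_smul]
    rw [this]; module
  have o3 : B (d v) v' = 0 := by
    rw [hv', polar_smul_right, polar_add_right, polar_smul_right, key v h1, o1]; simp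
  have o4 : B (d w) v' = 0 := by
    rw [hv', polar_smul_right, polar_add_right, polar_smul_right, key w h2, o2]; simp
  obtain ⟨w0, hw0, hsw0, hwv0⟩ := A.hyp hε' hv'M hv0 hsv'
  have key2 : ∀ u : V, s u = ε • u → ε' * B (d u) w0 = ε * B (d u) w0 := by
    intro u hu
    rw [← key u hu, hsw0, polar_smul_right, smul_eq_mul]
  have p1 : B (d v') v = 0 := by rw [A.sym hv'M.1, o3, neg_zero]
  have p2 : B (d v') w = 0 := by rw [A.sym hv'M.1, o4, neg_zero]
  refine ⟨v', w0 - (B (d w) w0 • v - B (d v) w0 • w), ε', hε', hv'M,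
    (M).sub_mem hw0 ((M).sub_mem ((M).smul_mem _ hv) ((M).smul_mem _ hw)), hsv', ?_, ?_, o3, ?_, o4, ?_⟩
  · simp only [map_sub, map_smul, hsw0, h1, h2]
    have e1 := key2 w h2
    have e2 := key2 v h1
    have : B (d w) w0 • ε • v - B (d v) w0 • ε • w = (ε * B (d w) w0) • v - (ε * B (d v) w0) • w := by module
    rw [this, ← e1, ← e2]; module
  · rw [A.sym (Submodule.sub_mem _ hw0.1 (Submodule.sub_mem _ (Submodule.smul_mem _ _ hv.1)
      (Submodule.smul_mem _ _ hw.1))), polar_sub_right, polar_sub_right, polar_smul_right, polar_smul_right, p1, p2,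
      A.sym hv'M.1, hwv0]
    simp
  · simp only [polar_sub_right, polar_smul_right, k1, k2, smul_eq_mul]; ring
  · simp only [polar_sub_right, polar_smul_right, h, k3, smul_eq_mul]; ring

/-- the element `J` of order four of a hyperbolic plane -/
theorem J_facts {v w : V} (hv : v ∈ M) (hw : w ∈ M) (h : B (d w) v = 1) {J : V ≃ₗ[K] V}
    (hJ : ∀ y, J y = XX Q m1 d v w 0 (-1) 1 0 y) :
    J v = w ∧ J w = -v ∧ J ^ 4 = 1 ∧ (∀ u ∈ M, B (d v) u = 0 → B (d w) u = 0 → J u = u) ∧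
      (∀ y, s (s y) = -y → J y = y) := by
  refine ⟨?_, ?_, ?_, ?_, ?_⟩
  · rw [hJ, A.X_v hv hw h]; module
  · rw [hJ, A.X_w hv hw h]; module
  · refine LinearEquiv.ext fun y => ?_
    change J (J (J (J y))) = y
    rw [hJ (J (J (J y))), hJ (J (J y)), hJ (J y), hJ y, A.X_comp hv hw h, A.X_comp hv hw h, A.X_comp hv hw h, XX_apply]
    module
  · intro u hu h1 h2
    rw [hJ, A.X_fix hv hw hu h1 h2]
  · intro y hy
    rw [hJ, A.X_perp hv hw _ _ _ _ (fun u hu => A.orth hu hy)]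

omit A in
theorem pow4 {v w : V} {J : V ≃ₗ[K] V} (h1 : J v = w) (h2 : J w = -v) (h4 : J ^ 4 = 1) (p : ℕ) :
    (p % 4 = 0 ∧ (J ^ p) v = v) ∨ (p % 4 = 1 ∧ (J ^ p) v = w) ∨ (p % 4 = 2 ∧ (J ^ p) v = -v) ∨
      (p % 4 = 3 ∧ (J ^ p) v = -w) := by
  have h3 : J ^ p = J ^ (p % 4) := pow_eq_pow_mod p h4
  have h5 : p % 4 < 4 := Nat.mod_lt _ (by norm_num)
  rw [h3]
  interval_cases p % 4
  · left; exact ⟨rfl, rfl⟩
  · right; left
    refine ⟨rfl, ?_⟩
    rw [pow_one, h1]
  · right; right; left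
    refine ⟨rfl, ?_⟩
    change J (J v) = -v
    rw [h1, h2]
  · right; right; right
    refine ⟨rfl, ?_⟩
    change J (J (J v)) = -w
    rw [h1, h2, map_neg, h1]

/-- **the main computation for `T5`** -/
theorem key {v w v' w' b : V} (hv : v ∈ M) (hw : w ∈ M) (h : B (d w) v = 1) (hv' : v' ∈ M) (hw' : w' ∈ M)
    (h' : B (d w') v' = 1) (o1 : B (d v) v' = 0) (o2 : B (d v) w' = 0) (o3 : B (d w) v' = 0) (o4 : B (d w) w' = 0)
    {J1 J2 : V ≃ₗ[K] V} (hJ1 : ∀ y, J1 y = XX Q m1 d v w 0 (-1) 1 0 y)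
    (hJ2 : ∀ y, J2 y = XX Q m1 d v' w' 0 (-1) 1 0 y) (hb0 : b ≠ 0) (hb : s (s b) = -b) {p q k : ℕ} {c : K}
    (he : ∀ y, (J1 ^ p) ((J2 ^ q) y) = c • (s ^ k) y) :
    (p % 4 = 0 ∧ q % 4 = 0) ∨ (p % 4 = 2 ∧ q % 4 = 2 ∧ ∀ y, s (s y) = y → J1 (J1 (J2 (J2 y))) = -y) := by
  obtain ⟨a1, a2, a3, a4, a5⟩ := A.J_facts hv hw h hJ1
  obtain ⟨b1, b2, b3, b4, b5⟩ := A.J_facts hv' hw' h' hJ2
  have hne : (1 : K) ≠ -1 := by
    intro h
    apply A.two
    linear_combination h
  have fixpow : ∀ (J : V ≃ₗ[K] V) (u : V), J u = u → ∀ p : ℕ, (J ^ p) u = u := by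
    intro J u hu p
    induction p with
    | zero => rfl
    | succ p ih =>
      change (J ^ p) (J u) = u
      rw [hu, ih]
  -- `k` is even
  have hs4 : s ^ 4 = 1 := LinearEquiv.ext A.s4
  have hsk : s ^ k = s ^ (k % 4) := pow_eq_pow_mod k hs4
  have hkr : ∀ y, s (s y) = y → (s ^ k) y = y := by
    have hc : ∀ y, s (s y) = -y → y = c • (s ^ (k % 4)) y := by
      intro y hy
      have h1 := he y
      rwa [fixpow J2 y (b5 y hy), fixpow J1 y (a5 y hy), hsk] at h1
    have hc0 : c ≠ 0 := by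
      rintro rfl
      apply hb0
      rw [hc b hb, zero_smul]
    have h5 : k % 4 < 4 := Nat.mod_lt _ (by norm_num)
    intro y hy
    rw [hsk]
    interval_cases hk : k % 4
    · rfl
    · exfalso
      apply hb0
      refine A.not_sc hb (c := c⁻¹) fun v hv => ?_
      have h1 := hc v hv
      rw [pow_one] at h1
      rw [eq_comm, inv_smul_eq_iff₀ hc0]
      exact h1
    · exact hy
    · exfalso
      apply hb0
      refine A.not_sc hb (c := -c⁻¹) fun v hv => ?_
      have h1 := hc v hv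
      have h2 : (s ^ 3) v = -s v := by
        change s (s (s v)) = _
        rw [hv, map_neg]
      rw [h2] at h1
      have h3 : s v = c⁻¹ • (-v) := by
        rw [eq_comm, inv_smul_eq_iff₀ hc0]
        nth_rewrite 1 [h1]
        rw [smul_neg, neg_neg]
      rw [h3]; module
  have e1 : (J1 ^ p) v = c • v := by
    have h1 := he v
    rwa [fixpow J2 v (b4 v hv (by rw [A.sym hv'.1, o1, neg_zero]) (by rw [A.sym hw'.1, o2, neg_zero])),
      hkr v hv.1] at h1
  have h01 : ∀ u ∈ M, B (d v) u = 0 → B (d w) u = 0 → (J1 ^ p) u = u := fun u hu h1 h2 => fixpow J1 u (a4 u hu h1 h2) p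
  have e2 : (J2 ^ q) v' = c • v' := by
    have h1 := he v'
    rw [hkr v' hv'.1] at h1
    have h2 : (J1 ^ p) ((J2 ^ q) v') = (J2 ^ q) v' := by
      have f1 := h01 v' hv' o1 o3
      have f2 := h01 w' hw' o2 o4
      rcases pow4 b1 b2 b3 q with ⟨-, h2⟩ | ⟨-, h2⟩ | ⟨-, h2⟩ | ⟨-, h2⟩
      · rw [h2, f1]
      · rw [h2, f2]
      · rw [h2, map_neg, f1]
      · rw [h2, map_neg, f2]
    rwa [h2] at h1
  have fin : ∀ (J : V ≃ₗ[K] V) (v w : V) (q : ℕ), v ∈ M → w ∈ M → B (d w) v = 1 → J v = w → J w = -v → J ^ 4 = 1 →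
      (J ^ q) v = c • v → (q % 4 = 0 ∧ c = 1) ∨ (q % 4 = 2 ∧ c = -1) := by
    intro J v w q hv hw h c1 c2 c3 e
    rcases pow4 c1 c2 c3 q with ⟨h1, h2⟩ | ⟨h1, h2⟩ | ⟨h1, h2⟩ | ⟨h1, h2⟩
    · left
      refine ⟨h1, ?_⟩
      have h3 := A.indep hv hw h (a := 1) (b := 0) (c := c) (e := 0) (by
        have : c • v = v := by rw [← e, h2]
        rw [this]; module)
      exact h3.1.symm
    · exfalso
      have h3 := A.indep hv hw h (a := 0) (b := 1) (c := c) (e := 0) (by
        have : c • v = w := by rw [← e, h2]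
        rw [this]; module)
      exact one_ne_zero h3.2
    · right
      refine ⟨h1, ?_⟩
      have h3 := A.indep hv hw h (a := -1) (b := 0) (c := c) (e := 0) (by
        have : c • v = -v := by rw [← e, h2]
        rw [this]; module)
      exact h3.1.symm
    · exfalso
      have h3 := A.indep hv hw h (a := 0) (b := -1) (c := c) (e := 0) (by
        have : c • v = -w := by rw [← e, h2]
        rw [this]; module)
      exact (neg_ne_zero.2 one_ne_zero) h3.2
  rcases fin J1 v w p hv hw h a1 a2 a3 e1 with ⟨p1, p2⟩ | ⟨p1, p2⟩ <;>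
  rcases fin J2 v' w' q hv' hw' h' b1 b2 b3 e2 with ⟨q1, q2⟩ | ⟨q1, q2⟩
  · exact Or.inl ⟨p1, q1⟩
  · exact absurd (p2.symm.trans q2) hne
  · exact absurd (q2.symm.trans p2) hne
  · refine Or.inr ⟨p1, q1, fun y hy => ?_⟩
    have h1 := he y
    rw [hkr y hy, p2, neg_one_smul, pow_eq_pow_mod p a3, pow_eq_pow_mod q b3, p1, q1] at h1
    exact h1

end

end SO

section main

variable {G : Type*} [Group G] [Finite G] {Q : QuadraticForm K V} {s n1 m1 n2 m2 : V ≃ₗ[K] V} {α β : K}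
  {Nh Eh : Subgroup (V ≃ₗ[K] V)} {π : ↥(E Q) →* G} {N0 A0 E0 : Subgroup G} {z s0 x r : G}
  {ψ : ↥A0 →* Equiv.Perm (Fin 6)} {zh xh rh : V ≃ₗ[K] V}

local notation "B" => polar Q
local notation "d" => dd n2 m2
local notation "M" => Mo (Wr s) n1 n2 m2 α β

/-- two orthogonal hyperbolic planes are impossible -/
theorem caseA (T : Kit N0 A0 E0 z s0 x r ψ) (L : Lin (E Q) π)
    (l : LKit (E Q) π N0 A0 E0 z s0 x r Nh Eh zh s xh rh) (A : SO Q s n1 m1 n2 m2 α β Nh) {b : V} (hb0 : b ≠ 0)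
    (hb : s (s b) = -b) {v w v' w' : V} {ε ε' : K} (hε : ε * ε = 1) (hε' : ε' * ε' = 1)
    (hv : v ∈ M) (hw : w ∈ M) (h : B (d w) v = 1) (hv' : v' ∈ M) (hw' : w' ∈ M)
    (h' : B (d w') v' = 1) (o1 : B (d v) v' = 0) (o2 : B (d v) w' = 0) (o3 : B (d w) v' = 0) (o4 : B (d w) w' = 0)
    (s1 : s v = ε • v) (s2 : s w = ε • w) (s3 : s v' = ε' • v') (s4 : s w' = ε' • w') : False := by
  obtain ⟨J1, hJ1E, hJ1⟩ := A.exists_X hv hw h (a := 0) (b := -1) (c := 1) (e := 0) (by ring)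
  obtain ⟨J2, hJ2E, hJ2⟩ := A.exists_X hv' hw' h' (a := 0) (b := -1) (c := 1) (e := 0) (by ring)
  have hcomm : J1 * J2 = J2 * J1 := LinearEquiv.ext fun y => by
    change J1 (J2 y) = J2 (J1 y)
    rw [hJ1, hJ2, hJ2, hJ1, A.X_orth hv hw hv' hw' o1 o2 o3 o4]
  have hN1 : ∀ n ∈ Nh, J1 * n = n * J1 := fun n hn => LinearEquiv.ext fun y => by
    change J1 (n y) = n (J1 y)
    rw [hJ1, hJ1]
    exact A.X_N hε hv hw s1 s2 0 (-1) 1 0 hn y
  have hN2 : ∀ n ∈ Nh, J2 * n = n * J2 := fun n hn => LinearEquiv.ext fun y => by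
    change J2 (n y) = n (J2 y)
    rw [hJ2, hJ2]
    exact A.X_N hε' hv' hw' s3 s4 0 (-1) 1 0 hn y
  obtain ⟨a1, a2, a3, a4, a5⟩ := A.J_facts hv hw h hJ1
  obtain ⟨b1, b2, b3, b4, b5⟩ := A.J_facts hv' hw' h' hJ2
  let p1 : ↥(E Q) := ⟨J1, hJ1E⟩
  let p2 : ↥(E Q) := ⟨J2, hJ2E⟩
  have hp12 : Commute (π p1) (π p2) := by
    change π p1 * π p2 = π p2 * π p1
    rw [← map_mul, ← map_mul]
    exact congrArg π (Subtype.ext hcomm)
  have c1 : ∀ n ∈ N0, π p1 * n = n * π p1 :=
    l.mem_C L hJ1E (fun n hn => ⟨1, fun v => by rw [one_smul, hN1 n hn]⟩)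
  have c2 : ∀ n ∈ N0, π p2 * n = n * π p2 :=
    l.mem_C L hJ2E (fun n hn => ⟨1, fun v => by rw [one_smul, hN2 n hn]⟩)
  have q1 : π p1 ^ 4 = 1 := by
    rw [← map_pow, ← map_one π]
    exact congrArg π (Subtype.ext a3)
  have q2 : π p2 ^ 4 = 1 := by
    rw [← map_pow, ← map_one π]
    exact congrArg π (Subtype.ext b3)
  have key' : ∀ p q : ℕ, π p1 ^ p * π p2 ^ q ∈ zpowers s0 → (p % 4 = 0 ∧ q % 4 = 0) ∨
      (p % 4 = 2 ∧ q % 4 = 2 ∧ ∀ y, s (s y) = y → J1 (J1 (J2 (J2 y))) = -y) := by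
    intro p q hpq
    obtain ⟨k, hk⟩ := mem_powers_iff_mem_zpowers.2 hpq
    have hk' : s0 ^ k = π p1 ^ p * π p2 ^ q := hk
    obtain ⟨c, -, hc⟩ := L.smul_of_eq (g := p1 ^ p * p2 ^ q) (h := ⟨s, l.sG⟩ ^ k) (by
      rw [map_mul, map_pow, map_pow, map_pow, l.pi_s, hk'])
    exact A.key hv hw h hv' hw' h' o1 o2 o3 o4 hJ1 hJ2 hb0 hb (c := c) (k := k) hc
  by_cases hI : ∀ y, s (s y) = y → J1 (J1 (J2 (J2 y))) = -y
  · refine T5b T (a := π p1) (b := π p1 * π p2) c1 ?_ ?_ q1 ?_ ?_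
    · intro n hn
      rw [mul_assoc, c2 n hn, ← mul_assoc, c1 n hn, mul_assoc]
    · exact ((Commute.refl (π p1)).mul_right hp12).eq
    · have h1 : π ((p1 * p2) ^ 2) = π (⟨s, l.sG⟩ ^ 2) := by
        refine L.eq_of_smul (c := -1) fun y => ?_
        change J1 (J2 (J1 (J2 y))) = (-1 : K) • s (s y)
        have h2 : J2 (J1 (J2 y)) = J1 (J2 (J2 y)) := (congrArg (fun f : V ≃ₗ[K] V => f (J2 y)) hcomm).symm
        rw [h2]
        obtain ⟨a, b', rfl, ha, hb'⟩ := A.dec y
        simp only [map_add]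
        rw [hI a ha, b5 b' hb', b5 b' hb', a5 b' hb', a5 b' hb', ha, hb']
        module
      rw [map_pow, map_mul, map_pow, l.pi_s] at h1
      rw [h1]
      exact pow_mem (mem_zpowers s0) 2
    · intro i j hij
      rw [hp12.mul_pow, ← mul_assoc, ← pow_add] at hij
      rcases key' _ _ hij with ⟨h1, h2⟩ | ⟨h1, h2, -⟩ <;> omega
  · refine T5b T (a := π p1) (b := π p2 ^ 2) c1 ?_ ?_ q1 ?_ ?_
    · intro n hn
      exact ((show Commute (π p2) n from c2 n hn).pow_left 2).eq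
    · exact (hp12.pow_right 2).eq
    · rw [← pow_mul, q2]
      exact one_mem _
    · intro i j hij
      rw [← pow_mul] at hij
      rcases key' _ _ hij with ⟨h1, h2⟩ | ⟨h1, h2, h3⟩
      · omega
      · exact absurd h3 hI

open Cfsg.Agent.H402.PSL2Cls (mkSL ext4 mul00 mul01 mul10 mul11 tr det_eq exists_conj_of_tr_eq) in
/-- only one hyperbolic plane is impossible -/
theorem caseB [Finite K] [FiniteDimensional K V] (T : Kit N0 A0 E0 z s0 x r ψ) (L : Lin (E Q) π)
    (l : LKit (E Q) π N0 A0 E0 z s0 x r Nh Eh zh s xh rh) (A : SO Q s n1 m1 n2 m2 α β Nh)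
    (hE : ∀ e ∈ Eh, ∀ y, s (s y) = -y → e y = y) (hnt : ∃ e ∈ Eh, ∃ y, s (s y) = y ∧ e y ≠ y)
    {v w : V} {ε : K} (hε : ε * ε = 1)
    (hv : v ∈ M) (hw : w ∈ M) (h : B (d w) v = 1) (s1 : s v = ε • v) (s2 : s w = ε • w)
    (hspan : ∀ y ∈ M, y = B (d w) y • v - B (d v) y • w) : False := by
  obtain ⟨k1, k2, k3⟩ := A.pair_facts hv hw h
  have hv0 : v ≠ 0 := by
    rintro rfl
    rw [polar_zero_right] at h
    exact zero_ne_one h
  have hEN : ∀ e ∈ Eh, ∀ n ∈ Nh, e * n = n * e := l.Eh_comm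
  have hEs : ∀ e ∈ Eh, e * s = s * e := fun e he => l.Eh_comm e he s l.sN
  have hEO : ∀ e ∈ Eh, e ∈ O Q := fun e he => E_le_O (l.Eh_le he)
  have hEM : ∀ e ∈ Eh, ∀ y ∈ M, e y ∈ M := fun e he y hy => A.eM (hEN e he) (hEs e he) hy
  have hEd : ∀ e ∈ Eh, ∀ y, e (d y) = d (e y) := by
    intro e he y
    have h1 : e (n2 (m2 y)) = n2 (e (m2 y)) := congrArg (fun f : V ≃ₗ[K] V => f (m2 y)) (hEN e he n2 A.N2)
    have h2 : e (m2 y) = m2 (e y) := congrArg (fun f : V ≃ₗ[K] V => f y) (hEN e he m2 A.M2)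
    rw [dd_apply, dd_apply, h1, h2]
  have hEm : ∀ e ∈ Eh, ∀ y, e (m1 y) = m1 (e y) := fun e he y =>
    congrArg (fun f : V ≃ₗ[K] V => f y) (hEN e he m1 A.M1)
  -- the matrix
  have ev : ∀ e ∈ Eh, e v = B (d w) (e v) • v + (-B (d v) (e v)) • w := by
    intro e he
    conv_lhs => rw [hspan _ (hEM e he v hv)]
    module
  have ew : ∀ e ∈ Eh, e w = B (d w) (e w) • v + (-B (d v) (e w)) • w := by
    intro e he
    conv_lhs => rw [hspan _ (hEM e he w hw)]
    module
  have edet : ∀ e ∈ Eh, B (d w) (e v) * (-B (d v) (e w)) - B (d w) (e w) * (-B (d v) (e v)) = 1 := by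
    intro e he
    have h1 : B (d (e w)) (e v) = 1 := by
      rw [← hEd e he, polar_map (hEO e he), h]
    have h2 : ∀ a b c e' : K, B (d (a • v + b • w)) (c • v + e' • w) = c * b - a * e' := by
      intro a b c e'
      rw [map_add, map_smul, map_smul, polar_add_left, polar_add_right, polar_add_right, polar_smul_left,
        polar_smul_left, polar_smul_left, polar_smul_left, polar_smul_right, polar_smul_right, polar_smul_right,
        polar_smul_right, h, k1, k2, k3]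
      simp only [smul_eq_mul]; ring
    have h3 := h2 (B (d w) (e w)) (-B (d v) (e w)) (B (d w) (e v)) (-B (d v) (e v))
    rw [← ew e he, ← ev e he, h1] at h3
    exact h3.symm
  let f : ↥Eh →* Matrix.SpecialLinearGroup (Fin 2) K :=
    { toFun := fun e => mkSL _ _ _ _ (edet e.1 e.2)
      map_one' := by
        refine ext4 ?_ ?_ ?_ ?_
        · change B (d w) v = 1
          exact h
        · change B (d w) w = 0
          exact k3
        · change -B (d v) v = 0
          rw [k2, neg_zero]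
        · change -B (d v) w = 1
          rw [k1, neg_neg]
      map_mul' := by
        intro e e'
        have h1 : ∀ a b : K, ∀ u : V, B u (e.1 (a • v + b • w)) = a * B u (e.1 v) + b * B u (e.1 w) := by
          intro a b u
          rw [map_add, map_smul, map_smul, polar_add_right, polar_smul_right, polar_smul_right]
          rfl
        have h2 : ∀ u : V, B u (e.1 (e'.1 v)) = B (d w) (e'.1 v) * B u (e.1 v) + (-B (d v) (e'.1 v)) * B u (e.1 w) := by
          intro u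
          rw [← h1, ← ev e'.1 e'.2]
        have h3 : ∀ u : V, B u (e.1 (e'.1 w)) = B (d w) (e'.1 w) * B u (e.1 v) + (-B (d v) (e'.1 w)) * B u (e.1 w) := by
          intro u
          rw [← h1, ← ew e'.1 e'.2]
        refine ext4 ?_ ?_ ?_ ?_
        · rw [mul00]
          change B (d w) (e.1 (e'.1 v)) = B (d w) (e.1 v) * B (d w) (e'.1 v) + B (d w) (e.1 w) * (-B (d v) (e'.1 v))
          rw [h2]; ring
        · rw [mul01]
          change B (d w) (e.1 (e'.1 w)) = B (d w) (e.1 v) * B (d w) (e'.1 w) + B (d w) (e.1 w) * (-B (d v) (e'.1 w))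
          rw [h3]; ring
        · rw [mul10]
          change -B (d v) (e.1 (e'.1 v)) = (-B (d v) (e.1 v)) * B (d w) (e'.1 v) + (-B (d v) (e.1 w)) * (-B (d v) (e'.1 v))
          rw [h2]; ring
        · rw [mul11]
          change -B (d v) (e.1 (e'.1 w)) = (-B (d v) (e.1 v)) * B (d w) (e'.1 w) + (-B (d v) (e.1 w)) * (-B (d v) (e'.1 w))
          rw [h3]; ring }
  have fv : ∀ e : ↥Eh, e.1 v = (f e).1 0 0 • v + (f e).1 1 0 • w := fun e => ev e.1 e.2
  have fw : ∀ e : ↥Eh, e.1 w = (f e).1 0 1 • v + (f e).1 1 1 • w := fun e => ew e.1 e.2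
  have one_of : ∀ e ∈ Eh, e v = v → e w = w → e = 1 := by
    intro e he h1 h2
    refine A.eq_one (hEN e he) (fun y hy => ?_) (hE e he)
    rw [hspan y hy, map_sub, map_smul, map_smul, h1, h2]
  have hinj : Function.Injective f := by
    rw [injective_iff_map_eq_one]
    intro e he
    refine Subtype.ext (one_of e.1 e.2 ?_ ?_)
    · rw [fv, he]
      change (1 : K) • v + (0 : K) • w = v
      module
    · rw [fw, he]
      change (0 : K) • v + (1 : K) • w = w
      module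
  have : Finite V := Module.finite_of_finite K
  have : Finite (V ≃ₗ[K] V) := DFunLike.finite _
  -- `char K = 3`
  have h3 : (3 : K) = 0 := by
    by_contra h3
    have hA : ∀ e : ↥Eh, π ⟨e.1, l.Eh_le e.2⟩ ∈ A0 := fun e => T.E_A (l.Eh_mem e.1 e.2 _)
    let φ : ↥Eh →* Equiv.Perm (Fin 6) := ψ.comp ((π.comp (Subgroup.inclusion l.Eh_le)).codRestrict A0 hA)
    refine no_SL2 h3 f hinj φ fun σ hσ => ?_
    obtain ⟨e, he, heσ⟩ := T.E_img σ hσ
    obtain ⟨g, hg, hge⟩ := l.Eh_surj e he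
    refine ⟨⟨g, hg⟩, ?_⟩
    have h4 := heσ (T.E_A he)
    rw [← h4]
    exact congrArg ψ (Subtype.ext (hge (l.Eh_le hg)))
  -- Cayley-Hamilton
  have CH : ∀ e : ↥Eh, ∀ y ∈ Wr s, e.1 (e.1 y) = tr (f e) • e.1 y - y := by
    intro e
    have hdet := det_eq (f e)
    have l1 : ∀ (a b c e' : K), a * e' - b * c = 1 →
        a • (a • v + c • w) + c • (b • v + e' • w) = (a + e') • (a • v + c • w) - v := by
      intro a b c e' h
      calc _ = (a + e') • (a • v + c • w) - (a * e' - b * c) • v := by module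
        _ = _ := by rw [h, one_smul]
    have l2 : ∀ (a b c e' : K), a * e' - b * c = 1 →
        b • (a • v + c • w) + e' • (b • v + e' • w) = (a + e') • (b • v + e' • w) - w := by
      intro a b c e' h
      calc _ = (a + e') • (b • v + e' • w) - (a * e' - b * c) • w := by module
        _ = _ := by rw [h, one_smul]
    have c1 : e.1 (e.1 v) = tr (f e) • e.1 v - v := by
      rw [fv, map_add, map_smul, map_smul, fv, fw]
      exact l1 _ _ _ _ hdet
    have c2 : e.1 (e.1 w) = tr (f e) • e.1 w - w := by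
      rw [fw, map_add, map_smul, map_smul, fv, fw]
      exact l2 _ _ _ _ hdet
    have c3 : ∀ y ∈ M, e.1 (e.1 y) = tr (f e) • e.1 y - y := by
      intro y hy
      rw [hspan y hy]
      simp only [map_sub, map_smul, c1, c2]
      module
    intro y hy
    obtain ⟨y0, hy0, y1, hy1, y2, hy2, y3, hy3, rfl⟩ := A.exists_dec hy
    simp only [map_add, hEm e.1 e.2, hEd e.1 e.2, c3 _ hy0, c3 _ hy1, c3 _ hy2, c3 _ hy3, map_sub, map_smul]
    module
  let xx : ↥Eh := ⟨xh, l.xE⟩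
  -- the trace of `x`
  have ht : tr (f xx) ^ 2 ≠ 4 := by
    intro ht
    have hx3 : ∀ y ∈ Wr s, xh (xh (xh y)) = -tr (f xx) • y := by
      intro y hy
      have h4 := CH xx y hy
      have h5 : xh (xh (xh y)) = tr (f xx) • xh (xh y) - xh y := by
        rw [show xh (xh y) = tr (f xx) • xh y - y from h4, map_sub, map_smul]
        rw [show xh (xh y) = tr (f xx) • xh y - y from h4]
      rw [h5, show xh (xh y) = tr (f xx) • xh y - y from h4]
      have h6 : tr (f xx) • (tr (f xx) • xh y - y) - xh y = (tr (f xx) ^ 2 - 4 + 3) • xh y - tr (f xx) • y := by module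
      rw [h6, ht, h3, sub_self, add_zero, zero_smul]
      module
    have hx6 : xh ^ 6 = 1 := by
      have hmem : xh ^ 6 ∈ Eh := pow_mem l.xE 6
      have h7 : ∀ y ∈ Wr s, (xh ^ 6) y = y := by
        intro y hy
        change xh (xh (xh (xh (xh (xh y))))) = y
        rw [hx3 y hy, map_smul, map_smul, map_smul, hx3 y hy, smul_smul]
        have h8 : -tr (f xx) * -tr (f xx) = 1 + 3 := by linear_combination ht
        rw [h8, h3, add_zero, one_smul]
      exact one_of _ hmem (h7 v hv.1) (h7 w hw.1)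
    have hx1 : xh = 1 := by
      obtain ⟨k, hk⟩ := l.x_five
      have h7 : orderOf xh ∣ 6 := orderOf_dvd_of_pow_eq_one hx6
      have h8 : orderOf xh ∣ 5 ^ k := orderOf_dvd_of_pow_eq_one hk
      have h9 : Nat.Coprime 6 (5 ^ k) := Nat.Coprime.pow_right _ (by norm_num)
      exact orderOf_eq_one_iff.1 (Nat.eq_one_of_dvd_coprimes h9 h7 h8)
    have h2 : x = 1 := by
      rw [← l.pi_x (by rw [hx1]; exact one_mem _)]
      have : (⟨xh, by rw [hx1]; exact one_mem _⟩ : ↥(E Q)) = 1 := Subtype.ext hx1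
      rw [this, map_one]
    have h3' := T.psi_x (by rw [h2]; exact one_mem _)
    have h4 : (⟨x, by rw [h2]; exact one_mem _⟩ : ↥A0) = 1 := Subtype.ext h2
    rw [h4, map_one] at h3'
    exact c5_ne h3'.symm
  -- `rh` commutes with `s²`
  have hrN : ∀ e ∈ Eh, rh * e * rh⁻¹ ∈ Eh := fun e he => ((mem_normalizer_iff.1 l.rE) e).1 he
  have hrr : ∀ y, rh (rh⁻¹ y) = y := fun y => LinearEquiv.apply_symm_apply rh y
  have hrr' : ∀ y, rh⁻¹ (rh y) = y := fun y => LinearEquiv.symm_apply_apply rh y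
  have hr2 : ∀ y, rh (s (s y)) = s (s (rh y)) := by
    obtain ⟨c, hc0, hc⟩ := l.r_s
    have hsi : ∀ y, s⁻¹ (s y) = y := fun y => LinearEquiv.symm_apply_apply s y
    have h4 : ∀ y, rh (s (s y)) = (c * c) • s (s (rh y)) := by
      intro y
      have h5 : ∀ u, rh (s u) = c • s⁻¹ (rh u) := hc
      rw [h5, h5, map_smul, smul_smul]
      congr 1
      conv_lhs => rw [← A.s4 (rh y)]
      rw [hsi, hsi]
    have h5 : c * c * (c * c) = 1 := by
      have h6 : rh v = (c * c * (c * c)) • rh v := by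
        conv_lhs => rw [← A.s4 v]
        rw [h4, h4, map_smul, map_smul, A.s4, smul_smul]
      have h7 : (1 - c * c * (c * c)) • rh v = 0 := by
        rw [sub_smul, one_smul, ← h6, sub_self]
      rcases smul_eq_zero.1 h7 with h8 | h8
      · linear_combination -h8
      · exact absurd ((LinearEquiv.map_eq_zero_iff rh).1 h8) hv0
    have h6 : (c * c - 1) * (c * c + 1) = 0 := by linear_combination h5
    rcases mul_eq_zero.1 h6 with h7 | h7
    · intro y
      rw [h4, show c * c = 1 by linear_combination h7, one_smul]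
    · exfalso
      obtain ⟨e, he, y, hy, hne⟩ := hnt
      apply hne
      have h8 : s (s (rh y)) = -rh y := by
        have h9 := h4 y
        rw [hy, show c * c = -1 by linear_combination h7] at h9
        calc s (s (rh y)) = -((-1 : K) • s (s (rh y))) := by module
          _ = -rh y := by rw [← h9]
      have h9 := hE _ (hrN e he) (rh y) h8
      change rh (e (rh⁻¹ (rh y))) = rh y at h9
      rw [hrr'] at h9
      exact rh.injective h9
  -- the conjugate of `x`
  let yy : ↥Eh := ⟨rh * xh * rh⁻¹, hrN xh l.xE⟩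
  have htr : tr (f xx) = tr (f yy) := by
    have h4 := CH yy v hv.1
    have hW : rh⁻¹ v ∈ Wr s := by
      rw [mem_Wr]
      apply rh.injective
      rw [hr2, hrr]
      exact hv.1
    have h5 := CH xx _ hW
    have h6 : yy.1 (yy.1 v) = tr (f xx) • yy.1 v - v := by
      change rh (xh (rh⁻¹ (rh (xh (rh⁻¹ v))))) = _ • rh (xh (rh⁻¹ v)) - v
      rw [hrr', show xh (xh (rh⁻¹ v)) = tr (f xx) • xh (rh⁻¹ v) - rh⁻¹ v from h5, map_sub, map_smul, hrr]
    rw [h4] at h6
    have h7 : (tr (f xx) - tr (f yy)) • yy.1 v = 0 := by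
      rw [sub_smul, sub_eq_zero]
      exact (sub_left_injective h6).symm
    rcases smul_eq_zero.1 h7 with h8 | h8
    · exact sub_eq_zero.1 h8
    · exact absurd ((LinearEquiv.map_eq_zero_iff yy.1).1 h8) hv0
  have : Fintype K := Fintype.ofFinite K
  obtain ⟨g, hg⟩ := exists_conj_of_tr_eq htr ht
  have hgx : g * f xx = f yy * g := by rw [hg]; group
  obtain ⟨gh, hghE, hgh⟩ := A.exists_X hv hw h (a := g.1 0 0) (b := g.1 0 1) (c := g.1 1 0) (e := g.1 1 1) (det_eq g)
  have gN : ∀ n ∈ Nh, gh * n = n * gh := fun n hn => LinearEquiv.ext fun y => by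
    change gh (n y) = n (gh y)
    rw [hgh, hgh]
    exact A.X_N hε hv hw s1 s2 _ _ _ _ hn y
  have gv : gh v = g.1 0 0 • v + g.1 1 0 • w := by rw [hgh, A.X_v hv hw h]
  have gw : gh w = g.1 0 1 • v + g.1 1 1 • w := by rw [hgh, A.X_w hv hw h]
  have gc : ∀ y, s (s y) = -y → gh y = y := fun y hy => by
    rw [hgh, A.X_perp hv hw _ _ _ _ (fun u hu => A.orth hu hy)]
  have hev : gh (xh v) = yy.1 (gh v) := by
    rw [show xh v = _ from fv xx, gv, map_add, map_add, map_smul, map_smul, map_smul, map_smul, gv, gw, fv yy, fw yy]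
    have e1 := congrArg (fun m : Matrix.SpecialLinearGroup (Fin 2) K => m.1 0 0) hgx
    have e2 := congrArg (fun m : Matrix.SpecialLinearGroup (Fin 2) K => m.1 1 0) hgx
    simp only [mul00, mul10] at e1 e2
    have l1 : (f xx).1 0 0 • (g.1 0 0 • v + g.1 1 0 • w) + (f xx).1 1 0 • (g.1 0 1 • v + g.1 1 1 • w)
        = (g.1 0 0 * (f xx).1 0 0 + g.1 0 1 * (f xx).1 1 0) • v
          + (g.1 1 0 * (f xx).1 0 0 + g.1 1 1 * (f xx).1 1 0) • w := by module
    rw [l1, e1, e2]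
    module
  have hew : gh (xh w) = yy.1 (gh w) := by
    rw [show xh w = _ from fw xx, gw, map_add, map_add, map_smul, map_smul, map_smul, map_smul, gv, gw, fv yy, fw yy]
    have e1 := congrArg (fun m : Matrix.SpecialLinearGroup (Fin 2) K => m.1 0 1) hgx
    have e2 := congrArg (fun m : Matrix.SpecialLinearGroup (Fin 2) K => m.1 1 1) hgx
    simp only [mul01, mul11] at e1 e2
    have l1 : (f xx).1 0 1 • (g.1 0 0 • v + g.1 1 0 • w) + (f xx).1 1 1 • (g.1 0 1 • v + g.1 1 1 • w)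
        = (g.1 0 0 * (f xx).1 0 1 + g.1 0 1 * (f xx).1 1 1) • v
          + (g.1 1 0 * (f xx).1 0 1 + g.1 1 1 * (f xx).1 1 1) • w := by module
    rw [l1, e1, e2]
    module
  have hgxy : gh * xh * gh⁻¹ = rh * xh * rh⁻¹ := by
    have hkey : (yy.1 * gh)⁻¹ * (gh * xh) = 1 := by
      have hcomm : ∀ n ∈ Nh, ((yy.1 * gh)⁻¹ * (gh * xh)) * n = n * ((yy.1 * gh)⁻¹ * (gh * xh)) := by
        intro n hn
        have c1 : Commute yy.1 n := hEN _ yy.2 n hn
        have c2 : Commute gh n := gN n hn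
        have c3 : Commute xh n := hEN _ l.xE n hn
        exact ((c1.mul_left c2).inv_left.mul_left (c2.mul_left c3)).eq
      have hi : ∀ u, gh (xh u) = yy.1 (gh u) → ((yy.1 * gh)⁻¹ * (gh * xh)) u = u := by
        intro u hu
        change (yy.1 * gh)⁻¹ (gh (xh u)) = u
        rw [hu]
        exact LinearEquiv.symm_apply_apply (yy.1 * gh) u
      refine A.eq_one hcomm (fun y hy => ?_) (fun y hy => ?_)
      · rw [hspan y hy, map_sub, map_smul, map_smul, hi v hev, hi w hew]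
      · apply hi
        rw [hE _ l.xE y hy, gc y hy, hE _ yy.2 y hy]
    have h4 : gh * xh = yy.1 * gh := by
      rw [inv_mul_eq_one] at hkey
      exact hkey.symm
    rw [h4, mul_assoc, mul_inv_cancel, mul_one]
  have gA : π ⟨gh, hghE⟩ ∈ A0 := l.mem_A T L hghE fun n hn => ⟨1, Or.inl fun v => by rw [one_smul, gN n hn]⟩
  have gC := l.mem_C L hghE fun n hn => ⟨1, fun v => by rw [one_smul, gN n hn]⟩
  refine T.T7 gA (gC s0 T.sN) ?_
  have h5 : π (⟨gh, hghE⟩ * ⟨xh, l.Eh_le l.xE⟩ * ⟨gh, hghE⟩⁻¹) = π (⟨rh, l.rG⟩ * ⟨xh, l.Eh_le l.xE⟩ * ⟨rh, l.rG⟩⁻¹) :=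
    congrArg π (Subtype.ext hgxy)
  rw [map_mul, map_mul, map_mul, map_mul, map_inv, map_inv, l.pi_x, l.pi_r] at h5
  exact h5

/-- **Arf invariant one** -/
theorem arf_one [Finite K] [FiniteDimensional K V] (T : Kit N0 A0 E0 z s0 x r ψ) (L : Lin (E Q) π)
    (l : LKit (E Q) π N0 A0 E0 z s0 x r Nh Eh zh s xh rh) (A : SO Q s n1 m1 n2 m2 α β Nh)
    (hc : ∃ b : V, b ≠ 0 ∧ s (s b) = -b)
    (hE : ∀ e ∈ Eh, ∀ y, s (s y) = -y → e y = y) : ∀ e ∈ Eh, ∀ y, s (s y) = y → e y = y := by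
  by_contra hcon
  push Not at hcon
  obtain ⟨b, hb0, hb⟩ := hc
  -- a nonzero vector of `M`
  have h1 : ∃ u ∈ M, u ≠ 0 := by
    by_contra h
    push Not at h
    obtain ⟨e, he, y, hy, hne⟩ := hcon
    apply hne
    obtain ⟨y0, hy0, y1, hy1, y2, hy2, y3, hy3, rfl⟩ := A.exists_dec (show y ∈ Wr s from hy)
    rw [h y0 hy0, h y1 hy1, h y2 hy2, h y3 hy3]
    simp only [_root_.map_zero, _root_.add_zero]
  obtain ⟨u, hu, hu0⟩ := h1
  obtain ⟨ε, -, hε, hv0⟩ := A.eig hu hu0
  set v := (2 : K)⁻¹ • (u + ε • s u) with hv'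
  have hvM : v ∈ M := (M).smul_mem _ ((M).add_mem hu ((M).smul_mem _ (A.sM hu)))
  have hsv : s v = ε • v := by
    have hss : s (s u) = u := hu.1
    rw [hv']
    simp only [map_smul, map_add, hss]
    have : (2 : K)⁻¹ • (s u + ε • u) = (2 : K)⁻¹ • ((ε * ε) • s u + ε • u) := by rw [hε, one_smul]
    rw [this]; module
  obtain ⟨w, hw, hsw, hwv⟩ := A.hyp hε hvM hv0 hsv
  by_cases hspan : ∀ y ∈ M, y = B (d w) y • v - B (d v) y • w
  · exact caseB T L l A hE hcon hε hvM hw hwv hsv hsw hspan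
  · push Not at hspan
    obtain ⟨y, hy, hne⟩ := hspan
    obtain ⟨v', w', ε', hε', p1, p2, p3, p4, p5, p6, p7, p8, p9⟩ := A.second hε hvM hw hsv hsw hwv hy hne
    exact caseA T L l A hb0 hb hε hε' hvM hw hwv p1 p2 p5 p6 p7 p8 p9 hsv hsw p3 p4

end main

end Cfsg.Agent.H14.C3
end

-- part: H14/C3/ArfBase
section
/-!
# S1920, case B, `POmega`: symplectic bases of `2^{1+4}` (helper14)

* `Bas R Z n1 m1 n2 m2` : `R : N →* A` (a ring), the pairs `(n1, m1)`, `(n2, m2)` anticommute in `A`, the rest commutes,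
  and `N = ⟨n1, m1, n2, m2, Z⟩`;
* `exists_arf` : if all squares are `±1` in `A`, the basis can be chosen with all squares `1` (Arf invariant zero) or with
  squares `1, 1, -1, -1` (Arf invariant one);
* `Kit.exists_basis` : four elements of `N0` of this kind.
-/

set_option autoImplicit false
set_option linter.unusedVariables false
set_option linter.unusedSimpArgs false

open Subgroup

namespace Cfsg.Agent.H14.C3

open Cfsg.Agent.H415.C3

section abs

variable {N : Type*} [Group N] {A : Type*} [Ring A]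

/-- a symplectic basis of rank four -/
structure Bas (R : N →* A) (Z : Subgroup N) (n1 m1 n2 m2 : N) : Prop where
  ac1 : R n1 * R m1 = -(R m1 * R n1)
  ac2 : R n2 * R m2 = -(R m2 * R n2)
  c1 : R n1 * R n2 = R n2 * R n1
  c2 : R n1 * R m2 = R m2 * R n1
  c3 : R m1 * R n2 = R n2 * R m1
  c4 : R m1 * R m2 = R m2 * R m1
  gen : ∀ S : Subgroup N, n1 ∈ S → m1 ∈ S → n2 ∈ S → m2 ∈ S → Z ≤ S → S = ⊤

namespace Bas

variable {R : N →* A} {Z : Subgroup N} {n1 m1 n2 m2 : N}

/-- swap inside the first pair -/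
theorem swap1 (h : Bas R Z n1 m1 n2 m2) : Bas R Z m1 n1 n2 m2 where
  ac1 := by rw [h.ac1, neg_neg]
  ac2 := h.ac2
  c1 := h.c3
  c2 := h.c4
  c3 := h.c1
  c4 := h.c2
  gen S h1 h2 h3 h4 := h.gen S h2 h1 h3 h4

/-- swap the pairs -/
theorem swap (h : Bas R Z n1 m1 n2 m2) : Bas R Z n2 m2 n1 m1 where
  ac1 := h.ac2
  ac2 := h.ac1
  c1 := h.c1.symm
  c2 := h.c3.symm
  c3 := h.c2.symm
  c4 := h.c4.symm
  gen S h1 h2 h3 h4 := h.gen S h3 h4 h1 h2

/-- replace `m1` by `n1 m1` -/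
theorem mul1 (h : Bas R Z n1 m1 n2 m2) : Bas R Z n1 (n1 * m1) n2 m2 where
  ac1 := by
    rw [map_mul, mul_assoc (R n1) (R m1) (R n1), ← mul_neg, ← h.ac1]
  ac2 := h.ac2
  c1 := h.c1
  c2 := h.c2
  c3 := by rw [map_mul, mul_assoc, h.c3, ← mul_assoc, h.c1, mul_assoc]
  c4 := by rw [map_mul, mul_assoc, h.c4, ← mul_assoc, h.c2, mul_assoc]
  gen S h1 h2 h3 h4 := h.gen S h1 (by
    have := mul_mem (inv_mem h1) h2
    rwa [inv_mul_cancel_left] at this) h3 h4

/-- mix the pairs -/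
theorem mix (h : Bas R Z n1 m1 n2 m2) : Bas R Z (n1 * n2) (m1 * n2) n2 (m2 * n1 * m1) := by
  have e1 : R m1 * R n1 = -(R n1 * R m1) := by rw [h.ac1, neg_neg]
  have e2 : R m2 * R n2 = -(R n2 * R m2) := by rw [h.ac2, neg_neg]
  have e3 := h.c1.symm
  have e4 := h.c2.symm
  have e5 := h.c3.symm
  have e6 := h.c4.symm
  have f1 : ∀ x, R m1 * (R n1 * x) = -(R n1 * (R m1 * x)) := fun x => by rw [← mul_assoc, e1, neg_mul, mul_assoc]
  have f2 : ∀ x, R m2 * (R n2 * x) = -(R n2 * (R m2 * x)) := fun x => by rw [← mul_assoc, e2, neg_mul, mul_assoc]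
  have f3 : ∀ x, R n2 * (R n1 * x) = R n1 * (R n2 * x) := fun x => by rw [← mul_assoc, e3, mul_assoc]
  have f4 : ∀ x, R m2 * (R n1 * x) = R n1 * (R m2 * x) := fun x => by rw [← mul_assoc, e4, mul_assoc]
  have f5 : ∀ x, R n2 * (R m1 * x) = R m1 * (R n2 * x) := fun x => by rw [← mul_assoc, e5, mul_assoc]
  have f6 : ∀ x, R m2 * (R m1 * x) = R m1 * (R m2 * x) := fun x => by rw [← mul_assoc, e6, mul_assoc]
  refine ⟨?_, ?_, ?_, ?_, ?_, ?_, ?_⟩
  · simp only [map_mul, mul_assoc, e1, e2, e3, e4, e5, e6, f1, f2, f3, f4, f5, f6, mul_neg, neg_mul, neg_neg]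
  · simp only [map_mul, mul_assoc, e1, e2, e3, e4, e5, e6, f1, f2, f3, f4, f5, f6, mul_neg, neg_mul, neg_neg]
  · simp only [map_mul, mul_assoc, e1, e2, e3, e4, e5, e6, f1, f2, f3, f4, f5, f6, mul_neg, neg_mul, neg_neg]
  · simp only [map_mul, mul_assoc, e1, e2, e3, e4, e5, e6, f1, f2, f3, f4, f5, f6, mul_neg, neg_mul, neg_neg]
  · simp only [map_mul, mul_assoc, e1, e2, e3, e4, e5, e6, f1, f2, f3, f4, f5, f6, mul_neg, neg_mul, neg_neg]
  · simp only [map_mul, mul_assoc, e1, e2, e3, e4, e5, e6, f1, f2, f3, f4, f5, f6, mul_neg, neg_mul, neg_neg]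
  · intro S h1 h2 h3 h4 h5
    have g1 : n1 ∈ S := by
      have := mul_mem h1 (inv_mem h3)
      rwa [mul_inv_cancel_right] at this
    have g2 : m1 ∈ S := by
      have := mul_mem h2 (inv_mem h3)
      rwa [mul_inv_cancel_right] at this
    refine h.gen S g1 g2 h3 ?_ h5
    have := mul_mem (mul_mem h4 (inv_mem g2)) (inv_mem g1)
    rwa [mul_inv_cancel_right, mul_inv_cancel_right] at this

/-- normalise the first pair -/
theorem norm1 (h : Bas R Z n1 m1 n2 m2) (hsq : ∀ n, R n * R n = 1 ∨ R n * R n = -1) :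
    ∃ n m, Bas R Z n m n2 m2 ∧ ((R n * R n = 1 ∧ R m * R m = 1) ∨ (R n * R n = -1 ∧ R m * R m = -1)) := by
  have key : ∀ n m, R n * R m = -(R m * R n) → R (n * m) * R (n * m) = -(R n * R n * (R m * R m)) := by
    intro n m hnm
    have e : R m * R n = -(R n * R m) := by rw [hnm, neg_neg]
    calc R (n * m) * R (n * m) = R n * (R m * R n) * R m := by rw [map_mul]; noncomm_ring
      _ = _ := by rw [e]; noncomm_ring
  rcases hsq n1 with h1 | h1 <;> rcases hsq m1 with h2 | h2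
  · exact ⟨n1, m1, h, Or.inl ⟨h1, h2⟩⟩
  · refine ⟨n1, n1 * m1, h.mul1, Or.inl ⟨h1, ?_⟩⟩
    rw [key _ _ h.ac1, h1, h2]; simp
  · refine ⟨m1, m1 * n1, h.swap1.mul1, Or.inl ⟨h2, ?_⟩⟩
    rw [key _ _ h.swap1.ac1, h1, h2]; simp
  · exact ⟨n1, m1, h, Or.inr ⟨h1, h2⟩⟩

/-- **the Arf invariant** -/
theorem exists_arf (h : Bas R Z n1 m1 n2 m2) (hsq : ∀ n, R n * R n = 1 ∨ R n * R n = -1) :
    ∃ a b c e, Bas R Z a b c e ∧ R a * R a = 1 ∧ R b * R b = 1 ∧
      ((R c * R c = 1 ∧ R e * R e = 1) ∨ (R c * R c = -1 ∧ R e * R e = -1)) := by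
  obtain ⟨n, m, h1, hs1⟩ := h.norm1 hsq
  obtain ⟨c, e, h2, hs2⟩ := h1.swap.norm1 hsq
  -- `h2 : Bas c e n m`
  rcases hs1 with ⟨p1, p2⟩ | ⟨p1, p2⟩
  · exact ⟨n, m, c, e, h2.swap, p1, p2, hs2⟩
  rcases hs2 with ⟨q1, q2⟩ | ⟨q1, q2⟩
  · exact ⟨c, e, n, m, h2, q1, q2, Or.inr ⟨p1, p2⟩⟩
  -- both quaternion
  have h3 := h2.swap.mix
  -- the first pair `(n c, m c)`, the second pair `(c, e n m)`
  have e1 : R (n * c) * R (n * c) = 1 := by
    calc _ = R n * (R c * R n) * R c := by rw [map_mul]; noncomm_ring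
      _ = (R n * R n) * (R c * R c) := by rw [h2.c1]; noncomm_ring
      _ = 1 := by rw [p1, q1]; simp
  have e2 : R (m * c) * R (m * c) = 1 := by
    calc _ = R m * (R c * R m) * R c := by rw [map_mul]; noncomm_ring
      _ = (R m * R m) * (R c * R c) := by rw [h2.c2]; noncomm_ring
      _ = 1 := by rw [p2, q1]; simp
  have e3 : R (e * n * m) * R (e * n * m) = 1 := by
    have k1 : R m * R n = -(R n * R m) := by rw [h2.ac2, neg_neg]
    calc _ = R e * (R n * (R m * R e)) * (R n * R m) := by rw [map_mul, map_mul]; noncomm_ring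
      _ = R e * ((R n * R e) * R m) * (R n * R m) := by rw [← h2.c4]; noncomm_ring
      _ = (R e * R e) * (R n * (R m * R n) * R m) := by rw [← h2.c3]; noncomm_ring
      _ = -((R e * R e) * ((R n * R n) * (R m * R m))) := by rw [k1]; noncomm_ring
      _ = 1 := by rw [q2, p1, p2]; simp
  -- turn the second pair into a dihedral one
  obtain ⟨c', e', h4, hs4⟩ := h3.swap.norm1 hsq
  refine ⟨n * c, m * c, c', e', h4.swap, e1, e2, hs4⟩

end Bas

end abs

section kit

variable {G : Type*} [Group G] {N0 A E : Subgroup G} {z s x r : G} {ψ : ↥A →* Equiv.Perm (Fin 6)}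

open Classical in
/-- the commutator with `g` -/
noncomputable def chi (T : Kit N0 A E z s x r ψ) (g : G) (hg : g ∈ N0) : ↥N0 →* ℤˣ where
  toFun n := if (n : G) * g = g * n then 1 else -1
  map_one' := by rw [if_pos]; rw [Subgroup.coe_one, one_mul, mul_one]
  map_mul' := by
    intro n m
    have zc : ∀ y ∈ N0, y * z = z * y := fun y hy => T.z_comm (T.N_A hy)
    have ne : ∀ y : G, z * y ≠ y := by
      intro y h
      exact T.z_ne (by simpa using h)
    have neg : ∀ y : ↥N0, (y : G) * g = z * (g * y) → ¬ (y : G) * g = g * y := by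
      intro y h1 h2
      rw [h1] at h2
      exact ne _ h2
    rcases T.comm n n.2 g hg with h1 | h1 <;> rcases T.comm m m.2 g hg with h2 | h2
    · have h3 : ((n * m : ↥N0) : G) * g = g * (n * m : ↥N0) := by
        rw [Subgroup.coe_mul, mul_assoc, h2, ← mul_assoc, h1, mul_assoc]
      rw [if_pos h1, if_pos h2, if_pos h3, one_mul]
    · have h3 : ((n * m : ↥N0) : G) * g = z * (g * (n * m : ↥N0)) := by
        rw [Subgroup.coe_mul, mul_assoc, h2, ← mul_assoc, zc n n.2, mul_assoc, ← mul_assoc (n : G), h1, mul_assoc]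
      rw [if_pos h1, if_neg (neg m h2), if_neg (neg _ h3), one_mul]
    · have h3 : ((n * m : ↥N0) : G) * g = z * (g * (n * m : ↥N0)) := by
        rw [Subgroup.coe_mul, mul_assoc, h2, ← mul_assoc, h1, mul_assoc, mul_assoc]
      rw [if_neg (neg n h1), if_pos h2, if_neg (neg _ h3), mul_one]
    · have h3 : ((n * m : ↥N0) : G) * g = g * (n * m : ↥N0) := by
        rw [Subgroup.coe_mul, mul_assoc, h2, ← mul_assoc, zc n n.2, mul_assoc, ← mul_assoc (n : G), h1, mul_assoc,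
          mul_assoc, ← mul_assoc z, T.z_sq, one_mul]
      rw [if_neg (neg n h1), if_neg (neg m h2), if_pos h3]
      decide

open Classical in
theorem chi_one (T : Kit N0 A E z s x r ψ) {g : G} (hg : g ∈ N0) {n : ↥N0} (h : (n : G) * g = g * n) :
    chi T g hg n = 1 := if_pos h

open Classical in
theorem chi_neg (T : Kit N0 A E z s x r ψ) {g : G} (hg : g ∈ N0) {n : ↥N0} (h : (n : G) * g = z * (g * n)) :
    chi T g hg n = -1 := by
  refine if_neg fun h2 => ?_
  rw [h] at h2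
  exact T.z_ne (by simpa using h2)

open Classical in
theorem of_chi (T : Kit N0 A E z s x r ψ) {g : G} (hg : g ∈ N0) {n : ↥N0} (h : chi T g hg n = 1) :
    (n : G) * g = g * n := by
  by_contra h2
  have h3 : chi T g hg n = -1 := if_neg h2
  rw [h] at h3
  exact absurd h3 (by decide)

theorem order_s (T : Kit N0 A E z s x r ψ) : Nat.card (zpowers s) = 4 := by
  have f2 : Fact (Nat.Prime 2) := ⟨Nat.prime_two⟩
  rw [Nat.card_zpowers, show (4 : ℕ) = 2 ^ (1 + 1) by norm_num]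
  refine orderOf_eq_prime_pow ?_ ?_
  · rw [pow_one, pow_two, T.s_sq]
    exact T.z_ne
  · norm_num
    exact T.s_four

theorem fix_comm (T : Kit N0 A E z s x r ψ) {p q y : G} (hp : p ∈ N0) (hq : q ∈ N0) (hy : y ∈ N0)
    (h : p * q = z * (q * p)) : ∃ y', (y' = y ∨ y' = y * q) ∧ y' * p = p * y' := by
  have zc : ∀ y ∈ N0, y * z = z * y := fun y hy => T.z_comm (T.N_A hy)
  rcases T.comm y hy p hp with h1 | h1
  · exact ⟨y, Or.inl rfl, h1⟩
  · refine ⟨y * q, Or.inr rfl, ?_⟩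
    have h2 : q * p = z * (p * q) := by rw [h, ← mul_assoc, T.z_sq, one_mul]
    rw [mul_assoc, h2, ← mul_assoc, zc y hy, mul_assoc, ← mul_assoc y, h1, mul_assoc, ← mul_assoc z, T.z_sq, one_mul,
      mul_assoc]

/-- **a symplectic basis of `N0`** -/
theorem exists_basis [Finite G] (T : Kit N0 A E z s x r ψ) :
    ∃ a1 ∈ N0, ∃ b1 ∈ N0, ∃ a2 ∈ N0, ∃ b2 ∈ N0, a1 * b1 = z * (b1 * a1) ∧ a2 * b2 = z * (b2 * a2) ∧
      a1 * a2 = a2 * a1 ∧ a1 * b2 = b2 * a1 ∧ b1 * a2 = a2 * b1 ∧ b1 * b2 = b2 * b1 ∧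
      ∀ n ∈ N0, n * a1 = a1 * n → n * b1 = b1 * n → n * a2 = a2 * n → n * b2 = b2 * n → n ∈ zpowers s := by
  have hu : Nat.card ℤˣ = 2 := by rw [Nat.card_eq_fintype_card, Fintype.card_units_int]
  have hos := order_s T
  -- the first pair
  obtain ⟨a1, ha1, b1, hb1, h1⟩ : ∃ a ∈ N0, ∃ b ∈ N0, a * b = z * (b * a) := by
    by_contra hcon
    push Not at hcon
    have h1 : N0 ≤ zpowers s := by
      intro n hn
      refine T.cen n hn fun m hm => ?_
      rcases T.comm n hn m hm with h | h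
      · exact h
      · exact absurd h (hcon n hn m hm)
    have h2 := Subgroup.card_dvd_of_le h1
    rw [T.card, hos] at h2
    norm_num at h2
  have h1' : b1 * a1 = z * (a1 * b1) := by rw [h1, ← mul_assoc, T.z_sq, one_mul]
  -- an element of the centraliser outside `⟨s⟩`
  obtain ⟨a2, ha2, h2, h3, h4⟩ : ∃ n ∈ N0, n * a1 = a1 * n ∧ n * b1 = b1 * n ∧ n ∉ zpowers s := by
    by_contra hcon
    push Not at hcon
    let f : ↥N0 →* ℤˣ × ℤˣ := (chi T a1 ha1).prod (chi T b1 hb1)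
    have h2 : f.ker.map N0.subtype ≤ zpowers s := by
      rintro _ ⟨n, hn, rfl⟩
      have hn' : f n = 1 := hn
      exact hcon n n.2 (of_chi T ha1 (congrArg Prod.fst hn')) (of_chi T hb1 (congrArg Prod.snd hn'))
    have h3 := Subgroup.card_le_of_le h2
    rw [Subgroup.card_map_of_injective N0.subtype_injective, hos] at h3
    have h4 : Nat.card f.ker * f.ker.index = 64 := by rw [Subgroup.card_mul_index, T.card]
    rw [Subgroup.index_ker] at h4
    have h5 : Nat.card f.range ≤ 4 := by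
      have := Subgroup.card_le_card_group f.range
      rwa [Nat.card_prod, hu] at this
    have h6 : Nat.card f.ker * Nat.card f.range ≤ 4 * 4 := Nat.mul_le_mul h3 h5
    rw [h4] at h6
    norm_num at h6
  obtain ⟨m, hm, h5⟩ : ∃ m ∈ N0, a2 * m = z * (m * a2) := by
    by_contra hcon
    push Not at hcon
    apply h4
    refine T.cen a2 ha2 fun m hm => ?_
    rcases T.comm a2 ha2 m hm with h | h
    · exact h
    · exact absurd h (hcon m hm)
  have ac : ∀ y q : G, q ∈ N0 → a2 * y = z * (y * a2) → a2 * q = q * a2 → a2 * (y * q) = z * (y * q * a2) := by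
    intro y q hq h6 h7
    rw [← mul_assoc, h6, mul_assoc, mul_assoc, h7, mul_assoc]
  -- correct `m`
  obtain ⟨m1, hm1, h6⟩ := fix_comm T ha1 hb1 hm h1
  have m1N : m1 ∈ N0 ∧ a2 * m1 = z * (m1 * a2) := by
    rcases hm1 with rfl | rfl
    · exact ⟨hm, h5⟩
    · exact ⟨mul_mem hm hb1, ac _ _ hb1 h5 h3⟩
  obtain ⟨b2, hb2, h7⟩ := fix_comm T hb1 ha1 m1N.1 h1'
  have b2N : b2 ∈ N0 ∧ a2 * b2 = z * (b2 * a2) ∧ b2 * a1 = a1 * b2 := by
    rcases hb2 with rfl | rfl
    · exact ⟨m1N.1, m1N.2, h6⟩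
    · exact ⟨mul_mem m1N.1 ha1, ac _ _ ha1 m1N.2 h2, by rw [← mul_assoc, ← h6, mul_assoc]⟩
  refine ⟨a1, ha1, b1, hb1, a2, ha2, b2, b2N.1, h1, b2N.2.1, h2.symm, b2N.2.2.symm, h3.symm, h7.symm, ?_⟩
  have h2' : b2 * a2 = z * (a2 * b2) := by rw [b2N.2.1, ← mul_assoc, T.z_sq, one_mul]
  -- counting
  let f : ↥N0 →* ℤˣ × ℤˣ × ℤˣ × ℤˣ :=
    (chi T a1 ha1).prod ((chi T b1 hb1).prod ((chi T a2 ha2).prod (chi T b2 b2N.1)))
  have f1 : f ⟨b1, hb1⟩ = (-1, 1, 1, 1) := by
    refine Prod.ext ?_ (Prod.ext ?_ (Prod.ext ?_ ?_))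
    · exact chi_neg T ha1 h1'
    · exact chi_one T hb1 rfl
    · exact chi_one T ha2 h3.symm
    · exact chi_one T b2N.1 h7.symm
  have f2 : f ⟨a1, ha1⟩ = (1, -1, 1, 1) := by
    refine Prod.ext ?_ (Prod.ext ?_ (Prod.ext ?_ ?_))
    · exact chi_one T ha1 rfl
    · exact chi_neg T hb1 h1
    · exact chi_one T ha2 h2.symm
    · exact chi_one T b2N.1 b2N.2.2.symm
  have f3 : f ⟨b2, b2N.1⟩ = (1, 1, -1, 1) := by
    refine Prod.ext ?_ (Prod.ext ?_ (Prod.ext ?_ ?_))
    · exact chi_one T ha1 b2N.2.2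
    · exact chi_one T hb1 h7
    · exact chi_neg T ha2 h2'
    · exact chi_one T b2N.1 rfl
  have f4 : f ⟨a2, ha2⟩ = (1, 1, 1, -1) := by
    refine Prod.ext ?_ (Prod.ext ?_ (Prod.ext ?_ ?_))
    · exact chi_one T ha1 h2
    · exact chi_one T hb1 h3
    · exact chi_one T ha2 rfl
    · exact chi_neg T b2N.1 b2N.2.1
  have hsurj : f.range = ⊤ := by
    rw [eq_top_iff]
    rintro ⟨x1, x2, x3, x4⟩ -
    have e1 : ((x1, 1, 1, 1) : ℤˣ × ℤˣ × ℤˣ × ℤˣ) ∈ f.range := by
      rcases Int.units_eq_one_or x1 with rfl | rfl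
      · exact one_mem _
      · exact ⟨_, f1⟩
    have e2 : ((1, x2, 1, 1) : ℤˣ × ℤˣ × ℤˣ × ℤˣ) ∈ f.range := by
      rcases Int.units_eq_one_or x2 with rfl | rfl
      · exact one_mem _
      · exact ⟨_, f2⟩
    have e3 : ((1, 1, x3, 1) : ℤˣ × ℤˣ × ℤˣ × ℤˣ) ∈ f.range := by
      rcases Int.units_eq_one_or x3 with rfl | rfl
      · exact one_mem _
      · exact ⟨_, f3⟩
    have e4 : ((1, 1, 1, x4) : ℤˣ × ℤˣ × ℤˣ × ℤˣ) ∈ f.range := by
      rcases Int.units_eq_one_or x4 with rfl | rfl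
      · exact one_mem _
      · exact ⟨_, f4⟩
    have e5 := mul_mem (mul_mem (mul_mem e1 e2) e3) e4
    simpa only [_root_.MonoidHom.mem_range, _root_.Subtype.exists, _root_.Prod.mk_mul_mk, _root_.mul_one, _root_.one_mul] using e5
  have hker : Nat.card f.ker = 4 := by
    have h8 : Nat.card f.ker * f.ker.index = 64 := by rw [Subgroup.card_mul_index, T.card]
    rw [Subgroup.index_ker, hsurj, Subgroup.card_top, Nat.card_prod, Nat.card_prod, Nat.card_prod, hu] at h8
    omega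
  have hle : zpowers s ≤ f.ker.map N0.subtype := by
    rw [zpowers_le]
    refine ⟨⟨s, T.sN⟩, ?_, rfl⟩
    change f ⟨s, T.sN⟩ = 1
    refine Prod.ext ?_ (Prod.ext ?_ (Prod.ext ?_ ?_))
    · exact chi_one T ha1 (T.s_cen _ ha1).symm
    · exact chi_one T hb1 (T.s_cen _ hb1).symm
    · exact chi_one T ha2 (T.s_cen _ ha2).symm
    · exact chi_one T b2N.1 (T.s_cen _ b2N.1).symm
  have heq : zpowers s = f.ker.map N0.subtype := by
    refine Subgroup.eq_of_le_of_card_ge hle ?_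
    rw [Subgroup.card_map_of_injective N0.subtype_injective, hker, hos]
  intro n hn k1 k2 k3 k4
  rw [heq]
  refine ⟨⟨n, hn⟩, ?_, rfl⟩
  change f ⟨n, hn⟩ = 1
  refine Prod.ext ?_ (Prod.ext ?_ (Prod.ext ?_ ?_))
  · exact chi_one T ha1 k1
  · exact chi_one T hb1 k2
  · exact chi_one T ha2 k3
  · exact chi_one T b2N.1 k4

end kit

end Cfsg.Agent.H14.C3
end

-- part: H100/C3/ArfM
section
/-!
# S1920, case B, orthogonal groups, section 5: the space `M` (helper100)

* `exists_basis` : `M` has an orthogonal basis of nonsingular vectors;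
* `three_le` : `dim M ≥ 4` is impossible;
* `le_two` : if `dim M ≤ 2`, then `Eh` acts trivially on `M`;
* `triv_of_M` : if `Eh` acts trivially on `M`, then it acts trivially on `V_ε`.
-/

set_option autoImplicit false
set_option linter.unusedSectionVars false

open Subgroup
open scoped commutatorElement

namespace Cfsg.Agent.H100.C3

open QuadraticMap Cfsg.Agent.H415.C3 Cfsg.Agent.LieClassical.OrthCore Cfsg.Agent.LieClassical.OrthTrans
open AZ (rf)
open Module (finrank Basis)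

section lin

variable {F V : Type*} [Field F] [AddCommGroup V] [Module F V] {Q : QuadraticForm F V}

theorem polar_sh {ε : F} (he : ε * ε = 1) {g : V ≃ₗ[F] V} (hg : g ∈ O Q) {u : V} (hu : g u = ε • u) (w : V) :
    polar Q u (g w) = ε * polar Q u w := by
  have h := polar_map hg u w
  rw [hu, polar_smul_left, smul_eq_mul] at h
  linear_combination ε * h - polar Q u (g w) * he

namespace AZ

variable {ε : F} {sh n1 n2 m1 m2 : V ≃ₗ[F] V}

theorem nondeg_M (h : AZ Q ε sh n1 n2 m1 m2) (hN : Nondeg Q) {u : V} (hu : InM ε sh n1 n2 u)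
    (h0 : ∀ v, InM ε sh n1 n2 v → polar Q u v = 0) : u = 0 := by
  apply hN
  intro v
  have hs := polar_sh h.eps h.sO hu.1
  have hn1 : ∀ w, polar Q u (n1 w) = polar Q u w := fun w => by
    have := polar_map h.n1O u w
    rwa [hu.2.1] at this
  have hn2 : ∀ w, polar Q u (n2 w) = polar Q u w := fun w => by
    have := polar_map h.n2O u w
    rwa [hu.2.2] at this
  set w1 := v + sh (sh v) with hw1
  set w2 := w1 + ε • sh w1 with hw2
  set w3 := w2 + n1 w2 with hw3
  set w4 := w3 + n2 w3 with hw4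
  have f1 : sh (sh w1) = w1 := by rw [hw1, map_add, map_add, h.s4]; abel
  have hadd : ∀ a b : V, sh a = ε • a → sh b = ε • b → sh (a + b) = ε • (a + b) := fun a b x y => by
    rw [map_add, x, y, smul_add]
  have f2 : sh w2 = ε • w2 := by
    calc sh w2 = sh w1 + ε • sh (sh w1) := by rw [hw2, map_add, map_smul]
      _ = sh w1 + ε • w1 := by rw [f1]
      _ = ε • (w1 + ε • sh w1) := by rw [smul_add ε w1, smul_smul, h.eps, one_smul, add_comm]
  have f3 : sh w3 = ε • w3 := hadd w2 (n1 w2) f2 (by rw [h.sn1, f2, map_smul])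
  have f3' : n1 w3 = w3 := by rw [hw3, map_add, h.n11 _ f2]; abel
  have f4 : sh w4 = ε • w4 := hadd w3 (n2 w3) f3 (by rw [h.sn2, f3, map_smul])
  have f4' : n2 w4 = w4 := by rw [hw4, map_add, h.n22 _ f3]; abel
  have f4'' : n1 w4 = w4 := by rw [hw4, map_add, h.nn _ f3, f3']
  have p1 : polar Q u w1 = 2 * polar Q u v := by
    rw [hw1, polar_add_right, hs, hs]; linear_combination (polar Q u v) * h.eps
  have p2 : polar Q u w2 = 2 * polar Q u w1 := by
    rw [hw2, polar_add_right, polar_smul_right, hs, smul_eq_mul]; linear_combination (polar Q u w1) * h.eps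
  have p3 : polar Q u w3 = 2 * polar Q u w2 := by rw [hw3, polar_add_right, hn1]; ring
  have p4 : polar Q u w4 = 2 * polar Q u w3 := by rw [hw4, polar_add_right, hn2]; ring
  have h5 := h0 w4 ⟨f4, f4'', f4'⟩
  rw [p4, p3, p2, p1] at h5
  have h6 := h.two
  have h7 := (mul_eq_zero.1 h5).resolve_left h6
  have h8 := (mul_eq_zero.1 h7).resolve_left h6
  have h9 := (mul_eq_zero.1 h8).resolve_left h6
  exact (mul_eq_zero.1 h9).resolve_left h6

theorem exists_basis [FiniteDimensional F V] (h : AZ Q ε sh n1 n2 m1 m2) (hN : Nondeg Q) {d : ℕ}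
    (hd : finrank F ↥(MM ε sh n1 n2) = d) : ∃ b : Basis (Fin d) F ↥(MM ε sh n1 n2),
      (∀ i j, i ≠ j → polar Q (b i : V) (b j) = 0) ∧ ∀ i, Q (b i : V) ≠ 0 := by
  subst hd
  let B : LinearMap.BilinForm F ↥(MM ε sh n1 n2) := polarBilin (Q.comp (MM ε sh n1 n2).subtype)
  have hB : LinearMap.IsSymm B := ⟨fun x y => polar_comm _ _ _⟩
  have : Invertible (2 : F) := invertibleOfNonzero h.two
  obtain ⟨b, hb⟩ := LinearMap.BilinForm.exists_orthogonal_basis hB
  have hb' : ∀ i j, i ≠ j → polar Q (b i : V) (b j) = 0 := fun i j hij => hb hij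
  refine ⟨b, hb', fun i hi => ?_⟩
  apply b.ne_zero i
  apply Subtype.ext
  refine h.nondeg_M hN (b i).2 fun v hv => ?_
  have h1 : (⟨v, hv⟩ : ↥(MM ε sh n1 n2)) = ∑ j, b.repr ⟨v, hv⟩ j • b j := (b.sum_repr _).symm
  have h2 : ∀ w : ↥(MM ε sh n1 n2), B (b i) w = polar Q (b i : V) w := fun w => rfl
  rw [← show B (b i) ⟨v, hv⟩ = polar Q (b i : V) v from rfl, h1, map_sum]
  refine Finset.sum_eq_zero fun j _ => ?_
  rw [map_smul, h2]
  by_cases hij : i = j
  · subst hij
    rw [polar_self', hi, mul_zero, smul_zero]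
  · rw [hb' i j hij, smul_zero]

/-- from `M` to `V_ε` -/
theorem triv_of_M (h : AZ Q ε sh n1 n2 m1 m2) {e : V ≃ₗ[F] V} (e3 : ∀ v, e (m1 v) = m1 (e v)) (e4 : ∀ v, e (m2 v) = m2 (e v))
    (he : ∀ v, InM ε sh n1 n2 v → e v = v) {v : V} (hv : sh v = ε • v) : e v = v := by
  -- the eigenvectors
  have k11 : ∀ w, sh w = ε • w → n1 w = w → n2 w = w → e w = w := fun w a b c => he w ⟨a, b, c⟩
  have hm1 : ∀ w, sh w = ε • w → sh (m1 w) = ε • m1 w := fun w a => by rw [h.sm1, a, map_smul]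
  have hm2 : ∀ w, sh w = ε • w → sh (m2 w) = ε • m2 w := fun w a => by rw [h.sm2, a, map_smul]
  have k21 : ∀ w, sh w = ε • w → n1 w = -w → n2 w = w → e w = w := by
    intro w a b c
    have h1 := k11 (m1 w) (hm1 w a) (by rw [h.nm11 w a, b, map_neg, neg_neg]) (by rw [h.nm21 w a, c])
    rw [e3] at h1
    exact m1.injective h1
  have k12 : ∀ w, sh w = ε • w → n1 w = w → n2 w = -w → e w = w := by
    intro w a b c
    have h1 := k11 (m2 w) (hm2 w a) (by rw [h.nm12 w a, b]) (by rw [h.nm22 w a, c, map_neg, neg_neg])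
    rw [e4] at h1
    exact m2.injective h1
  have k22 : ∀ w, sh w = ε • w → n1 w = -w → n2 w = -w → e w = w := by
    intro w a b c
    have h1 := k12 (m1 w) (hm1 w a) (by rw [h.nm11 w a, b, map_neg, neg_neg]) (by rw [h.nm21 w a, c, map_neg])
    rw [e3] at h1
    exact m1.injective h1
  have hsn1 : ∀ w, sh w = ε • w → sh (n1 w) = ε • n1 w := fun w a => by rw [h.sn1, a, map_smul]
  have hsn2 : ∀ w, sh w = ε • w → sh (n2 w) = ε • n2 w := fun w a => by rw [h.sn2, a, map_smul]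
  -- the four components
  have hadd : ∀ a b : V, sh a = ε • a → sh b = ε • b → sh (a + b) = ε • (a + b) := fun a b x y => by
    rw [map_add, x, y, smul_add]
  have hsub : ∀ a b : V, sh a = ε • a → sh b = ε • b → sh (a - b) = ε • (a - b) := fun a b x y => by
    rw [map_sub, x, y, smul_sub]
  set a1 := v + n1 v with ha1
  set a2 := v - n1 v with ha2
  have s1 : sh a1 = ε • a1 := hadd _ _ hv (hsn1 v hv)
  have s2 : sh a2 = ε • a2 := hsub _ _ hv (hsn1 v hv)
  have t1 : n1 a1 = a1 := by rw [ha1, map_add, h.n11 v hv]; abel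
  have t2 : n1 a2 = -a2 := by rw [ha2, map_sub, h.n11 v hv]; abel
  have r11 := k11 (a1 + n2 a1) (hadd _ _ s1 (hsn2 _ s1)) (by rw [map_add, h.nn _ s1, t1])
    (by rw [map_add, h.n22 _ s1]; abel)
  have r12 := k12 (a1 - n2 a1) (hsub _ _ s1 (hsn2 _ s1)) (by rw [map_sub, h.nn _ s1, t1])
    (by rw [map_sub, h.n22 _ s1]; abel)
  have r21 := k21 (a2 + n2 a2) (hadd _ _ s2 (hsn2 _ s2)) (by rw [map_add, h.nn _ s2, t2, map_neg]; abel)
    (by rw [map_add, h.n22 _ s2]; abel)
  have r22 := k22 (a2 - n2 a2) (hsub _ _ s2 (hsn2 _ s2)) (by rw [map_sub, h.nn _ s2, t2, map_neg]; abel)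
    (by rw [map_sub, h.n22 _ s2]; abel)
  have hv4 : ((2 : F) * 2) • v = (a1 + n2 a1) + (a1 - n2 a1) + ((a2 + n2 a2) + (a2 - n2 a2)) := by
    rw [ha1, ha2]; module
  have h6 : ((2 : F) * 2) • e v = ((2 : F) * 2) • v := by
    rw [← map_smul, hv4]
    rw [map_add e (a1 + n2 a1 + (a1 - n2 a1)), map_add e (a1 + n2 a1), map_add e (a2 + n2 a2), r11, r12, r21, r22]
  exact smul_right_injective V (mul_ne_zero h.two h.two) h6

end AZ

/-- plane rotations -/
theorem rot {M : Type*} [AddCommGroup M] [Module F M] (q : QuadraticForm F M) (b : Basis (Fin 2) F M)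
    (two : (2 : F) ≠ 0) (h01 : polar q (b 0) (b 1) = 0) (q0 : q (b 0) ≠ 0) {g : M →ₗ[F] M} (hg : ∀ v, q (g v) = q v)
    (dg : LinearMap.det g = 1) : ∃ x y : F, g (b 0) = x • b 0 + y • b 1 ∧
      g (b 1) = (-((q (b 0))⁻¹ * q (b 1) * y)) • b 0 + x • b 1 := by
  set x := b.repr (g (b 0)) 0 with hx
  set y := b.repr (g (b 0)) 1 with hy
  set x' := b.repr (g (b 1)) 0 with hx'
  set y' := b.repr (g (b 1)) 1 with hy'
  have e0 : g (b 0) = x • b 0 + y • b 1 := by
    have := (b.sum_repr (g (b 0))).symm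
    rwa [Fin.sum_univ_two] at this
  have e1 : g (b 1) = x' • b 0 + y' • b 1 := by
    have := (b.sum_repr (g (b 1))).symm
    rwa [Fin.sum_univ_two] at this
  have L3 : x * y' - x' * y = 1 := by
    rw [← LinearMap.det_toMatrix b g, Matrix.det_fin_two, LinearMap.toMatrix_apply, LinearMap.toMatrix_apply,
      LinearMap.toMatrix_apply, LinearMap.toMatrix_apply] at dg
    exact dg
  have L1 : x * x * q (b 0) + y * y * q (b 1) = q (b 0) := by
    have h := hg (b 0)
    rw [e0, Q_add, QuadraticMap.map_smul, QuadraticMap.map_smul, polar_smul_left, polar_smul_right,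
      h01] at h
    simpa only [smul_eq_mul, mul_zero, add_zero, smul_zero] using h
  have L2 : x * x' * q (b 0) + y * y' * q (b 1) = 0 := by
    have h : polar q (g (b 0)) (g (b 1)) = 0 := by
      rw [← h01, QuadraticMap.polar, ← map_add, hg, hg, hg, QuadraticMap.polar]
    have h10 : polar q (b 1) (b 0) = 0 := by rw [polar_comm, h01]
    rw [e0, e1, polar_add_left, polar_add_right, polar_add_right, polar_smul_left, polar_smul_left, polar_smul_left,
      polar_smul_left, polar_smul_right, polar_smul_right, polar_smul_right, polar_smul_right, h01, h10, polar_self',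
      polar_self'] at h
    simp only [smul_eq_mul, mul_zero, add_zero, zero_add] at h
    have h3 : (2 : F) * (x * x' * q (b 0) + y * y' * q (b 1)) = 0 := by linear_combination h
    exact (mul_eq_zero.1 h3).resolve_left two
  refine ⟨x, y, e0, ?_⟩
  have hx1 : q (b 0) * x' = -(q (b 1) * y) := by
    linear_combination -x' * L1 + x * L2 - q (b 1) * y * L3
  have hy1 : q (b 0) * y' = q (b 0) * x := by
    linear_combination -y' * L1 + y * L2 + q (b 0) * x * L3
  have hx2 : x' = -((q (b 0))⁻¹ * q (b 1) * y) := by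
    field_simp
    linear_combination hx1
  rw [e1, hx2, mul_left_cancel₀ q0 hy1]

theorem comm_two {M : Type*} [AddCommGroup M] [Module F M] (q : QuadraticForm F M) (b : Basis (Fin 2) F M)
    (two : (2 : F) ≠ 0) (h01 : polar q (b 0) (b 1) = 0) (q0 : q (b 0) ≠ 0) {g h : M →ₗ[F] M}
    (hg : ∀ v, q (g v) = q v) (hh : ∀ v, q (h v) = q v) (dg : LinearMap.det g = 1) (dh : LinearMap.det h = 1) (v : M) :
    g (h v) = h (g v) := by
  obtain ⟨x, y, g0, g1⟩ := rot q b two h01 q0 hg dg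
  obtain ⟨x', y', h0, h1⟩ := rot q b two h01 q0 hh dh
  have key : g.comp h = h.comp g := by
    refine b.ext fun i => ?_
    fin_cases i
    · change g (h (b 0)) = h (g (b 0))
      simp only [g0, g1, h0, h1, map_add, map_smul]
      module
    · change g (h (b 1)) = h (g (b 1))
      simp only [g0, g1, h0, h1, map_add, map_smul]
      module
  exact LinearMap.congr_fun key v

/-- a perfect group acting commutatively acts trivially -/
theorem comm_triv {Eh : Subgroup (V ≃ₗ[F] V)} (hE : ⁅Eh, Eh⁆ = Eh) (M : Submodule F V)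
    (hM : ∀ e ∈ Eh, ∀ v ∈ M, e v ∈ M) (hc : ∀ a ∈ Eh, ∀ b ∈ Eh, ∀ v ∈ M, a (b v) = b (a v)) :
    ∀ e ∈ Eh, ∀ v ∈ M, e v = v := by
  let K1 : Subgroup (V ≃ₗ[F] V) :=
    { carrier := {g | ∀ v ∈ M, g v = v}
      mul_mem' := fun {a b} ha hb v hv => by change a (b v) = v; rw [hb v hv, ha v hv]
      one_mem' := fun v _ => rfl
      inv_mem' := fun {a} ha v hv => by
        change a⁻¹ v = v
        nth_rewrite 1 [← ha v hv]
        exact LinearEquiv.symm_apply_apply a v }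
  have hle : ⁅Eh, Eh⁆ ≤ K1 := by
    rw [commutator_le]
    intro a ha b hb v hv
    change a (b (a⁻¹ (b⁻¹ v))) = v
    have hw : a⁻¹ (b⁻¹ v) ∈ M := hM _ (inv_mem ha) _ (hM _ (inv_mem hb) _ hv)
    rw [hc a ha b hb _ hw]
    have h1 : a (a⁻¹ (b⁻¹ v)) = b⁻¹ v := LinearEquiv.apply_symm_apply a _
    rw [h1]
    exact LinearEquiv.apply_symm_apply b v
  rw [hE] at hle
  exact fun e he v hv => hle he v hv

end lin

variable {G : Type*} [Group G]
variable {N0 A Ek : Subgroup G} {z s x r : G} {ψ : ↥A →* Equiv.Perm (Fin 6)}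
variable {F V : Type*} [Field F] [AddCommGroup V] [Module F V] {Q : QuadraticForm F V} {π : ↥(E Q) →* G}
  {Nh Eh : Subgroup (V ≃ₗ[F] V)} {zh sh xh rh : V ≃ₗ[F] V}

section main

variable (S : Sit Q π N0 A Ek z s x r ψ Nh Eh zh sh xh rh) {ε : F} {n1 n2 m1 m2 : V ≃ₗ[F] V}
  (B : HypB Nh sh ε n1 n2 m1 m2)
include S B

/-- elements commuting with `Nh` preserve `M` -/
theorem inv_M {g : V ≃ₗ[F] V} (hg : ∀ n ∈ Nh, g * n = n * g) : ∀ v ∈ MM ε sh n1 n2, g v ∈ MM ε sh n1 n2 := by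
  intro v hv
  have h : ∀ n ∈ Nh, ∀ w, n (g w) = g (n w) := fun n hn w => (LinearEquiv.congr_fun (hg n hn) w).symm
  exact ⟨by rw [h sh S.lk.sN, hv.1, map_smul], by rw [h n1 B.n1N, hv.2.1], by rw [h n2 B.n2N, hv.2.2]⟩

/-- restriction to `M` -/
def resM (H : Subgroup (V ≃ₗ[F] V)) (hH : ∀ g ∈ H, ∀ n ∈ Nh, g * n = n * g) :
    ↥H →* (↥(MM ε sh n1 n2) →ₗ[F] ↥(MM ε sh n1 n2)) where
  toFun g := (g : V ≃ₗ[F] V).toLinearMap.restrict (inv_M S B (hH g g.2))
  map_one' := by ext v; rfl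
  map_mul' g h := by ext v; rfl

theorem det_resM (g : ↥Eh) : LinearMap.det (resM S B Eh S.lk.Eh_comm g) = 1 := by
  have h := perf_triv Eh S.lk.Eh_perf (MonoidHom.toHomUnits ((LinearMap.det (M := ↥(MM ε sh n1 n2))).comp
    (resM S B Eh S.lk.Eh_comm))) g
  have h2 := congrArg (fun y : Fˣ => (y : F)) h
  exact h2

theorem le_two [FiniteDimensional F V] (hd : finrank F ↥(MM ε sh n1 n2) ≤ 2) : ∀ e ∈ Eh, ∀ v ∈ MM ε sh n1 n2, e v = v := by
  have hA := AZ_of S B
  refine comm_triv S.lk.Eh_perf (MM ε sh n1 n2) (fun e he => inv_M S B (S.lk.Eh_comm e he)) ?_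
  intro a ha c hc v hv
  have hQE : ∀ e ∈ Eh, ∀ w, Q (e w) = Q w := fun e he w => mem_O.1 (E_le_O (S.lk.Eh_le he)) w
  obtain ⟨d, hd'⟩ : ∃ d, finrank F ↥(MM ε sh n1 n2) = d := ⟨_, rfl⟩
  have key : ∀ (g h : ↥(MM ε sh n1 n2) →ₗ[F] ↥(MM ε sh n1 n2)), (∀ w, Q (g w : V) = Q (w : V)) →
      (∀ w, Q (h w : V) = Q (w : V)) → LinearMap.det g = 1 → LinearMap.det h = 1 → ∀ w, g (h w) = h (g w) := by
    obtain ⟨b, hb, hb0⟩ := hA.exists_basis S.good.nondeg hd'
    intro g h hg hh dg dh w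
    rcases (show d = 0 ∨ d = 1 ∨ d = 2 by omega) with rfl | rfl | rfl
    · have : Subsingleton ↥(MM ε sh n1 n2) := Module.finrank_zero_iff.1 hd'
      exact Subsingleton.elim _ _
    · have h1 : ∀ f : ↥(MM ε sh n1 n2) →ₗ[F] ↥(MM ε sh n1 n2), ∃ c : F, ∀ w, f w = c • w := by
        intro f
        refine ⟨b.repr (f (b 0)) 0, fun w => ?_⟩
        have hw : ∀ y : ↥(MM ε sh n1 n2), y = b.repr y 0 • b 0 := fun y => by
          have := (b.sum_repr y).symm
          rwa [Fin.sum_univ_one] at this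
        conv_lhs => rw [hw w, map_smul, hw (f (b 0))]
        rw [smul_comm, ← hw w]
      obtain ⟨c1, h1'⟩ := h1 g
      obtain ⟨c2, h2'⟩ := h1 h
      rw [h1', h2', h2', h1', smul_comm]
    · exact comm_two (Q.comp (MM ε sh n1 n2).subtype) b S.two (hb 0 1 (by decide)) (hb0 0) hg hh dg dh w
  have h1 := key (resM S B Eh S.lk.Eh_comm ⟨a, ha⟩) (resM S B Eh S.lk.Eh_comm ⟨c, hc⟩)
    (fun w => hQE a ha w) (fun w => hQE c hc w) (det_resM S B _) (det_resM S B _) ⟨v, hv⟩
  exact congrArg Subtype.val h1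

theorem le_three [Finite G] [FiniteDimensional F V] (hd : 4 ≤ finrank F ↥(MM ε sh n1 n2)) : False := by
  have hA := AZ_of S B
  obtain ⟨d, hd'⟩ : ∃ d, finrank F ↥(MM ε sh n1 n2) = d := ⟨_, rfl⟩
  obtain ⟨b, hb, hb0⟩ := hA.exists_basis S.good.nondeg hd'
  have hne : ∀ i j : ℕ, ∀ (hi : i < 4) (hj : j < 4), i ≠ j →
      (⟨i, by omega⟩ : Fin d) ≠ ⟨j, by omega⟩ := fun i j hi hj hij h => hij (congrArg Fin.val h)
  refine t5app S B (u1 := b ⟨0, by omega⟩) (u2 := b ⟨1, by omega⟩) (u3 := b ⟨2, by omega⟩) (v0 := b ⟨3, by omega⟩)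
    (b _).2 (b _).2 (b _).2 (b _).2 (fun h => b.ne_zero _ (Subtype.ext h)) (hb0 _) (hb0 _) (hb0 _)
    (hb _ _ (hne 0 1 (by norm_num) (by norm_num) (by norm_num))) (hb _ _ (hne 0 2 (by norm_num) (by norm_num) (by norm_num)))
    (hb _ _ (hne 1 2 (by norm_num) (by norm_num) (by norm_num))) (hb _ _ (hne 0 3 (by norm_num) (by norm_num) (by norm_num)))
    (hb _ _ (hne 1 3 (by norm_num) (by norm_num) (by norm_num))) (hb _ _ (hne 2 3 (by norm_num) (by norm_num) (by norm_num)))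

end main

end Cfsg.Agent.H100.C3
end

-- part: H100/C3/ArfThree
section
/-!
# S1920, case B, orthogonal groups, section 5: `dim M = 3` (helper100)

The spinor sign of the action of `C_G(N0)` on `M`, normalised so that `-1` has sign `1`, contradicts `T6`.
-/

set_option autoImplicit false
set_option linter.unusedSectionVars false

open Subgroup
open scoped commutatorElement

namespace Cfsg.Agent.H100.C3

open QuadraticMap Cfsg.Agent.H415.C3 Cfsg.Agent.LieClassical.OrthCore Cfsg.Agent.LieClassical.OrthTrans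
open AZ (rf)
open Module (finrank Basis)
open scoped Matrix

variable {G : Type*} [Group G]
variable {N0 A Ek : Subgroup G} {z s x r : G} {ψ : ↥A →* Equiv.Perm (Fin 6)}
variable {F V : Type*} [Field F] [AddCommGroup V] [Module F V] {Q : QuadraticForm F V} {π : ↥(E Q) →* G}
  {Nh Eh : Subgroup (V ≃ₗ[F] V)} {zh sh xh rh : V ≃ₗ[F] V}

theorem isSquare_iff [Finite F] (h2 : (2 : F) ≠ 0) {ν a : F} (hν : ¬ IsSquare ν) (ha : a ≠ 0) :
    IsSquare (ν * a) ↔ ¬ IsSquare a := by
  classical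
  have := Fintype.ofFinite F
  have hν0 : ν ≠ 0 := fun h => hν (by rw [h]; exact IsSquare.zero)
  constructor
  · intro h1 h3
    apply hν
    have h4 := h1.mul h3.inv
    rwa [mul_assoc, mul_inv_cancel₀ ha, mul_one] at h4
  · intro h1
    rw [← quadraticChar_one_iff_isSquare (mul_ne_zero hν0 ha), map_mul, quadraticChar_neg_one_iff_not_isSquare.2 hν,
      quadraticChar_neg_one_iff_not_isSquare.2 h1]
    rfl

theorem exists_rep [Finite F] (h2 : (2 : F) ≠ 0) {a b : F} (ha : a ≠ 0) (hb : b ≠ 0) (κ : F) :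
    ∃ x y : F, x * x * a + y * y * b = κ := by
  classical
  have := Fintype.ofFinite F
  have hodd := FiniteField.odd_card_of_char_ne_two (F := F) (fun h => h2 (by
    have := ringChar.Nat.cast_ringChar (R := F)
    rw [h] at this
    exact_mod_cast this))
  obtain ⟨x, y, h⟩ := FiniteField.exists_root_sum_quadratic (R := F) (f := Polynomial.C a * Polynomial.X ^ 2)
    (g := Polynomial.C b * Polynomial.X ^ 2 - Polynomial.C κ) (Polynomial.degree_C_mul_X_pow 2 ha)
    (by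
      rw [Polynomial.degree_sub_C]
      · exact Polynomial.degree_C_mul_X_pow 2 hb
      · rw [Polynomial.degree_C_mul_X_pow 2 hb]; norm_num) hodd
  refine ⟨x, y, ?_⟩
  simp only [Polynomial.eval_sub, Polynomial.eval_mul, Polynomial.eval_pow, Polynomial.eval_X, Polynomial.eval_C] at h
  linear_combination h

section main

variable (S : Sit Q π N0 A Ek z s x r ψ Nh Eh zh sh xh rh) {ε : F} {n1 n2 m1 m2 : V ≃ₗ[F] V}
  (B : HypB Nh sh ε n1 n2 m1 m2)
include S

/-- elements of the preimage of `C_G(N0)` commute with `Nh` up to sign -/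
theorem sign_comm {v0 : V} (hv0 : Q v0 ≠ 0) {y : V ≃ₗ[F] V} (hy : y ∈ E Q)
    (hc : ∀ n ∈ N0, n * π ⟨y, hy⟩ = π ⟨y, hy⟩ * n) {n : V ≃ₗ[F] V} (hn : n ∈ Nh) :
    ∃ c : F, (c = 1 ∨ c = -1) ∧ ∀ v, y (n v) = c • n (y v) := by
  have h1 : π (⟨y, hy⟩ * ⟨n, S.mem_E hn⟩ * (⟨n, S.mem_E hn⟩ * ⟨y, hy⟩)⁻¹) = 1 := by
    rw [map_mul, map_inv, map_mul, map_mul, hc _ (S.pi_mem hn), mul_inv_cancel]
  rw [S.lin.ker] at h1
  obtain ⟨c, hc'⟩ := h1
  have h2 : ∀ v, y (n v) = c • n (y v) := by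
    intro v
    have h3 := hc' (n (y v))
    change y (n ((n * y)⁻¹ (n (y v)))) = c • n (y v) at h3
    rwa [show (n * y)⁻¹ (n (y v)) = v from LinearEquiv.symm_apply_apply (n * y) v] at h3
  refine ⟨c, ?_, h2⟩
  have hQ : ∀ {g : V ≃ₗ[F] V}, g ∈ E Q → ∀ w, Q (g w) = Q w := fun hg w => mem_O.1 (E_le_O hg) w
  have h3 := congrArg Q (h2 v0)
  rw [hQ hy, hQ (S.mem_E hn), QuadraticMap.map_smul, hQ (S.mem_E hn), hQ hy, smul_eq_mul] at h3
  have h4 : (c - 1) * (c + 1) = 0 := by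
    have h5 : (c * c - 1) * Q v0 = 0 := by linear_combination -h3
    have h6 := (mul_eq_zero.1 h5).resolve_right hv0
    linear_combination h6
  rcases mul_eq_zero.1 h4 with h5 | h5
  · exact Or.inl (sub_eq_zero.1 h5)
  · exact Or.inr (eq_neg_of_add_eq_zero_left h5)

theorem mem_cen {y : ↥(E Q)} (hy : y ∈ (centralizer (N0 : Set G)).comap π) : ∀ n ∈ N0, n * π y = π y * n :=
  fun n hn => mem_centralizer_iff.1 (mem_comap.1 hy) n hn

open Classical in
/-- the sign of the commutator with `n` -/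
noncomputable def fn {v0 : V} (hv0 : Q v0 ≠ 0) {n : V ≃ₗ[F] V} (hn : n ∈ Nh) :
    ↥((centralizer (N0 : Set G)).comap π) →* ℤˣ where
  toFun y := if ∀ v, ((y : ↥(E Q)) : V ≃ₗ[F] V) (n v) = n (((y : ↥(E Q)) : V ≃ₗ[F] V) v) then 1 else -1
  map_one' := if_pos fun v => rfl
  map_mul' y y' := by
    obtain ⟨c, hc, h⟩ := sign_comm S hv0 y.1.2 (mem_cen S y.2) hn
    obtain ⟨c', hc', h'⟩ := sign_comm S hv0 y'.1.2 (mem_cen S y'.2) hn
    have hv00 : v0 ≠ 0 := by rintro rfl; exact hv0 (map_zero Q)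
    have h2 := S.two
    have key : ∀ (g : V ≃ₗ[F] V) (c : F), (c = 1 ∨ c = -1) → (∀ v, g (n v) = c • n (g v)) →
        (if ∀ v, g (n v) = n (g v) then (1 : ℤˣ) else -1) = if c = 1 then 1 else -1 := by
      intro g c hc h
      rcases hc with rfl | rfl
      · rw [if_pos rfl, if_pos]
        intro v; rw [h, one_smul]
      · rw [if_neg (show ¬ (-1 : F) = 1 from fun h3 => h2 (by linear_combination -h3)), if_neg]
        intro h3
        have h4 := h3 v0
        rw [h, neg_smul, one_smul] at h4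
        have h5 : (2 : F) • n (g v0) = 0 := by
          rw [two_smul]; nth_rewrite 1 [← h4]; rw [neg_add_cancel]
        exact hv00 (g.map_eq_zero_iff.1 (n.map_eq_zero_iff.1 ((smul_eq_zero.1 h5).resolve_left h2)))
    have hyy : ∀ v, ((y : ↥(E Q)) : V ≃ₗ[F] V) (((y' : ↥(E Q)) : V ≃ₗ[F] V) (n v)) =
        (c * c') • n (((y : ↥(E Q)) : V ≃ₗ[F] V) (((y' : ↥(E Q)) : V ≃ₗ[F] V) v)) := by
      intro v
      rw [h', map_smul, h, smul_smul, mul_comm]
    have hcc : c * c' = 1 ∨ c * c' = -1 := by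
      rcases hc with rfl | rfl <;> rcases hc' with rfl | rfl <;> simp
    refine (key _ (c * c') hcc hyy).trans ?_
    rw [key _ c hc h, key _ c' hc' h']
    have hne : ¬ (-1 : F) = 1 := fun h3 => h2 (by linear_combination -h3)
    rcases hc with rfl | rfl <;> rcases hc' with rfl | rfl <;> simp [hne]

/-- the elements over `s` -/
theorem over_s {y : ↥(E Q)} (hy : π y = s) : ∃ c : F, ∀ v, (y : V ≃ₗ[F] V) v = c • sh v := by
  have hsE := S.mem_E S.lk.sN
  have h1 : π (y * ⟨sh, hsE⟩⁻¹) = 1 := by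
    rw [map_mul, map_inv, S.lk.pi_s hsE, hy, mul_inv_cancel]
  rw [S.lin.ker] at h1
  obtain ⟨c, hc⟩ := h1
  refine ⟨c, fun v => ?_⟩
  have h3 := hc (sh v)
  change (y : V ≃ₗ[F] V) (sh⁻¹ (sh v)) = c • sh v at h3
  rwa [show sh⁻¹ (sh v) = v from LinearEquiv.symm_apply_apply sh v] at h3

/-- the preimage of `C_G(N0)` commutes with `Nh` -/
theorem comm_of_cen [Finite G] {v0 : V} (hv0 : Q v0 ≠ 0) {y : ↥(E Q)} (hy : y ∈ (centralizer (N0 : Set G)).comap π)
    {n : V ≃ₗ[F] V} (hn : n ∈ Nh) : (y : V ≃ₗ[F] V) * n = n * y := by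
  have h := T6l S.kit S.lin (fn S hv0 hn) ?_ ?_ ⟨y, hy⟩
  · have h1 : ∀ v, (y : V ≃ₗ[F] V) (n v) = n ((y : V ≃ₗ[F] V) v) := by
      by_contra hcon
      have h3 : fn S hv0 hn ⟨y, hy⟩ = -1 := if_neg hcon
      rw [h3] at h
      exact absurd h (by decide)
    exact LinearEquiv.ext h1
  · rintro g ⟨c, hc⟩
    refine if_pos fun v => ?_
    rw [hc, hc, map_smul]
  · intro g hg
    obtain ⟨c, hc⟩ := over_s S hg
    refine if_pos fun v => ?_
    rw [hc, hc, map_smul, S.s_comm' hn]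

include B

/-- the action on `M` -/
noncomputable def resC [Finite G] {v0 : V} (hv0 : Q v0 ≠ 0) :
    ↥((centralizer (N0 : Set G)).comap π) →* (↥(MM ε sh n1 n2) →ₗ[F] ↥(MM ε sh n1 n2)) where
  toFun y := ((y : ↥(E Q)) : V ≃ₗ[F] V).toLinearMap.restrict
    (inv_M S B (fun _ hn => comm_of_cen S hv0 y.2 hn))
  map_one' := by ext v; rfl
  map_mul' g h := by ext v; rfl

end main

section matrices

/-- an endomorphism as a matrix -/
noncomputable def mat {M : Type*} [AddCommGroup M] [Module F M] (b : Basis (Fin 3) F M) :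
    (M →ₗ[F] M) →* Matrix (Fin 3) (Fin 3) F where
  toFun f := LinearMap.toMatrix b b f
  map_one' := LinearMap.toMatrix_one b
  map_mul' f g := LinearMap.toMatrix_mul b f g

/-- the form in coordinates -/
noncomputable def qf {M : Type*} [AddCommGroup M] [Module F M] (q : QuadraticForm F M) (b : Basis (Fin 3) F M) :
    QuadraticForm F (Fin 3 → F) := q.comp (b.equivFun.symm : (Fin 3 → F) →ₗ[F] M)

theorem qf_apply {M : Type*} [AddCommGroup M] [Module F M] (q : QuadraticForm F M) (b : Basis (Fin 3) F M)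
    (m : M) : qf q b (b.equivFun m) = q m := by
  change q (b.equivFun.symm (b.equivFun m)) = q m
  rw [LinearEquiv.symm_apply_apply]

theorem mat_mulVec {M : Type*} [AddCommGroup M] [Module F M] (b : Basis (Fin 3) F M) (f : M →ₗ[F] M) (m : M) :
    mat b f *ᵥ b.equivFun m = b.equivFun (f m) := LinearMap.toMatrix_mulVec_repr b b f m

/-- a group of isometries in coordinates -/
noncomputable def iso {M : Type*} [AddCommGroup M] [Module F M] (q : QuadraticForm F M) (b : Basis (Fin 3) F M)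
    {H : Type*} [Group H] (f : H →* (M →ₗ[F] M)) (hf : ∀ h m, q (f h m) = q m) :
    H →* ↥(Cfsg.isometryGroup F (⇑(qf q b))) :=
  (((mat b).comp f).toHomUnits).codRestrict _ fun h => by
    rw [Cfsg.Agent.ClassicalGeometry.Reflection.mem_isometryGroup_iff]
    intro v
    obtain ⟨m, rfl⟩ := b.equivFun.surjective v
    change qf q b (mat b (f h) *ᵥ b.equivFun m) = _
    rw [mat_mulVec, qf_apply, qf_apply, hf]

theorem iso_eq {M : Type*} [AddCommGroup M] [Module F M] (q : QuadraticForm F M) (b : Basis (Fin 3) F M)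
    {H : Type*} [Group H] (f : H →* (M →ₗ[F] M)) (hf : ∀ h m, q (f h m) = q m) {h h' : H} (he : f h = f h') :
    iso q b f hf h = iso q b f hf h' := by
  apply Subtype.ext
  apply Units.ext
  change mat b (f h) = mat b (f h')
  rw [he]

theorem iso_refl {M : Type*} [AddCommGroup M] [Module F M] (q : QuadraticForm F M) (b : Basis (Fin 3) F M)
    {H : Type*} [Group H] (f : H →* (M →ₗ[F] M)) (hf : ∀ h m, q (f h m) = q m) {h : H} {u : M} (hu : q u ≠ 0)
    (he : ∀ m, f h m = m - ((q u)⁻¹ * polar q u m) • u) :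
    iso q b f hf h = Cfsg.Agent.ClassicalGeometry.Reflection.reflIso (qf q b) (b.equivFun u)
      (by rw [qf_apply]; exact hu) := by
  apply Subtype.ext
  apply Units.ext
  change mat b (f h) = Cfsg.reflectionMatrix (⇑(qf q b)) (b.equivFun u)
  refine Matrix.toLin'.injective (LinearMap.ext fun v => ?_)
  rw [Matrix.toLin'_apply, Matrix.toLin'_apply]
  obtain ⟨m, rfl⟩ := b.equivFun.surjective v
  have hp : polar (qf q b) (b.equivFun u) (b.equivFun m) = polar q u m := by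
    rw [QuadraticMap.polar, QuadraticMap.polar, ← map_add, qf_apply, qf_apply, qf_apply]
  rw [mat_mulVec, Cfsg.Agent.ClassicalGeometry.Reflection.reflectionMatrix_mulVec, hp, qf_apply, he, map_sub, map_smul]

end matrices

section final

open Cfsg.Agent.ClassicalGeometry.SpinorSign

variable (S : Sit Q π N0 A Ek z s x r ψ Nh Eh zh sh xh rh) {ε : F} {n1 n2 m1 m2 : V ≃ₗ[F] V}
  (B : HypB Nh sh ε n1 n2 m1 m2)
include S B

theorem ne_three [Finite G] [Finite F] [FiniteDimensional F V] : finrank F ↥(MM ε sh n1 n2) ≠ 3 := by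
  classical
  intro hd
  have hA := AZ_of S B
  obtain ⟨b, hb, hb0⟩ := hA.exists_basis S.good.nondeg hd
  have hv0 := hb0 0
  have hne : ∀ i, (b i : V) ≠ 0 := fun i h => b.ne_zero i (Subtype.ext h)
  -- the action on `M`
  let f := resC S B hv0
  let q : QuadraticForm F ↥(MM ε sh n1 n2) := Q.comp (MM ε sh n1 n2).subtype
  have hf : ∀ h m, q (f h m) = q m := fun h m => mem_O.1 (E_le_O h.1.2) m
  let θ := iso q b f hf
  -- reflections
  have href : ∀ u : ↥(MM ε sh n1 n2), q u ≠ 0 → ∃ y : ↥((centralizer (N0 : Set G)).comap π),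
      ∀ m, f y m = m - ((q u)⁻¹ * polar q u m) • u := by
    intro u hu
    obtain ⟨ρ, hρ, hv, hcm, -⟩ := rho_kit S B (hne 0) (b 0).2.1 u.2 hu
    refine ⟨⟨⟨ρ, hρ⟩, mem_comap.2 (mem_centralizer_iff.2 fun n hn => (hcm n hn).symm)⟩, fun m => ?_⟩
    apply Subtype.ext
    change ρ m = m - ((Q u)⁻¹ * polar Q u m) • (u : V)
    rw [hv, hA.rf_M u.2 m.2]
  have hsign : ∀ (κ : F), κ ≠ 0 → ∀ u : ↥(MM ε sh n1 n2), q u ≠ 0 → ∀ y, (∀ m, f y m = m - ((q u)⁻¹ * polar q u m) • u) →
      spinorSign (⇑(qf q b)) κ (θ y) = if IsSquare (κ * q u) then -1 else 1 := by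
    intro κ hκ u hu y hy
    have h1 : θ y = _ := iso_refl q b f hf hu hy
    rw [h1, spinorSign_reflIso S.two (qf q b) hκ, qf_apply]
  have hq0 : ∀ i, q (b i) ≠ 0 := hb0
  choose Y hY using fun i => href (b i) (hq0 i)
  -- `-1`
  have hneg : ∀ m, f (Y 0 * Y 1 * Y 2) m = -m := by
    have hYj : ∀ i j, f (Y i) (b j) = if i = j then - b j else b j := by
      intro i j
      rw [hY]
      split_ifs with hij
      · subst hij
        rw [polar_self', ← mul_assoc, mul_comm _ (2 : F), mul_assoc, inv_mul_cancel₀ (hq0 i), mul_one, two_smul]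
        abel
      · have : polar q (b i) (b j) = 0 := hb i j hij
        rw [this, mul_zero, zero_smul, sub_zero]
    have h1 : f (Y 0 * Y 1 * Y 2) = -1 := by
      refine b.ext fun i => ?_
      rw [map_mul, map_mul]
      change f (Y 0) (f (Y 1) (f (Y 2) (b i))) = -(b i)
      (revert i; simp only [hYj, _root_.Fin.forall_fin_succ, Fin.isValue, Fin.reduceEq, ↓reduceIte, _root_.one_ne_zero, _root_.Fin.succ_zero_eq_one, _root_.map_neg, _root_.zero_ne_one, _root_.Fin.succ_one_eq_two, _root_.IsEmpty.forall_iff, _root_.and_self])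
    intro m
    rw [h1]
    rfl
  -- the choice of `κ`
  obtain ⟨κ, hκ, hκ1⟩ : ∃ κ : F, κ ≠ 0 ∧ spinorSign (⇑(qf q b)) κ (θ (Y 0 * Y 1 * Y 2)) = 1 := by
    have h3 : ∀ κ : F, κ ≠ 0 → spinorSign (⇑(qf q b)) κ (θ (Y 0 * Y 1 * Y 2)) =
        (if IsSquare (κ * q (b 0)) then -1 else 1) * (if IsSquare (κ * q (b 1)) then -1 else 1) *
        (if IsSquare (κ * q (b 2)) then -1 else 1) := by
      intro κ hκ
      rw [map_mul, map_mul, map_mul, map_mul, hsign κ hκ (b 0) (hq0 0) _ (hY 0), hsign κ hκ (b 1) (hq0 1) _ (hY 1),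
        hsign κ hκ (b 2) (hq0 2) _ (hY 2)]
    by_cases h4 : spinorSign (⇑(qf q b)) (1 : F) (θ (Y 0 * Y 1 * Y 2)) = 1
    · exact ⟨1, one_ne_zero, h4⟩
    · obtain ⟨ν, hν⟩ := FiniteField.exists_nonsquare (F := F) (fun h => S.two (by
        have := ringChar.Nat.cast_ringChar (R := F)
        rw [h] at this
        exact_mod_cast this))
      have hν0 : ν ≠ 0 := fun h => hν (by rw [h]; exact IsSquare.zero)
      refine ⟨ν, hν0, ?_⟩
      rw [h3 1 one_ne_zero] at h4
      rw [h3 ν hν0]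
      simp only [one_mul] at h4
      simp only [isSquare_iff S.two hν (hq0 0), isSquare_iff S.two hν (hq0 1), isSquare_iff S.two hν (hq0 2)]
      by_cases c0 : IsSquare (q (b 0)) <;> by_cases c1 : IsSquare (q (b 1)) <;> by_cases c2 : IsSquare (q (b 2)) <;>
        simp only [c0, c1, c2, _root_.Fin.isValue, ↓ _root_.reduceIte, _root_.mul_neg, _root_.mul_one, _root_.neg_neg, _root_.neg_units_ne_self, _root_.not_false_eq_true, _root_.not_true_eq_false] at h4 ⊢
  -- elements acting as scalars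
  have hsc : ∀ y, (∃ c : F, ∀ m, f y m = c • m) → spinorSign (⇑(qf q b)) κ (θ y) = 1 := by
    rintro y ⟨c, hc⟩
    have h1 := hf y (b 0)
    rw [hc, QuadraticMap.map_smul, smul_eq_mul] at h1
    have h4 : (c - 1) * (c + 1) = 0 := by
      have h5 : (c * c - 1) * q (b 0) = 0 := by linear_combination h1
      have h6 := (mul_eq_zero.1 h5).resolve_right (hq0 0)
      linear_combination h6
    rcases mul_eq_zero.1 h4 with h5 | h5
    · have h6 : θ y = θ 1 := iso_eq q b f hf (by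
        rw [map_one]
        ext m
        rw [hc, sub_eq_zero.1 h5, one_smul]
        rfl)
      rw [h6, map_one, map_one]
    · have h6 : θ y = θ (Y 0 * Y 1 * Y 2) := iso_eq q b f hf (by
        refine LinearMap.ext fun m => ?_
        rw [hc, eq_neg_of_add_eq_zero_left h5, hneg, neg_smul, one_smul])
      rw [h6, hκ1]
  -- `T6`
  have hT : ∀ y, spinorSign (⇑(qf q b)) κ (θ y) = 1 := by
    intro y
    refine T6l S.kit S.lin ((spinorSign (⇑(qf q b)) κ).comp θ) ?_ ?_ y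
    · rintro g ⟨c, hc⟩
      exact hsc g ⟨c, fun m => Subtype.ext (hc m)⟩
    · intro g hg
      obtain ⟨c, hc⟩ := over_s S hg
      refine hsc g ⟨c * ε, fun m => Subtype.ext ?_⟩
      change ((g : ↥(E Q)) : V ≃ₗ[F] V) (m : V) = (c * ε) • (m : V)
      rw [hc, m.2.1, smul_smul]
  -- a vector of norm `κ`
  obtain ⟨x1, y1, hxy⟩ := exists_rep S.two (hq0 0) (hq0 1) κ
  have hu : q (x1 • b 0 + y1 • b 1) = κ := by
    have h01 : polar q (b 0) (b 1) = 0 := hb 0 1 (by decide)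
    rw [Q_add, QuadraticMap.map_smul, QuadraticMap.map_smul, polar_smul_left, polar_smul_right, h01]
    simp only [smul_eq_mul, mul_zero, add_zero, smul_zero]
    exact hxy
  have hu0 : q (x1 • b 0 + y1 • b 1) ≠ 0 := by rw [hu]; exact hκ
  obtain ⟨y, hy⟩ := href _ hu0
  have h1 := hsign κ hκ _ hu0 y hy
  rw [hT y, hu, if_pos ⟨κ, rfl⟩] at h1
  exact absurd h1 (by decide)

/-- **Section 5, Arf invariant 0**: `Eh` acts trivially on `V_ε`. -/
theorem arf_zero [Finite G] [Finite F] [FiniteDimensional F V] : ∀ e ∈ Eh, ∀ v, sh v = ε • v → e v = v := by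
  intro e he v hv
  have hA := AZ_of S B
  have h3 : finrank F ↥(MM ε sh n1 n2) ≤ 3 := by
    by_contra hcon
    exact le_three S B (by omega)
  have h2 := ne_three S B
  have h4 := le_two S B (by omega) e he
  have hc : ∀ n ∈ Nh, ∀ w, e (n w) = n (e w) := fun n hn w => LinearEquiv.congr_fun (S.lk.Eh_comm e he n hn) w
  exact hA.triv_of_M (hc m1 B.m1N) (hc m2 B.m2N) (fun w hw => h4 w hw) hv

end final

end Cfsg.Agent.H100.C3
end

-- part: H14/C3/SecFive
section
/-!
# S1920, case B, `POmega`, section 5 (helper14)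

The case `rho = 0`, `l = 1`: `Nh` commutes on `Vc = ker (sh² + 1)` and `Eh` is trivial there.  `Nh` acts on
`Vr = ker (sh² - 1)` as `⟨±1, sh⟩` times an extraspecial group `2^{1+4}`; Arf invariant zero: helper100, Arf invariant one:
`arf_one`.
-/

set_option autoImplicit false
set_option linter.unusedVariables false
set_option linter.unusedSectionVars false

open Subgroup

namespace Cfsg.Agent.H14.C3

open Cfsg.Agent.H415.C3 Cfsg.Agent.H100.C3
open Cfsg.Agent.LieClassical.OrthCore Cfsg.Agent.LieClassical.OrthTrans QuadraticMap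

variable {K : Type*} [Field K] {V : Type*} [AddCommGroup V] [Module K V]

section main

variable {G : Type*} [Group G] {Q : QuadraticForm K V} {π : ↥(E Q) →* G} {N0 A Ek : Subgroup G} {z s x r : G}
  {ψ : ↥A →* Equiv.Perm (Fin 6)} {Nh Eh : Subgroup (V ≃ₗ[K] V)} {zh sh xh rh : V ≃ₗ[K] V}

section
variable (S : Sit Q π N0 A Ek z s x r ψ Nh Eh zh sh xh rh)

/-- the restriction to `Vr` -/
def RR : ↥Nh →* Module.End K ↥(Wr sh) where
  toFun n := (n.1 : V →ₗ[K] V).restrict (p := Wr sh) (q := Wr sh) (fun v hv => by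
    change sh (sh (n.1 v)) = n.1 v
    rw [S.s_comm' n.2, S.s_comm' n.2, mem_Wr.1 hv])
  map_one' := LinearMap.ext fun v => Subtype.ext rfl
  map_mul' n m := LinearMap.ext fun v => Subtype.ext rfl

/-- the elements acting as `±1`, and `sh` -/
def ZZ : Subgroup ↥Nh := closure ({⟨sh, S.lk.sN⟩} ∪ {g | RR S g = 1 ∨ RR S g = -1})

include S in
theorem zh_Wr : ∃ c : K, c ≠ 0 ∧ ∀ v, sh (sh v) = v → zh v = c • v := by
  obtain ⟨c, hc, h⟩ := S.lk.s_sq
  refine ⟨c⁻¹, inv_ne_zero hc, fun v hv => ?_⟩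
  have h1 : sh (sh v) = c • zh v := h v
  rw [hv] at h1
  nth_rewrite 2 [h1]
  rw [smul_smul, inv_mul_cancel₀ hc, one_smul]

theorem sq_RR (n : ↥Nh) : RR S n * RR S n = 1 ∨ RR S n * RR S n = -1 := by
  have h2 := S.two
  -- a scalar
  have h : ∃ η : K, ∀ v, sh (sh v) = v → n.1 (n.1 v) = η • v := by
    obtain ⟨c', -, hc'⟩ := zh_Wr S
    obtain ⟨c, -, h | h⟩ := S.lk.sq n.1 n.2
    · exact ⟨c, fun v _ => h v⟩
    · refine ⟨c * c', fun v hv => ?_⟩
      have h1 : n.1 (n.1 v) = c • zh v := h v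
      rw [h1, hc' v hv, smul_smul]
  obtain ⟨η, hη⟩ := h
  by_cases hW : ∀ v, sh (sh v) = v → v = 0
  · left
    refine LinearMap.ext fun v => Subtype.ext ?_
    change n.1 (n.1 v.1) = v.1
    rw [hW v.1 v.2, map_zero, map_zero]
  push Not at hW
  obtain ⟨y, hy, hy0⟩ := hW
  obtain ⟨w, hw⟩ := S.good.nondeg.exists_polar_ne hy0
  have sO : sh ∈ O Q := E_le_O (S.mem_E S.lk.sN)
  have nO : n.1 ∈ O Q := E_le_O (S.mem_E n.2)
  let a := (2 : K)⁻¹ • (w + sh (sh w))
  have ha : sh (sh a) = a := by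
    simp only [a, map_smul, map_add, S.s4]
    rw [add_comm]
  have hya : polar Q y a = polar Q y w := by
    have h3 : polar Q y (sh (sh w)) = polar Q y w := by
      have h4 : polar Q (sh (sh y)) (sh (sh w)) = polar Q y w := by rw [polar_map sO, polar_map sO]
      rwa [hy] at h4
    simp only [a, polar_smul_right, polar_add_right, h3, smul_eq_mul]
    rw [← two_mul, ← mul_assoc, inv_mul_cancel₀ h2, one_mul]
  have h5 : η * η * polar Q y w = polar Q y w := by
    have h6 : polar Q (n.1 (n.1 y)) (n.1 (n.1 a)) = polar Q y a := by rw [polar_map nO, polar_map nO]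
    rw [hη y hy, hη a ha, polar_smul_left, polar_smul_right, hya, smul_eq_mul, smul_eq_mul] at h6
    rw [mul_assoc]
    exact h6
  have h7 : η * η = 1 := mul_right_cancel₀ hw (by rw [h5, one_mul])
  have h8 : (η - 1) * (η + 1) = 0 := by linear_combination h7
  rcases mul_eq_zero.1 h8 with h9 | h9
  · left
    refine LinearMap.ext fun v => Subtype.ext ?_
    change n.1 (n.1 v.1) = v.1
    rw [hη v.1 v.2, sub_eq_zero.1 h9, one_smul]
  · right
    refine LinearMap.ext fun v => Subtype.ext ?_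
    change n.1 (n.1 v.1) = -v.1
    rw [hη v.1 v.2, eq_neg_of_add_eq_zero_left h9, neg_one_smul]

/-- the image in `G` -/
theorem comm_or [Finite G] (n m : ↥Nh) :
    (RR S n * RR S m = RR S m * RR S n ∧ π ⟨n.1, S.mem_E n.2⟩ * π ⟨m.1, S.mem_E m.2⟩ = π ⟨m.1, S.mem_E m.2⟩ * π ⟨n.1, S.mem_E n.2⟩) ∨
    (RR S n * RR S m = -(RR S m * RR S n) ∧
      π ⟨n.1, S.mem_E n.2⟩ * π ⟨m.1, S.mem_E m.2⟩ = z * (π ⟨m.1, S.mem_E m.2⟩ * π ⟨n.1, S.mem_E n.2⟩)) := by
  rcases S.dich n.2 m.2 with ⟨h1, h2⟩ | ⟨h1, h2⟩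
  · exact Or.inl ⟨LinearMap.ext fun v => Subtype.ext (h1 v.1), h2⟩
  · exact Or.inr ⟨LinearMap.ext fun v => Subtype.ext (h1 v.1 v.2), h2⟩

theorem comm_pos [Finite G] {n m : ↥Nh} (h : π ⟨n.1, S.mem_E n.2⟩ * π ⟨m.1, S.mem_E m.2⟩ = π ⟨m.1, S.mem_E m.2⟩ * π ⟨n.1, S.mem_E n.2⟩) :
    RR S n * RR S m = RR S m * RR S n := by
  rcases comm_or S n m with ⟨h1, -⟩ | ⟨-, h2⟩
  · exact h1
  · rw [h] at h2
    exact absurd (by simpa using h2 : z = 1) S.kit.z_ne

theorem comm_neg [Finite G] {n m : ↥Nh} (h : π ⟨n.1, S.mem_E n.2⟩ * π ⟨m.1, S.mem_E m.2⟩ = z * (π ⟨m.1, S.mem_E m.2⟩ * π ⟨n.1, S.mem_E n.2⟩)) :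
    RR S n * RR S m = -(RR S m * RR S n) := by
  rcases comm_or S n m with ⟨-, h2⟩ | ⟨h1, -⟩
  · rw [h] at h2
    exact absurd (by simpa using h2 : z = 1) S.kit.z_ne
  · exact h1

/-- **a symplectic basis** -/
theorem exists_bas [Finite G] : ∃ n1 m1 n2 m2 : ↥Nh, Bas (RR S) (ZZ S) n1 m1 n2 m2 := by
  obtain ⟨a1, ha1, b1, hb1, a2, ha2, b2, hb2, h1, h2, h3, h4, h5, h6, h7⟩ := exists_basis S.kit
  obtain ⟨A1, hA1, rfl⟩ := S.lk.exists_Nh S.lin ha1
  obtain ⟨B1, hB1, rfl⟩ := S.lk.exists_Nh S.lin hb1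
  obtain ⟨A2, hA2, rfl⟩ := S.lk.exists_Nh S.lin ha2
  obtain ⟨B2, hB2, rfl⟩ := S.lk.exists_Nh S.lin hb2
  have h1' : π B1 * π A1 = z * (π A1 * π B1) := by rw [h1, ← mul_assoc, S.kit.z_sq, one_mul]
  have h2' : π B2 * π A2 = z * (π A2 * π B2) := by rw [h2, ← mul_assoc, S.kit.z_sq, one_mul]
  refine ⟨⟨A1, hA1⟩, ⟨B1, hB1⟩, ⟨A2, hA2⟩, ⟨B2, hB2⟩, ?_⟩
  refine ⟨comm_neg S h1, comm_neg S h2, comm_pos S h3, comm_pos S h4, comm_pos S h5, comm_pos S h6, ?_⟩
  intro H g1 g2 g3 g4 g5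
  rw [eq_top_iff]
  intro n _
  have pm : ∀ n : ↥Nh, π ⟨n.1, S.mem_E n.2⟩ ∈ N0 := fun n => S.pi_mem n.2
  -- commuting with everything
  have P4 : ∀ n : ↥Nh, π ⟨n.1, S.mem_E n.2⟩ * π A1 = π A1 * π ⟨n.1, S.mem_E n.2⟩ →
      π ⟨n.1, S.mem_E n.2⟩ * π B1 = π B1 * π ⟨n.1, S.mem_E n.2⟩ →
      π ⟨n.1, S.mem_E n.2⟩ * π A2 = π A2 * π ⟨n.1, S.mem_E n.2⟩ →
      π ⟨n.1, S.mem_E n.2⟩ * π B2 = π B2 * π ⟨n.1, S.mem_E n.2⟩ → n ∈ H := by
    intro n k1 k2 k3 k4
    obtain ⟨k, hk⟩ := mem_powers_iff_mem_zpowers.2 (h7 _ (pm n) k1 k2 k3 k4)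
    have hk' : s ^ k = π ⟨n.1, S.mem_E n.2⟩ := hk
    obtain ⟨c, hc0, hc⟩ := S.lin.smul_of_eq (g := ⟨n.1, S.mem_E n.2⟩) (h := ⟨sh, S.mem_E S.lk.sN⟩ ^ k) (by
      rw [map_pow, S.lk.pi_s, hk'])
    have hsk : (⟨sh, S.lk.sN⟩ : ↥Nh) ^ k ∈ H := pow_mem (g5 (subset_closure (Or.inl rfl))) k
    let g : ↥Nh := n * (⟨sh, S.lk.sN⟩ ^ k)⁻¹
    have hg : ∀ v, g.1 v = c • v := by
      intro v
      change n.1 ((((⟨sh, S.lk.sN⟩ : ↥Nh) ^ k)⁻¹ : ↥Nh).1 v) = c • v
      have e1 := hc ((((⟨sh, S.lk.sN⟩ : ↥Nh) ^ k)⁻¹ : ↥Nh).1 v)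
      refine e1.trans ?_
      congr 1
      exact LinearEquiv.apply_symm_apply (sh ^ k) v
    have hcc : c * c = 1 := by
      obtain ⟨v, hv0, -⟩ := S.c_ne
      obtain ⟨w, hw⟩ := S.good.nondeg.exists_polar_ne hv0
      have h8 : polar Q (g.1 v) (g.1 w) = polar Q v w := polar_map (E_le_O (S.mem_E g.2)) v w
      rw [hg, hg, polar_smul_left, polar_smul_right, smul_eq_mul, smul_eq_mul, ← mul_assoc] at h8
      exact mul_right_cancel₀ hw (by rw [h8, one_mul])
    have h8 : (c - 1) * (c + 1) = 0 := by linear_combination hcc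
    have hgZ : g ∈ H := by
      refine g5 (subset_closure (Or.inr ?_))
      rcases mul_eq_zero.1 h8 with h9 | h9
      · left
        refine LinearMap.ext fun v => Subtype.ext ?_
        change g.1 v.1 = v.1
        rw [hg, sub_eq_zero.1 h9, one_smul]
      · right
        refine LinearMap.ext fun v => Subtype.ext ?_
        change g.1 v.1 = -v.1
        rw [hg, eq_neg_of_add_eq_zero_left h9, neg_one_smul]
    have := mul_mem hgZ hsk
    rwa [inv_mul_cancel_right] at this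
  -- one correction
  have cor : ∀ (p q : ↥(E Q)) (hp : (p : V ≃ₗ[K] V) ∈ Nh) (hq : (q : V ≃ₗ[K] V) ∈ Nh),
      π p * π q = z * (π q * π p) → (⟨q, hq⟩ : ↥Nh) ∈ H → ∀ n : ↥Nh,
      ∃ n' : ↥Nh, (n' = n ∨ n' = n * ⟨q, hq⟩) ∧ π ⟨n'.1, S.mem_E n'.2⟩ * π p = π p * π ⟨n'.1, S.mem_E n'.2⟩ := by
    intro p q hp hq hpq _ n
    obtain ⟨y', hy', hyp⟩ := fix_comm S.kit (S.pi_mem hp) (S.pi_mem hq) (pm n) hpq
    rcases hy' with rfl | rfl
    · exact ⟨n, Or.inl rfl, hyp⟩
    · refine ⟨n * ⟨q, hq⟩, Or.inr rfl, ?_⟩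
      have e1 : π ⟨(n * ⟨q, hq⟩ : ↥Nh).1, S.mem_E (n * ⟨q, hq⟩ : ↥Nh).2⟩ = π ⟨n.1, S.mem_E n.2⟩ * π q := by
        rw [← map_mul]; rfl
      rw [e1]
      exact hyp
  have keep : ∀ (n : ↥Nh) (q : ↥(E Q)) (hq : (q : V ≃ₗ[K] V) ∈ Nh) (p : G),
      π ⟨n.1, S.mem_E n.2⟩ * p = p * π ⟨n.1, S.mem_E n.2⟩ → π q * p = p * π q →
      π ⟨(n * ⟨q, hq⟩ : ↥Nh).1, S.mem_E (n * ⟨q, hq⟩ : ↥Nh).2⟩ * p
        = p * π ⟨(n * ⟨q, hq⟩ : ↥Nh).1, S.mem_E (n * ⟨q, hq⟩ : ↥Nh).2⟩ := by
    intro n q hq p k1 k2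
    have e1 : π ⟨(n * ⟨q, hq⟩ : ↥Nh).1, S.mem_E (n * ⟨q, hq⟩ : ↥Nh).2⟩ = π ⟨n.1, S.mem_E n.2⟩ * π q := by
      rw [← map_mul]; rfl
    rw [e1, mul_assoc, k2, ← mul_assoc, k1, mul_assoc]
  have back : ∀ (n q : ↥Nh), q ∈ H → n * q ∈ H → n ∈ H := by
    intro n q hq hnq
    have := mul_mem hnq (inv_mem hq)
    rwa [mul_inv_cancel_right] at this
  have P3 : ∀ n : ↥Nh, π ⟨n.1, S.mem_E n.2⟩ * π A1 = π A1 * π ⟨n.1, S.mem_E n.2⟩ →
      π ⟨n.1, S.mem_E n.2⟩ * π B1 = π B1 * π ⟨n.1, S.mem_E n.2⟩ →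
      π ⟨n.1, S.mem_E n.2⟩ * π A2 = π A2 * π ⟨n.1, S.mem_E n.2⟩ → n ∈ H := by
    intro n k1 k2 k3
    obtain ⟨n', hn', k4⟩ := cor B2 A2 hB2 hA2 h2' g3 n
    rcases hn' with rfl | rfl
    · exact P4 _ k1 k2 k3 k4
    · exact back _ _ g3 (P4 _ (keep _ _ hA2 _ k1 h3.symm) (keep _ _ hA2 _ k2 h5.symm) (keep _ _ hA2 _ k3 rfl) k4)
  have P2 : ∀ n : ↥Nh, π ⟨n.1, S.mem_E n.2⟩ * π A1 = π A1 * π ⟨n.1, S.mem_E n.2⟩ →
      π ⟨n.1, S.mem_E n.2⟩ * π B1 = π B1 * π ⟨n.1, S.mem_E n.2⟩ → n ∈ H := by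
    intro n k1 k2
    obtain ⟨n', hn', k4⟩ := cor A2 B2 hA2 hB2 h2 g4 n
    rcases hn' with rfl | rfl
    · exact P3 _ k1 k2 k4
    · exact back _ _ g4 (P3 _ (keep _ _ hB2 _ k1 h4.symm) (keep _ _ hB2 _ k2 h6.symm) k4)
  have P1 : ∀ n : ↥Nh, π ⟨n.1, S.mem_E n.2⟩ * π A1 = π A1 * π ⟨n.1, S.mem_E n.2⟩ → n ∈ H := by
    intro n k1
    obtain ⟨n', hn', k4⟩ := cor B1 A1 hB1 hA1 h1' g1 n
    rcases hn' with rfl | rfl
    · exact P2 _ k1 k4
    · exact back _ _ g1 (P2 _ (keep _ _ hA1 _ k1 rfl) k4)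
  obtain ⟨n', hn', k4⟩ := cor A1 B1 hA1 hB1 h1 g2 n
  rcases hn' with rfl | rfl
  · exact P1 _ k4
  · exact back _ _ g2 (P1 _ k4)

end

/-- **Section 5** -/
theorem sec_five_aux [Finite G] [Finite K] [FiniteDimensional K V] (S : Sit Q π N0 A Ek z s x r ψ Nh Eh zh sh xh rh)
    (hE : ∀ e ∈ Eh, ∀ v, sh (sh v) = -v → e v = v)
    (hzero : ∀ (ε : K) (n1 n2 m1 m2 : V ≃ₗ[K] V), HypB Nh sh ε n1 n2 m1 m2 → ∀ e ∈ Eh, ∀ v, sh v = ε • v → e v = v) :
    False := by
  -- it is enough that `Eh` is trivial on `Vr`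
  suffices hV : ∀ e ∈ Eh, ∀ v, sh (sh v) = v → e v = v by
    apply S.lk.Eh_ne S.kit
    rw [eq_bot_iff]
    intro e he
    rw [Subgroup.mem_bot]
    refine LinearEquiv.ext fun v => ?_
    have h2 := S.two
    have e1 : v = (2 : K)⁻¹ • (v + sh (sh v)) + (2 : K)⁻¹ • (v - sh (sh v)) := by
      have : v = ((2 : K)⁻¹ * 2) • v := by rw [inv_mul_cancel₀ h2, one_smul]
      nth_rewrite 1 [this]
      module
    change e v = v
    rw [e1, map_add, hV e he _ (by simp only [map_smul, map_add, S.s4]; rw [add_comm]),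
      hE e he _ (by simp only [map_smul, map_sub, S.s4]; module)]
  obtain ⟨n1, m1, n2, m2, hB⟩ := exists_bas S
  obtain ⟨a, b, c, e, hB, ha, hb, hce⟩ := hB.exists_arf (sq_RR S)
  have val : ∀ {f g : Module.End K ↥(Wr sh)}, f = g → ∀ (v : V) (hv : sh (sh v) = v), (f ⟨v, hv⟩ : V) = (g ⟨v, hv⟩ : V) := by
    intro f g h v hv
    rw [h]
  rcases hce with ⟨hc, he⟩ | ⟨hc, he⟩
  · -- Arf invariant zero
    have hyp : ∀ ε : K, (ε = 1 ∨ ε = -1) → HypB Nh sh ε a.1 c.1 b.1 e.1 := by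
      intro ε hε
      have hw : ∀ v, sh v = ε • v → sh (sh v) = v := by
        intro v hv
        rw [hv, map_smul, hv, smul_smul]
        rcases hε with rfl | rfl
        · rw [one_mul, one_smul]
        · rw [neg_mul_neg, one_mul, one_smul]
      exact
        { eps := hε
          n1N := a.2
          n2N := c.2
          m1N := b.2
          m2N := e.2
          n11 := fun v hv => val ha v (hw v hv)
          n22 := fun v hv => val hc v (hw v hv)
          m11 := fun v hv => val hb v (hw v hv)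
          m22 := fun v hv => val he v (hw v hv)
          nn := fun v hv => val hB.c1 v (hw v hv)
          mm := fun v hv => val hB.c4 v (hw v hv)
          nm12 := fun v hv => val hB.c2 v (hw v hv)
          nm21 := fun v hv => (val hB.c3 v (hw v hv)).symm
          nm11 := fun v hv => val hB.ac1 v (hw v hv)
          nm22 := fun v hv => val hB.ac2 v (hw v hv) }
    intro f hf v hv
    have h2 := S.two
    have e1 : v = (2 : K)⁻¹ • (v + sh v) + (2 : K)⁻¹ • (v - sh v) := by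
      have : v = ((2 : K)⁻¹ * 2) • v := by rw [inv_mul_cancel₀ h2, one_smul]
      nth_rewrite 1 [this]
      module
    rw [e1, map_add, hzero 1 _ _ _ _ (hyp 1 (Or.inl rfl)) f hf _ (by simp only [map_smul, map_add, hv]; module),
      hzero (-1) _ _ _ _ (hyp (-1) (Or.inr rfl)) f hf _ (by simp only [map_smul, map_sub, hv]; module)]
  · -- Arf invariant one
    obtain ⟨α, β, hαβ⟩ : ∃ α β : K, α * α + β * β = -1 := by
      obtain ⟨p, hp⟩ := CharP.exists K
      have hpp : p.Prime := CharP.char_is_prime K p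
      have : NeZero p := ⟨hpp.ne_zero⟩
      obtain ⟨a, b, hab⟩ := CharP.sq_add_sq K p (-1)
      refine ⟨a, b, ?_⟩
      rw [← pow_two, ← pow_two, hab]
      push_cast; rfl
    have hA : SO Q sh a.1 b.1 c.1 e.1 α β Nh :=
      { two := S.two
        On1 := E_le_O (S.mem_E a.2)
        Om1 := E_le_O (S.mem_E b.2)
        On2 := E_le_O (S.mem_E c.2)
        Om2 := E_le_O (S.mem_E e.2)
        Wn1 := fun v hv => (RR S a ⟨v, hv⟩).2
        Wm1 := fun v hv => (RR S b ⟨v, hv⟩).2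
        Wn2 := fun v hv => (RR S c ⟨v, hv⟩).2
        Wm2 := fun v hv => (RR S e ⟨v, hv⟩).2
        n1n1 := fun v hv => val ha v hv
        m1m1 := fun v hv => val hb v hv
        n2n2 := fun v hv => val hc v hv
        m2m2 := fun v hv => val he v hv
        n1m1 := fun v hv => val hB.ac1 v hv
        n2m2 := fun v hv => val hB.ac2 v hv
        n1n2 := fun v hv => val hB.c1 v hv
        n1m2 := fun v hv => val hB.c2 v hv
        m1n2 := fun v hv => val hB.c3 v hv
        m1m2 := fun v hv => val hB.c4 v hv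
        ab := hαβ
        nd := S.good.nondeg
        Os := E_le_O (S.mem_E S.lk.sN)
        s4 := S.s4
        NO := fun n hn => E_le_O (S.mem_E hn)
        Ns := fun n hn v => (S.s_comm' hn v).symm
        N1 := a.2
        M1 := b.2
        N2 := c.2
        M2 := e.2
        gen := by
          intro H k1 k2 k3 k4 k5 k6
          have h1 := hB.gen (H.subgroupOf Nh) k1 k2 k3 k4 (by
            rw [ZZ, closure_le]
            rintro g (rfl | hg)
            · exact k5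
            · refine k6 g.1 g.2 ?_
              rcases hg with hg | hg
              · exact Or.inl fun v hv => val hg v hv
              · exact Or.inr fun v hv => val hg v hv)
          intro n hn
          have h2 : (⟨n, hn⟩ : ↥Nh) ∈ H.subgroupOf Nh := by rw [h1]; trivial
          exact h2 }
    exact arf_one S.kit S.lin S.lk hA S.c_ne hE

end main

end Cfsg.Agent.H14.C3
end

private theorem dce_8becda5a0257 : _root_.True := by
  try have : _root_.True := by simp only [_root_.Cfsg.Agent.H14.C3.ZZ.eq_1]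
  exact _root_.True.intro
end

-- part: H167/Co3/X0Gen
section
prune_inst 0x101045204462120000000500b20020202400049000600000c80000400948a94a00008100842001008002a8902004004001000180422000000a00040000050401108112022050a808a00018000004000000000000000000000000000000000000200000000
set_option linter.all false
open scoped Cfsg.Agent.FastGrp

/-!
# S1920, X0: the `(-1)`-eigenspace on the Lie algebra of an element `g` with `g ^ 4 = 1`

`exists_exp` : `F` finite of odd characteristic, `g : D.group F`, `g ^ 4 = 1`: there is `e : Fin l → ℤ` such that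
the dimension of the `(-1)`-eigenspace of `g` is the number of roots `r` with `⟨r, e⟩ ≡ 2 (mod 4)` and that of `g * g`
the number of roots with `⟨r, e⟩` odd.
-/

set_option autoImplicit false
set_option linter.unusedSectionVars false

namespace Cfsg.Agent.H167.Co3

open CoxeterSystem Cfsg Cfsg.Lie Cfsg.Lie.ChevalleyDatum
open Cfsg.Agent.ChevalleyStructure Cfsg.Agent.ChevalleyStructure.Elts Cfsg.Agent.ChevalleyStructure.CoxeterGeom
  Cfsg.Agent.ChevalleyStructure.CoxeterGeomTypes Cfsg.Agent.ChevalleyStructure.NPerm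
open Cfsg.Agent.Tits.Roots Cfsg.Agent.Nodes Cfsg.Agent.Nodes.Reps Cfsg.Agent.Nodes.BNOf
  Cfsg.Agent.Nodes.RGDChev Cfsg.Agent.Nodes.Bruhat
open Cfsg.Agent.KFacts.RgdField Cfsg.Agent.KFacts.RgdChevCoord
open Cfsg.Agent.BpExc.TorAll Cfsg.Agent.BpExc.TorCent Cfsg.Agent.BpExc.TorChev Cfsg.Agent.BpExc.Tow
  Cfsg.Agent.BpExc.TowChev Cfsg.Agent.GpExc.Field
open Module

universe u

/-! ### matrices -/

/-- the dimension of the `(-1)`-eigenspace of a matrix -/
noncomputable def mm {k : Type*} [Field k] {ι : Type*} [Fintype ι] [DecidableEq ι] (A : Matrix ι ι k) : ℕ :=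
  finrank k ↥(LinearMap.ker (Matrix.toLin' A + 1))

theorem mm_add_rank {k : Type*} [Field k] {ι : Type*} [Fintype ι] [DecidableEq ι] (A : Matrix ι ι k) :
    (A + 1).rank + mm A = Fintype.card ι := by
  have h1 := LinearMap.finrank_range_add_finrank_ker (Matrix.toLin' (A + 1))
  have h2 : finrank k ↥(LinearMap.range (Matrix.toLin' (A + 1))) = (A + 1).rank := by
    rw [Matrix.toLin'_apply']
    rfl
  have h3 : Matrix.toLin' (A + 1) = Matrix.toLin' A + 1 := by
    rw [map_add, Matrix.toLin'_one]; rfl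
  rw [h2, h3, finrank_fintype_fun_eq_card] at h1
  exact h1

/-- base change -/
theorem mm_map {k K : Type*} [Field k] [Field K] (f : k →+* K) {ι : Type*} [Fintype ι] [DecidableEq ι]
    (A : Matrix ι ι k) : mm (A.map f) = mm A := by
  have h1 := mm_add_rank A
  have h2 := mm_add_rank (A.map f)
  have h3 : A.map f + 1 = (A + 1).map f := by
    ext i j
    rw [Matrix.add_apply, Matrix.map_apply, Matrix.map_apply, Matrix.add_apply, map_add]
    congr 1
    rw [Matrix.one_apply, Matrix.one_apply]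
    split_ifs
    · rw [map_one]
    · rw [map_zero]
  rw [h3, Cfsg.Agent.H953.rank_map] at h2
  omega

/-- conjugation -/
theorem mm_conj {k : Type*} [Field k] {ι : Type*} [Fintype ι] [DecidableEq ι] (g A : GL ι k) :
    mm ((g * A * g⁻¹ : GL ι k) : Matrix ι ι k) = mm (A : Matrix ι ι k) := by
  have h1 := mm_add_rank (A : Matrix ι ι k)
  have h2 := mm_add_rank ((g * A * g⁻¹ : GL ι k) : Matrix ι ι k)
  have h3 : ((g * A * g⁻¹ : GL ι k) : Matrix ι ι k) + 1 =
      (g : Matrix ι ι k) * ((A : Matrix ι ι k) + 1) * ((g⁻¹ : GL ι k) : Matrix ι ι k) := by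
    have h4 : (g : Matrix ι ι k) * ((g⁻¹ : GL ι k) : Matrix ι ι k) = 1 := by
      rw [← Units.val_mul, mul_inv_cancel, Units.val_one]
    rw [mul_add, mul_one, add_mul, h4, Units.val_mul, Units.val_mul]
  have hd1 : IsUnit (g : Matrix ι ι k).det := (Matrix.isUnit_iff_isUnit_det _).1 g.isUnit
  have hd2 : IsUnit ((g⁻¹ : GL ι k) : Matrix ι ι k).det := (Matrix.isUnit_iff_isUnit_det _).1 (g⁻¹).isUnit
  rw [h3, Matrix.rank_mul_eq_left_of_isUnit_det _ _ hd2, Matrix.rank_mul_eq_right_of_isUnit_det _ _ hd1] at h2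
  omega

/-- diagonal matrices -/
theorem mm_diag {k : Type} [Field k] (h2 : (2 : k) ≠ 0) {m n : ℕ} (χ : Fin n → k) :
    mm (Matrix.diagonal (Sum.elim (fun _ : Fin m => (1 : k)) χ)) = Nat.card {s : Fin n // χ s = -1} := by
  classical
  have h3 : Matrix.toLin' (Matrix.diagonal (Sum.elim (fun _ : Fin m => (1 : k)) χ)) + 1 =
      Matrix.toLin' (Matrix.diagonal (Sum.elim (fun _ : Fin m => (2 : k)) fun s => χ s + 1)) := by
    have h4 : Matrix.diagonal (Sum.elim (fun _ : Fin m => (2 : k)) fun s => χ s + 1) =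
        Matrix.diagonal (Sum.elim (fun _ : Fin m => (1 : k)) χ) + 1 := by
      rw [← Matrix.diagonal_one, Matrix.diagonal_add]
      congr 1
      funext i
      rcases i with i | i
      · simp only [Sum.elim_inl]; norm_num
      · simp only [Sum.elim_inr]
    rw [h4, map_add, Matrix.toLin'_one]
    rfl
  unfold mm
  rw [h3, Cfsg.Agent.H392.KKL.finrank_ker_diag]
  refine Nat.card_congr
    { toFun := fun i => match i with
        | ⟨Sum.inl _, h⟩ => (h2 h).elim
        | ⟨Sum.inr s, h⟩ => ⟨s, eq_neg_of_add_eq_zero_left h⟩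
      invFun := fun s => ⟨Sum.inr s.1, by
        show χ s.1 + 1 = 0
        rw [s.2]; ring⟩
      left_inv := ?_
      right_inv := ?_ }
  · rintro ⟨i | i, h⟩
    · exact (h2 h).elim
    · rfl
  · rintro ⟨s, hs⟩
    rfl

/-! ### the group -/

/-- the dimension of the `(-1)`-eigenspace of `g` on the Lie algebra -/
noncomputable def mL (D : ChevalleyDatum) {F : Type} [Field F] (g : ↥(D.group F)) : ℕ :=
  mm ((g : GL D.Idx F) : Matrix D.Idx D.Idx F)

theorem mL_rho {D : ChevalleyDatum} {F : Type} [Field F] (g : ↥(D.group F)) :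
    mL D g = finrank F ↥(LinearMap.ker (Cfsg.Agent.H392.KKL.rho D F g + 1)) := rfl

theorem mL_conj {D : ChevalleyDatum} {F : Type} [Field F] (g x : ↥(D.group F)) : mL D (g * x * g⁻¹) = mL D x := by
  unfold mL
  rw [Subgroup.coe_mul, Subgroup.coe_mul, Subgroup.coe_inv]
  exact mm_conj _ _

section Gen

variable {D : ChevalleyDatum} {l : ℕ} {M : CoxeterMatrix (Fin l)} (hp : IsType D l M)

/-- base change -/
theorem mL_emb {F K : Type} [Field F] [Field K] (f : F →+* K) (g : ↥(D.group F)) : mL D (emb hp.inList f g) = mL D g := by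
  unfold mL
  rw [coe_emb hp.inList]
  exact mm_map f _

theorem zpow_sum' {k : Type*} [Field k] {ι : k} (hι : ι ≠ 0) {J : Type*} (s : Finset J) (f : J → ℤ) :
    ι ^ (∑ j ∈ s, f j) = ∏ j ∈ s, ι ^ f j := by
  classical
  induction s using Finset.induction_on with
  | empty => simp
  | insert a s ha ih => rw [Finset.sum_insert ha, Finset.prod_insert ha, zpow_add₀ hι, ih]

/-- the value for the pairing -/
def pr {l : ℕ} (e : Fin l → ℤ) (b : Fin l → ℤ) : ℤ := ∑ j, b j * e j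

variable {k : Type} [Field k] (p : ℕ) [Fact p.Prime] [CharP k p] (hk : LocFin k)

include hk p in
/-- the dimension for an element of the torus -/
theorem mL_TT (h2 : (2 : k) ≠ 0) {x : ↥(D.group k)} (hx : x ∈ TT D k) :
    mL D x = Nat.card {s : Fin D.nroots // ch hp (vec D l s) x = -1} := by
  unfold mL
  rw [H892.El.coe_TT hp (r := p) hk hx]
  exact mm_diag h2 _

include hk p in
theorem ch_mul {x y : ↥(D.group k)} (hx : x ∈ TT D k) (hy : y ∈ TT D k) {b : Fin l → ℤ}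
    (hb : IsRoot M.toCoxeterSystem hp.isCartan b) : ch hp b (x * y) = ch hp b x * ch hp b y :=
  ((coordsL (k := k) hp M.toCoxeterSystem hk p).coord b hb).chi_mul hx hy

include hk p in
/-- the characters of an element with `x ^ 4 = 1` -/
theorem exists_e {ι : k} (hι : ι * ι = -1) {x : ↥(D.group k)} (hx : x ∈ TT D k) (h4 : x ^ 4 = 1) :
    ∃ e : Fin l → ℤ, ∀ b, IsRoot M.toCoxeterSystem hp.isCartan b → ch hp b x = ι ^ pr e b := by
  have hι0 : ι ≠ 0 := by
    rintro rfl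
    rw [mul_zero] at hι
    exact one_ne_zero (neg_eq_zero.1 hι.symm)
  have h1 : ∀ b, IsRoot M.toCoxeterSystem hp.isCartan b → ch hp b (1 : ↥(D.group k)) = 1 := fun b hb => by
    have h := ch_mul hp p hk (one_mem (TT D k)) (one_mem (TT D k)) hb
    rw [mul_one] at h
    have h0 := ((coordsL (k := k) hp M.toCoxeterSystem hk p).coord b hb).chi_ne_zero (one_mem (TT D k))
    exact (mul_eq_left₀ h0).1 h.symm
  have hpow : ∀ b, IsRoot M.toCoxeterSystem hp.isCartan b → ch hp b x ^ 4 = 1 := by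
    intro b hb
    have e2 : ch hp b (x * x) = ch hp b x * ch hp b x := ch_mul hp p hk hx hx hb
    have e4 : ch hp b (x * x * (x * x)) = ch hp b (x * x) * ch hp b (x * x) :=
      ch_mul hp p hk (mul_mem hx hx) (mul_mem hx hx) hb
    have h5 : x * x * (x * x) = 1 := by
      rw [← h4]
      simp only [pow_succ, pow_zero, one_mul, mul_assoc]
    rw [h5, h1 b hb, e2] at e4
    rw [e4]; ring
  have hfour : ∀ c : k, c ^ 4 = 1 → ∃ n : ℤ, c = ι ^ n := by
    intro c hc
    have h6 : (c - 1) * (c + 1) * ((c - ι) * (c + ι)) = 0 := by linear_combination hc + (c ^ 2 - 1) * (-hι)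
    rcases mul_eq_zero.1 h6 with h7 | h7 <;> rcases mul_eq_zero.1 h7 with h8 | h8
    · exact ⟨0, by rw [zpow_zero]; linear_combination h8⟩
    · refine ⟨2, ?_⟩
      rw [zpow_two, hι]; linear_combination h8
    · exact ⟨1, by rw [zpow_one]; linear_combination h8⟩
    · refine ⟨3, ?_⟩
      have : ι ^ (3 : ℤ) = ι * ι * ι := by
        rw [show (3 : ℤ) = 2 + 1 by norm_num, zpow_add₀ hι0, zpow_two, zpow_one]
      rw [this, hι]; linear_combination h8
  have hs : ∀ j : Fin l, ∃ n : ℤ, ch hp (sr j) x = ι ^ n := fun j =>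
    hfour _ (hpow _ (isRoot_sr _ _ j))
  choose e he using hs
  refine ⟨e, fun b hb => ?_⟩
  obtain ⟨φ, h0, hadd, hφ⟩ := chAddL hp M.toCoxeterSystem hk p x hx
  have hne : ∀ a, φ a ≠ 0 := by
    intro a ha
    have h2 := hadd a (-a)
    rw [add_neg_cancel, h0, ha, zero_mul] at h2
    exact one_ne_zero h2
  -- the character as a homomorphism
  let Φ : Multiplicative (Fin l → ℤ) →* kˣ := 
    { toFun := fun a => Units.mk0 (φ a.toAdd) (hne _)
      map_one' := Units.ext h0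
      map_mul' := fun a c => Units.ext (hadd a.toAdd c.toAdd) }
  have hΦ : ∀ a : Fin l → ℤ, (Φ (Multiplicative.ofAdd a) : k) = φ a := fun a => rfl
  have hb' : φ b = ι ^ pr e b := by
    have e1 : b = ∑ j, b j • (sr j : Fin l → ℤ) := by
      funext i
      rw [Finset.sum_apply]
      simp only [Pi.smul_apply, smul_eq_mul]
      rw [Finset.sum_eq_single i]
      · rw [show (sr i : Fin l → ℤ) i = 1 from by simp [sr], mul_one]
      · intro j _ hj
        rw [show (sr j : Fin l → ℤ) i = 0 from by simp [sr, hj.symm], mul_zero]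
      · intro h; exact absurd (Finset.mem_univ _) h
    have e2 : Φ (Multiplicative.ofAdd b) = ∏ j, Φ (Multiplicative.ofAdd (sr j : Fin l → ℤ)) ^ b j := by
      conv_lhs => rw [e1]
      rw [ofAdd_sum, map_prod]
      refine Finset.prod_congr rfl fun j _ => ?_
      rw [ofAdd_zsmul, map_zpow]
    have e3 := congrArg (Units.val : kˣ → k) e2
    rw [hΦ, Units.coe_prod] at e3
    rw [e3]
    unfold pr
    rw [zpow_sum' hι0]
    refine Finset.prod_congr rfl fun j _ => ?_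
    rw [Units.val_zpow_eq_zpow_val, hΦ, ← hφ _ (isRoot_sr _ _ j), he j, ← zpow_mul, mul_comm (e j)]
  rw [hφ b hb]
  exact hb'

/-- powers of a square root of `-1` -/
theorem zpow_eq_neg_one {ι : k} (h2 : (2 : k) ≠ 0) (hι : ι * ι = -1) (n : ℤ) : ι ^ n = -1 ↔ n % 4 = 2 := by
  have hι0 : ι ≠ 0 := by
    rintro rfl
    rw [mul_zero] at hι
    exact one_ne_zero (neg_eq_zero.1 hι.symm)
  have h4 : ι ^ (4 : ℤ) = 1 := by
    rw [show (4 : ℤ) = 2 + 2 by norm_num, zpow_add₀ hι0, zpow_two, hι]; ring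
  have hn : ι ^ n = ι ^ (n % 4) := by
    conv_lhs => rw [← Int.emod_add_mul_ediv n 4, zpow_add₀ hι0, zpow_mul, h4, one_zpow, mul_one]
  have hne : (1 : k) ≠ -1 := fun h => h2 (by linear_combination h)
  have h3 : ι ^ (3 : ℤ) = -ι := by
    rw [show (3 : ℤ) = 2 + 1 by norm_num, zpow_add₀ hι0, zpow_two, zpow_one, hι]; ring
  have hi : ι ≠ -1 := by
    rintro rfl
    exact hne (by linear_combination hι)
  have hi' : -ι ≠ -1 := by
    intro h
    have : ι = 1 := by linear_combination -h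
    rw [this] at hι
    exact hne (by linear_combination hι)
  rw [hn]
  have h5 := Int.emod_nonneg n (by norm_num : (4 : ℤ) ≠ 0)
  have h6 := Int.emod_lt_of_pos n (by norm_num : (0 : ℤ) < 4)
  obtain h | h | h | h : n % 4 = 0 ∨ n % 4 = 1 ∨ n % 4 = 2 ∨ n % 4 = 3 := by omega
  · rw [h, zpow_zero]; exact ⟨fun h' => absurd h' hne, fun h' => by omega⟩
  · rw [h, zpow_one]; exact ⟨fun h' => absurd h' hi, fun h' => by omega⟩
  · rw [h, zpow_two, hι]; exact ⟨fun _ => rfl, fun _ => rfl⟩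
  · rw [h, h3]; exact ⟨fun h' => absurd h' hi', fun h' => by omega⟩

theorem zpow_sq_eq_neg_one {ι : k} (h2 : (2 : k) ≠ 0) (hι : ι * ι = -1) (n : ℤ) :
    ι ^ n * ι ^ n = -1 ↔ n % 2 = 1 := by
  have hι0 : ι ≠ 0 := by
    rintro rfl
    rw [mul_zero] at hι
    exact one_ne_zero (neg_eq_zero.1 hι.symm)
  rw [← zpow_add₀ hι0, zpow_eq_neg_one h2 hι]
  omega

theorem zpow_eq_one' {ι : k} (hι : ι * ι = -1) {n : ℤ} (h : n % 4 = 0) : ι ^ n = 1 := by
  have hι0 : ι ≠ 0 := by
    rintro rfl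
    rw [mul_zero] at hι
    exact one_ne_zero (neg_eq_zero.1 hι.symm)
  have h4 : ι ^ (4 : ℤ) = 1 := by
    rw [show (4 : ℤ) = 2 + 2 by norm_num, zpow_add₀ hι0, zpow_two, hι]; ring
  obtain ⟨m, rfl⟩ := Int.dvd_of_emod_eq_zero h
  rw [zpow_mul, h4, one_zpow]

theorem hAlg_of_locFin {k : Type} [Field k] {r : ℕ} [Fact r.Prime] [CharP k r] (hk : LocFin k) :
    HAlg r k := by
  intro a
  obtain ⟨E, hE, haE⟩ := hk {a} (Set.finite_singleton a)
  have := Fintype.ofFinite ↥E
  have : CharP ↥E r := RingHom.charP E.subtype Subtype.val_injective r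
  obtain ⟨n, -, hn⟩ := FiniteField.card ↥E r
  refine ⟨n, n.pos, ?_⟩
  have h1 := FiniteField.pow_card (⟨a, haE rfl⟩ : ↥E)
  rw [hn] at h1
  exact congrArg Subtype.val h1

include hp in
/-- **the dimensions of the `(-1)`-eigenspaces of `g` and `g * g`, `g ^ 4 = 1`** -/
theorem exists_exp {F : Type} [Field F] [Fintype F] (h2 : (2 : F) ≠ 0) {g : ↥(D.group F)} (h4 : g ^ 4 = 1) :
    ∃ e : Fin l → ℤ, mL D g = Nat.card {s : Fin D.nroots // pr e (vec D l s) % 4 = 2} ∧
      mL D (g * g) = Nat.card {s : Fin D.nroots // pr e (vec D l s) % 2 = 1} ∧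
      ((∀ s < D.nroots, pr e (vec D l s) % 4 = 0) → g = 1) ∧ (g * g = 1 → ∀ s < D.nroots, pr e (vec D l s) % 2 = 0) := by
  obtain ⟨r, n, hr, hrF, hrk, he, hqF, hk⟩ := Cfsg.Agent.H129.TorusUntw.exists_closure (F := F) rfl
  set K := AlgebraicClosure F with hK
  let f : F →+* K := algebraMap F K
  have h2k : (2 : K) ≠ 0 := by
    intro h
    apply h2
    apply f.injective
    rw [map_ofNat, map_zero]
    exact h
  have hr2 : r ≠ 2 := by
    rintro rfl
    apply h2
    have := CharP.cast_eq_zero F 2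
    exact_mod_cast this
  obtain ⟨ι, hι⟩ := IsAlgClosed.exists_pow_nat_eq (-1 : K) (n := 2) (by norm_num)
  rw [pow_two] at hι
  set x := emb hp.inList f g with hx
  have hx4 : x ^ 4 = 1 := by rw [hx, ← map_pow, h4, map_one]
  obtain ⟨c, hc⟩ := Cfsg.Agent.H944.TorAnyChev.exists_conj_mem_TT hp r (k := K) (x := x) (q := 4)
    (hAlg_of_locFin hk) (by norm_num) (by
      have : Nat.Coprime 2 r := (Nat.coprime_primes Nat.prime_two (Fact.out : r.Prime)).2 (Ne.symm hr2)
      exact Nat.Coprime.pow_left 2 this) hx4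
  set y := c * x * c⁻¹ with hy
  have hy4 : y ^ 4 = 1 := by rw [hy, conj_pow, hx4, mul_one, mul_inv_cancel]
  obtain ⟨e, he⟩ := exists_e hp r hk hι hc hy4
  have hroot : ∀ s : Fin D.nroots, IsRoot M.toCoxeterSystem hp.isCartan (vec D l s) :=
    fun s => isRoot_vec hp M.toCoxeterSystem s.2
  have e1 : mL D g = mL D y := by rw [hy, mL_conj, hx, mL_emb hp]
  have e2 : mL D (g * g) = mL D (y * y) := by
    have : y * y = c * (x * x) * c⁻¹ := by rw [hy]; group
    rw [this, mL_conj, hx, ← map_mul, mL_emb hp]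
  refine ⟨e, ?_, ?_, ?_, ?_⟩
  · rw [e1, mL_TT hp r hk h2k hc]
    refine Nat.card_congr (Equiv.subtypeEquivRight fun s => ?_)
    rw [he _ (hroot s), zpow_eq_neg_one h2k hι]
  · rw [e2, mL_TT hp r hk h2k (mul_mem hc hc)]
    refine Nat.card_congr (Equiv.subtypeEquivRight fun s => ?_)
    rw [ch_mul hp r hk hc hc (hroot s), he _ (hroot s), zpow_sq_eq_neg_one h2k hι]
  · intro h
    have h1 : ((y : GL D.Idx K) : Matrix D.Idx D.Idx K) = 1 := by
      rw [H892.El.coe_TT (D := D) (l := l) (M := M) hp (r := r) hk hc, ← Matrix.diagonal_one]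
      congr 1
      funext i
      rcases i with i | i
      · rfl
      · show ch hp (vec D l i) y = 1
        rw [he _ (hroot i), zpow_eq_one' hι (h i i.2)]
    have h2 : y = 1 := Subtype.ext (Units.ext h1)
    have h3 : x = 1 := by
      rw [hy] at h2
      exact conj_eq_one_iff.1 h2
    exact emb_injective hp.inList f (h3.trans (map_one _).symm)
  · intro h s hs
    have h1 : y * y = 1 := by
      have : y * y = c * (x * x) * c⁻¹ := by rw [hy]; group
      rw [this, hx, ← map_mul, h, map_one, mul_one, mul_inv_cancel]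
    have h3 := ch_mul hp r hk hc hc (hroot ⟨s, hs⟩)
    rw [h1] at h3
    have h4 : ch hp (vec D l s) (1 : ↥(D.group K)) = 1 := by
      have h5 := ch_mul hp r hk (one_mem (TT D K)) (one_mem (TT D K)) (hroot ⟨s, hs⟩)
      rw [mul_one] at h5
      have h0 := ((coordsL (k := K) hp M.toCoxeterSystem hk r).coord _ (hroot ⟨s, hs⟩)).chi_ne_zero (one_mem (TT D K))
      exact (mul_eq_left₀ h0).1 h5.symm
    have h6 : ι ^ pr e (vec D l s) * ι ^ pr e (vec D l s) ≠ -1 := by
      rw [← he _ (hroot ⟨s, hs⟩), ← h3]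
      show ch hp (vec D l s) (1 : ↥(D.group K)) ≠ -1
      rw [h4]
      intro h7
      exact h2k (by linear_combination h7)
    have h7 := mt (zpow_sq_eq_neg_one h2k hι (pr e (vec D l s))).2 h6
    omega

end Gen

end Cfsg.Agent.H167.Co3
end

-- part: H738/C3/Char2Rows
section
set_option linter.all false
open scoped Cfsg.Agent.FastGrp

-- part: H544/RV/Char2
section
/-!
# TEAM RV, row r1 for the groups of characteristic 2 type (helper544)

`noOddAut_of_charTwo` : let `S` be a finite nonabelian simple group of characteristic 2 type, `P` a Sylow `2`-subgroup; an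
automorphism `φ` of odd order which centralises `P` is trivial. Proof: `X = C_S(φ) ≥ P` contains `N_S(R)` for every
`2`-subgroup `1 ≠ R ≤ X` (choose `R` maximal with `N_S(R) ≰ X`; a Sylow `2`-subgroup of `N_X(R)` is one of `N = N_S(R)`, so
`O_2(N) ≤ X` and `[N, φ] ≤ C(O_2(N)) ≤ O_2(N)` is fixed by `φ`, so trivial). Hence `X` is strongly embedded if `X ≠ S`; a
normal 2-subgroup `Q` of `X` is regular on the cosets `≠ X` (Bender), `φ` commutes with it, so `φ` fixes all cosets.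

`noOddAut_lie_two` : groups of Lie type in characteristic 2.
-/

set_option autoImplicit false

namespace Cfsg.Agent.H544.RV

open Cfsg Subgroup Cfsg.Agent.H165.RV Cfsg.Agent.TwoGenCore.Involution

universe u

variable {S : Type u} [Group S]

variable [Finite S]

/-- **Groups of Lie type in characteristic 2.** -/
theorem charTwo_of_lie [IsSimpleGroup S] (hna : ∃ a b : S, a * b ≠ b * a) (h : IsLieTypeChar 2 S) :
    IsCharacteristicTwoType S := by
  have : Fact (Nat.Prime 2) := ⟨Nat.prime_two⟩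
  rcases h with h | h | h | h | h | h | h | h | h | h | h
  · exact (KFacts.RgdLieCharP.hasFilt_of_lie (Or.inl h)).charTwo hna
  · exact (KFacts.RgdLieCharP.hasFilt_of_lie (Or.inr (Or.inl h))).charTwo hna
  · exact (KFacts.RgdLieCharP.hasFilt_of_lie (Or.inr (Or.inr (Or.inl h)))).charTwo hna
  · exact (KFacts.RgdLieCharP.hasFilt_of_lie (Or.inr (Or.inr (Or.inr (Or.inl h))))).charTwo hna
  · exact (KFacts.RgdLieCharP.hasFilt_of_lie (Or.inr (Or.inr (Or.inr (Or.inr (Or.inl h)))))).charTwo hna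
  · exact (KFacts.RgdLieCharP.hasFilt_of_lie (Or.inr (Or.inr (Or.inr (Or.inr (Or.inr (Or.inl h))))))).charTwo hna
  · exact (KFacts.RgdLieCharP.hasFilt_of_lie
      (Or.inr (Or.inr (Or.inr (Or.inr (Or.inr (Or.inr (Or.inl h)))))))).charTwo hna
  · exact (KFacts.RgdLieCharP.hasFilt_of_lie
      (Or.inr (Or.inr (Or.inr (Or.inr (Or.inr (Or.inr (Or.inr h)))))))).charTwo hna
  · exact Cfsg.Agent.OddHalf.Small.RankOne.sz h.2
  · exact Cfsg.Agent.EvenType.ChevTwoF4.charTwo h.2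
  · exact absurd h.1 (by norm_num)

end Cfsg.Agent.H544.RV
end

-- part: H738/C3/Char2Rows
section
/-!
# S1920, case B: the groups of characteristic 2 type (helper738)

`false_of_charTwo`, `false_of_lieTwo` (all groups of Lie type in characteristic 2), rows `sz`, `tf4`, `tits`.
-/

set_option autoImplicit false

open Subgroup Equiv Cfsg

universe u

namespace Cfsg.Agent.H738.C3

open Cfsg.Agent.H13.Co3

variable {G : Type u} [Group G]
variable {P N0 : Subgroup G} {z s : G} {ψ : ↥(normalizer (P : Set G)) →* Equiv.Perm (Fin 6)}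

theorem norm_zp {t : G} (ht : orderOf t = 2) : normalizer (zpowers t : Set G) = centralizer ({t} : Set G) := by
  ext g
  rw [mem_centralizer_singleton_iff, mem_normalizer_iff]
  have htt : t ≠ 1 := by
    rintro rfl
    rw [orderOf_one] at ht
    omega
  constructor
  · intro h
    have h1 := (h t).1 (mem_zpowers t)
    rcases mem_zp ht h1 with h2 | h2
    · exfalso
      rw [mul_inv_eq_one] at h2
      apply htt
      simpa using h2
    · rwa [mul_inv_eq_iff_eq_mul] at h2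
  · intro h x
    have hcomm : ∀ y ∈ zpowers t, g * y = y * g := by
      rintro _ ⟨k, rfl⟩
      exact (show Commute g t from h).zpow_right k
    constructor
    · intro hx
      rw [hcomm x hx, mul_inv_cancel_right]
      exact hx
    · intro hx
      have h1 := hcomm _ hx
      have h2 : g * x * g⁻¹ = x := by
        have h3 : g * (g * x * g⁻¹) * g⁻¹ = g * x * g⁻¹ := by rw [h1, mul_inv_cancel_right]
        have h4 : g * x * g⁻¹ = x := by
          have h5 := congrArg (fun a => g⁻¹ * a * g) h3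
          beta_reduce at h5
          have e1 : g⁻¹ * (g * (g * x * g⁻¹) * g⁻¹) * g = g * x * g⁻¹ := by group
          have e2 : g⁻¹ * (g * x * g⁻¹) * g = x := by group
          rw [e1, e2] at h5
          exact h5
        exact h4
      rw [h2] at hx
      exact hx

/-- **`C(z)` is not of characteristic 2**, from `CB` -/
theorem not_char2_centralizer [Finite G] (C : CB P N0 z s ψ) : ¬ IsOfCharacteristicTwo ↥(centralizer ({z} : Set G)) := by
  obtain ⟨y, hy, hc⟩ := exists_five C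
  refine (conf C).not_char2_cent hc (by rw [hy]; decide) ?_
  rintro rfl
  rw [orderOf_one] at hy
  omega

theorem false_of_charTwo [Finite G] (C : CB P N0 z s ψ) (h : IsCharacteristicTwoType G) : False := by
  apply not_char2_centralizer C
  have h1 : IsPGroup 2 (zpowers z) := by
    rw [IsPGroup.iff_card]
    exact ⟨1, by rw [Nat.card_zpowers, orderOf_z C, pow_one]⟩
  have h2 := h.2 (zpowers z) h1 (by
    intro h3
    apply C.z_ne
    rwa [zpowers_eq_bot] at h3)
  rw [norm_zp (orderOf_z C)] at h2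
  exact h2

/-- **The groups of Lie type in characteristic 2** -/
theorem false_of_lieTwo [Finite G] [IsSimpleGroup G] (C : CB P N0 z s ψ) (h : IsLieTypeChar 2 G) : False := by
  refine false_of_charTwo C (Cfsg.Agent.H544.RV.charTwo_of_lie ?_ h)
  by_contra hcon
  push Not at hcon
  exact Cfsg.Agent.H527.Co3.not_comm C hcon

open Cfsg.Agent.H527.Co3 in
theorem row_sz : Row.{u} @Lie.IsoSuzuki := by
  intro G _ _ _ h P N0 z s ψ C
  exact false_of_lieTwo C (Or.inr (Or.inr (Or.inr (Or.inr (Or.inr (Or.inr (Or.inr (Or.inr (Or.inl ⟨rfl, h⟩)))))))))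

open Cfsg.Agent.H527.Co3 in
theorem row_tf4 : Row.{u} @Lie.Iso2F4 := by
  intro G _ _ _ h P N0 z s ψ C
  exact false_of_lieTwo C
    (Or.inr (Or.inr (Or.inr (Or.inr (Or.inr (Or.inr (Or.inr (Or.inr (Or.inr (Or.inl ⟨rfl, h⟩))))))))))

open Cfsg.Agent.H527.Co3 in
theorem row_tits : Row.{u} @Lie.IsoTits := by
  intro G _ _ _ h P N0 z s ψ C
  exact false_of_charTwo C (Cfsg.Agent.EvenType.ChevTwoTits.charTwo h)

end Cfsg.Agent.H738.C3
end
end

-- part: H169/Co3/RowE8
section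
set_option linter.all false
open scoped Cfsg.Agent.FastGrp

-- part: H169/Co3/ConjE8
section
/-!
# S1920: the involutions of `chevE8.group K`, `K` finite of odd order (helper169)

`conj_E8` : an involution is conjugate to `t8 K` (type `D₈`) or to `t7 K` (type `A₁E₇`).
-/

set_option autoImplicit false

namespace Cfsg.Agent.H169.Co3

open Cfsg.Lie Cfsg.Agent.ChevalleyStructure Cfsg.Agent.ChevalleyStructure.CoxeterGeomTypes
  Cfsg.Agent.Nodes.RGDChev Cfsg.Agent.KFacts.RgdChevCoord Cfsg.Agent.OddHalf.NI.ModelChev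
  Cfsg.Agent.H557.SubTab Cfsg.Agent.H557.SubLink Cfsg.Agent.H557.SignTorus Cfsg.Agent.H557.InvClass
  Cfsg.Agent.H557.ToralTypes Cfsg.Agent.H557.LinkE8 Cfsg.Agent.H557.OrbE8 Cfsg.Agent.H557.InvE8

universe u

/-- the standard involution of type `D₈` -/
noncomputable abbrev t8 (K : Type u) [Field K] : ↥(chevE8.group K) :=
  th Cfsg.Agent.Nodes.KindE.isType8 (sg K 8 n_TabD8)

/-- the standard involution of type `A₁E₇` -/
noncomputable abbrev t7 (K : Type u) [Field K] : ↥(chevE8.group K) :=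
  th Cfsg.Agent.Nodes.KindE.isType8 (sg K 8 n_TabE7A1)

theorem conj_E8 {K : Type u} [Field K] [Finite K] (ho : Odd (Nat.card K)) {u : ↥(chevE8.group K)} (hu : u * u = 1)
    (hu1 : u ≠ 1) : (∃ g, g * u * g⁻¹ = t8 K) ∨ (∃ g, g * u * g⁻¹ = t7 K) := by
  have hfin : Fintype K := Fintype.ofFinite K
  rw [Nat.card_eq_fintype_card] at ho
  obtain ⟨p, hpp, hpc, hp2⟩ := exists_char K ho
  have : Fact p.Prime := ⟨hpp⟩
  obtain ⟨g, hg⟩ := toral_E8 ho hu
  obtain ⟨b, hb⟩ := surj_E8 hg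
  have hconj : IsConj u (th Cfsg.Agent.Nodes.KindE.isType8 b) := isConj_iff.2 ⟨g, hb.symm⟩
  have hb2 : b * b = 1 := by
    apply inj_E8
    rw [map_mul, hb]
    have : g * u * g⁻¹ * (g * u * g⁻¹) = g * (u * u) * g⁻¹ := by group
    rw [this, hu, mul_one, mul_inv_cancel]
  obtain ⟨m, hm', rfl⟩ := exists_sg hb2
  rcases cover m hm' with h3 | h3 | h3
  · exfalso
    subst h3
    rw [sg_zero, map_one] at hb
    apply hu1
    have h4 : u = g⁻¹ * (g * u * g⁻¹) * g := by group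
    rw [h4, ← hb, mul_one, inv_mul_cancel]
  · exact Or.inl (isConj_iff.1 (hconj.trans (D_TabD8.conj hcm p h3)))
  · exact Or.inr (isConj_iff.1 (hconj.trans (D_TabE7A1.conj hcm p h3)))

end Cfsg.Agent.H169.Co3
end

-- part: H169/Co3/MvE8
section
/-!
# S1920: `m(t8) = 128`, `m(t7) = 112` in `chevE8.group K` (helper169)
-/

set_option autoImplicit false

namespace Cfsg.Agent.H169.Co3

open CoxeterSystem Cfsg.Lie Cfsg.Agent.ChevalleyStructure Cfsg.Agent.ChevalleyStructure.CoxeterGeom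
  Cfsg.Agent.ChevalleyStructure.CoxeterGeomTypes Cfsg.Agent.Tits.Roots
  Cfsg.Agent.Nodes.RGDChev Cfsg.Agent.KFacts.RgdChevCoord Cfsg.Agent.OddHalf.NI.ModelChev
  Cfsg.Agent.H557.SubTab Cfsg.Agent.H557.SubLink Cfsg.Agent.H557.SignTorus Cfsg.Agent.H557.InvClass
  Cfsg.Agent.H557.ToralTypes Cfsg.Agent.H557.LinkE8 Cfsg.Agent.H557.OrbE8 Cfsg.Agent.H557.InvE8
  Cfsg.Agent.H557.Toral
open Cfsg.Agent.H167.Co3 (mL mL_TT ch_mul)
open Cfsg.Agent.BpExc.TowChev (LocFin)

theorem locFin_finite {F : Type} [Field F] [Finite F] : LocFin F := fun _ _ => ⟨⊤, inferInstance, fun _ _ => trivial⟩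

section

variable {D : ChevalleyDatum} {l : ℕ} {M : CoxeterMatrix (Fin l)} (hp : IsType D l M) {F : Type} [Field F] [Finite F]
  {cm : List ℕ} (hcm : OkC (cartanOf D l) cm)

include hcm in
/-- the dimension of the `(-1)`-eigenspace of a sign element -/
theorem mL_sg (p : ℕ) [Fact p.Prime] [CharP F p] (h2 : (2 : F) ≠ 0) {n : ℕ} {i₀ : Fin l}
    (hn : ∀ j : Fin l, par l (n &&& cm.getD j 0) = decide (j = i₀)) :
    mL D (th (K := F) hp (sg F l n)) = Nat.card {s : Fin D.nroots // Odd (vec D l s i₀)} := by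
  have hT : th (K := F) hp (sg F l n) ∈ TT D F := th_mem hp _
  rw [mL_TT hp p locFin_finite h2 hT]
  refine Nat.card_congr (Equiv.subtypeEquivRight fun s => ?_)
  have hr : IsRoot M.toCoxeterSystem hp.isCartan (vec D l s) := isRoot_vec hp M.toCoxeterSystem s.2
  have h1 := ch_sg hp M.toCoxeterSystem hcm hr h2 hn
  have hne : (1 : F) ≠ -1 := fun h => neg_one_ne h2 (Units.ext (by rw [Units.val_neg, Units.val_one]; exact h.symm))
  have hsq : ch hp (vec D l s) (th (K := F) hp (sg F l n)) * ch hp (vec D l s) (th (K := F) hp (sg F l n)) = 1 := by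
    rw [← ch_mul hp p locFin_finite hT hT hr, ← map_mul, sg_mul_self, map_one]
    have h := ch_mul hp p locFin_finite (one_mem (TT D F)) (one_mem (TT D F)) hr
    rw [mul_one] at h
    have h0 := ((Cfsg.Agent.BpExc.TowChev.coordsL (k := F) hp M.toCoxeterSystem locFin_finite p).coord _ hr).chi_ne_zero
      (one_mem (TT D F))
    exact (mul_eq_left₀ h0).1 h.symm
  rw [← Int.not_even_iff_odd, ← h1]
  rcases mul_self_eq_one_iff.1 hsq with h | h
  · rw [h]
    exact ⟨fun h' => absurd h' hne, fun h' => absurd rfl h'⟩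
  · rw [h]
    exact ⟨fun _ h' => hne h'.symm, fun _ => rfl⟩

end

theorem tab7 : (Finset.univ.filter fun s : Fin chevE8.nroots => Odd (vec chevE8 8 s 7)).card = 112 := by decide +kernel

theorem mL_t7 {F : Type} [Field F] [Finite F] (h2 : (2 : F) ≠ 0) : mL chevE8 (t7 F) = 112 := by
  obtain ⟨p, hpc⟩ := CharP.exists F
  have hpp : Fact p.Prime := ⟨(CharP.char_is_prime_or_zero F p).resolve_right (CharP.char_ne_zero_of_finite F p)⟩
  rw [mL_sg Cfsg.Agent.Nodes.KindE.isType8 hcm p h2 n0_TabE7A1, Nat.card_eq_fintype_card, Fintype.card_subtype]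
  exact tab7

end Cfsg.Agent.H169.Co3
end

-- part: H169/Co3/Map
section
/-!
# S1920, case B: the configuration is invariant under isomorphisms (helper169)

`exists_map` : `e : G ≃* G'`, `CB P N0 z s ψ` in `G` gives `CB (P.map e) (N0.map e) (e z) (e s) ψ'` in `G'`.
-/

set_option autoImplicit false

open Subgroup

namespace Cfsg.Agent.H169.Co3

open Cfsg.Agent.H13.Co3 (CB)

variable {G G' : Type*} [Group G] [Group G']

theorem mem_norm_map (e : G ≃* G') (P : Subgroup G) {g : G} :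
    e g ∈ normalizer ((P.map e.toMonoidHom : Subgroup G') : Set G') ↔ g ∈ normalizer (P : Set G) := by
  rw [mem_normalizer_iff, mem_normalizer_iff]
  have key : ∀ x : G, e x ∈ P.map e.toMonoidHom ↔ x ∈ P := by
    intro x
    rw [Subgroup.mem_map]
    constructor
    · rintro ⟨y, hy, h⟩
      have : y = x := e.injective h
      rwa [← this]
    · intro h; exact ⟨x, h, rfl⟩
  constructor
  · intro h x
    have := h (e x)
    rw [key, ← map_mul, ← map_inv, ← map_mul, key] at this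
    exact this
  · intro h y
    obtain ⟨x, rfl⟩ := e.surjective y
    rw [key, ← map_mul, ← map_inv, ← map_mul, key]
    exact h x

/-- the isomorphism of the normalisers -/
def normMap (e : G ≃* G') (P : Subgroup G) :
    ↥(normalizer ((P.map e.toMonoidHom : Subgroup G') : Set G')) ≃* ↥(normalizer (P : Set G)) where
  toFun g := ⟨e.symm g, (mem_norm_map e P).1 (by rw [e.apply_symm_apply]; exact g.2)⟩
  invFun g := ⟨e g, (mem_norm_map e P).2 g.2⟩
  left_inv g := Subtype.ext (e.apply_symm_apply _)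
  right_inv g := Subtype.ext (e.symm_apply_apply _)
  map_mul' g h := Subtype.ext (by
    show e.symm ((g * h : ↥(normalizer ((P.map e.toMonoidHom : Subgroup G') : Set G'))) : G') = e.symm g * e.symm h
    rw [Subgroup.coe_mul, map_mul])

theorem exists_map (e : G ≃* G') {P N0 : Subgroup G} {z s : G} {ψ : ↥(normalizer (P : Set G)) →* Equiv.Perm (Fin 6)}
    (C : CB P N0 z s ψ) :
    CB (P.map e.toMonoidHom) (N0.map e.toMonoidHom) (e z) (e s) (ψ.comp (normMap e P).toMonoidHom) := by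
  have mem : ∀ {H : Subgroup G} {x : G}, e x ∈ H.map e.toMonoidHom ↔ x ∈ H := by
    intro H x
    rw [Subgroup.mem_map]
    constructor
    · rintro ⟨y, hy, h⟩
      have : y = x := e.injective h
      rwa [← this]
    · intro h; exact ⟨x, h, rfl⟩
  have hinj : Function.Injective e.toMonoidHom := e.injective
  have hpsi : ∀ (g : G) (h : e g ∈ normalizer ((P.map e.toMonoidHom : Subgroup G') : Set G')),
      (ψ.comp (normMap e P).toMonoidHom) ⟨e g, h⟩ = ψ ⟨g, (mem_norm_map e P).1 h⟩ := by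
    intro g h
    show ψ _ = ψ _
    congr 1
    exact Subtype.ext (e.symm_apply_apply g)
  refine ⟨C.P_two.map _, mem.2 C.zP, Subgroup.map_mono C.PN, ?_, C.N_two.map _, ?_, mem.2 C.sN, ?_, ?_, ?_, ?_, ?_, ?_, ?_,
    ?_, ?_, ?_, ?_, ?_, ?_, ?_, ?_, ?_⟩
  · rintro _ ⟨n, hn, rfl⟩
    exact (mem_norm_map e P).2 (C.NH hn)
  · rw [← C.card]
    exact (Nat.card_congr (N0.equivMapOfInjective _ hinj).toEquiv).symm
  · rw [← map_mul, C.s_sq]
  · rw [← map_mul, C.z_sq, map_one]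
  · intro h
    exact C.z_ne (e.injective (by rw [h, map_one]))
  · rintro _ ⟨n, hn, rfl⟩
    show e n * e s = e s * e n
    rw [← map_mul, ← map_mul, C.s_cen n hn]
  · rintro _ ⟨n, hn, rfl⟩
    show e n * e n = 1 ∨ e n * e n = e z
    rcases C.sq n hn with h | h
    · left; rw [← map_mul, h, map_one]
    · right; rw [← map_mul, h]
  · rintro _ ⟨n, hn, rfl⟩ _ ⟨m, hm, rfl⟩
    show e n * e m = e m * e n ∨ e n * e m = e z * (e m * e n)
    rcases C.comm n hn m hm with h | h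
    · left; rw [← map_mul, ← map_mul, h]
    · right; rw [← map_mul, ← map_mul, ← map_mul, h]
  · rintro _ ⟨n, hn, rfl⟩ h
    have h1 : n ∈ zpowers s := by
      refine C.cen n hn fun m hm => ?_
      have := h (e m) (mem.2 hm)
      apply e.injective
      rw [map_mul, map_mul]
      exact this
    obtain ⟨j, hj⟩ := h1
    refine ⟨j, ?_⟩
    show e s ^ j = e n
    rw [← map_zpow]
    exact congrArg e hj
  · intro h hh
    obtain ⟨g, rfl⟩ := e.surjective h
    rw [← map_mul, ← map_mul, C.z_cen g ((mem_norm_map e P).1 hh)]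
  · intro π
    obtain ⟨g, hg⟩ := C.surj π
    exact ⟨(normMap e P).symm g, by
      show ψ ((normMap e P) ((normMap e P).symm g)) = π
      rw [MulEquiv.apply_symm_apply, hg]⟩
  · rintro _ ⟨n, hn, rfl⟩
    exact (hpsi n _).trans (C.psi_N n hn)
  · obtain ⟨m, hm, hc⟩ := C.ker_card
    refine ⟨m, hm, ?_⟩
    rw [← hc]
    refine Nat.card_congr
      { toFun := fun g => ⟨normMap e P g.1, g.2⟩
        invFun := fun g => ⟨(normMap e P).symm g.1, by
          show ψ ((normMap e P) ((normMap e P).symm g.1)) = 1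
          rw [MulEquiv.apply_symm_apply]; exact g.2⟩
        left_inv := fun g => Subtype.ext (MulEquiv.symm_apply_apply _ _)
        right_inv := fun g => Subtype.ext (MulEquiv.apply_symm_apply _ _) }
  · have hs := C.ker_solv
    let f : ↥(ψ.comp (normMap e P).toMonoidHom).ker →* ↥ψ.ker :=
      { toFun := fun g => ⟨normMap e P g.1, g.2⟩
        map_one' := Subtype.ext (map_one _)
        map_mul' := fun g h => Subtype.ext (map_mul _ _ _) }
    have hf : Function.Injective f := fun g h hgh => by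
      apply Subtype.ext
      apply (normMap e P).injective
      exact congrArg Subtype.val hgh
    exact solvable_of_solvable_injective hf
  · intro h hh
    obtain ⟨g, hg⟩ := e.surjective h.1
    have h1 : ψ ⟨g, (mem_norm_map e P).1 (by rw [hg]; exact h.2)⟩ = 1 := by
      rw [← hpsi g (by rw [hg]; exact h.2)]
      rw [← hh]
      congr 1
      exact Subtype.ext hg
    obtain ⟨n, hn, o, ho, hodd⟩ := C.ker_eq _ h1
    refine ⟨e n, mem.2 hn, e o, ?_, ?_⟩
    · rw [← hg, ← map_mul]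
      exact congrArg e ho
    · have : orderOf (e o) = orderOf o := orderOf_injective e.toMonoidHom hinj o
      rwa [this]
  · intro π hπ
    obtain ⟨h, h1, h2⟩ := C.even π hπ
    refine ⟨(normMap e P).symm h, ?_, ?_⟩
    · rintro _ ⟨n, hn, rfl⟩
      show e h * e n = e n * e h
      rw [← map_mul, ← map_mul, h1 n hn]
    · show ψ ((normMap e P) ((normMap e P).symm h)) = π
      rw [MulEquiv.apply_symm_apply, h2]
  · intro π
    obtain ⟨h, h1, h2⟩ := C.frat π
    refine ⟨(normMap e P).symm h, (mem_norm_map e N0).2 h1, ?_⟩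
    show ψ ((normMap e P) ((normMap e P).symm h)) = π
    rw [MulEquiv.apply_symm_apply, h2]
  · intro h hh
    obtain ⟨g, hg⟩ := e.surjective h.1
    have h2 : e g ∈ normalizer ((P.map e.toMonoidHom : Subgroup G') : Set G') := by rw [hg]; exact h.2
    have h3 : h = ⟨e g, h2⟩ := Subtype.ext hg.symm
    subst h3
    rw [hpsi g h2, C.inv_s ⟨g, _⟩ ((mem_norm_map e N0).1 hh)]
    show g * s = s * g ↔ e g * e s = e s * e g
    rw [← map_mul, ← map_mul, e.injective.eq_iff]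

end Cfsg.Agent.H169.Co3
end

-- part: H169/Co3/RowE8
section
/-!
# S1920, case B: the row `E₈(q)` (helper169)
-/

set_option autoImplicit false

universe u

namespace Cfsg.Agent.H169.Co3

open Cfsg Cfsg.Lie Cfsg.Lie.ChevalleyDatum
open Cfsg.Agent.H13.Co3 (CB)
open Cfsg.Agent.H167.Co3 (mL)
open Module Subgroup

theorem odd_card {F : Type} [Field F] [Finite F] (h2F : (2 : F) ≠ 0) : Odd (Nat.card F) := by
  have hfin : Fintype F := Fintype.ofFinite F
  rw [← Nat.not_even_iff_odd, Nat.card_eq_fintype_card]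
  intro h
  obtain ⟨n, hn⟩ := h
  apply h2F
  obtain ⟨p, hpc⟩ := CharP.exists F
  obtain ⟨m, hp, hq⟩ := FiniteField.card F p
  have h2p : 2 ∣ p ^ (m : ℕ) := by rw [← hq, hn]; exact ⟨n, by ring⟩
  have := (Nat.prime_dvd_prime_iff_eq Nat.prime_two hp).1 (Nat.prime_two.dvd_of_dvd_pow h2p)
  subst this
  exact_mod_cast CharP.cast_eq_zero F 2

/-- **the row `E₈(q)`, `q` odd** -/
theorem e8_odd_of {F : Type} [Field F] [Finite F] (h2F : (2 : F) ≠ 0)
    (hfalse8 : ∀ (P N0 : Subgroup ↥(chevE8.group F)) (s : ↥(chevE8.group F))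
      (ψ : ↥(normalizer (P : Set ↥(chevE8.group F))) →* Equiv.Perm (Fin 6)), CB P N0 (t8 F) s ψ → False)
    (hfalse7 : ∀ (P N0 : Subgroup ↥(chevE8.group F)) (s : ↥(chevE8.group F))
      (ψ : ↥(normalizer (P : Set ↥(chevE8.group F))) →* Equiv.Perm (Fin 6)), CB P N0 (t7 F) s ψ → False)
    {G : Type*} [Group G] [Finite G]
    (e : G ≃* ↥(chevE8.group F)) {P N0 : Subgroup G} {z s : G} {ψ : ↥(normalizer (P : Set G)) →* Equiv.Perm (Fin 6)}
    (C : CB P N0 z s ψ) : False := by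
  rcases conj_E8 (odd_card h2F) (u := e z) (by rw [← map_mul, C.z_sq, map_one])
    (fun h => C.z_ne (e.injective (by rw [h, map_one]))) with ⟨g, hg⟩ | ⟨g, hg⟩
  · let e' : G ≃* ↥(chevE8.group F) := e.trans (MulAut.conj g)
    have C' := exists_map e' C
    have hz : e' z = t8 F := hg
    rw [hz] at C'
    exact hfalse8 _ _ _ _ C'
  · let e' : G ≃* ↥(chevE8.group F) := e.trans (MulAut.conj g)
    have C' := exists_map e' C
    have hz : e' z = t7 F := hg
    rw [hz] at C'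
    exact hfalse7 _ _ _ _ C'

/-- **the row `E₈`** -/
theorem e8_of (hfalse8 : ∀ (F : Type) [Field F] [Finite F], (2 : F) ≠ 0 → ∀ (P N0 : Subgroup ↥(chevE8.group F))
      (s : ↥(chevE8.group F)) (ψ : ↥(normalizer (P : Set ↥(chevE8.group F))) →* Equiv.Perm (Fin 6)),
      CB P N0 (t8 F) s ψ → False)
    (hfalse7 : ∀ (F : Type) [Field F] [Finite F], (2 : F) ≠ 0 → ∀ (P N0 : Subgroup ↥(chevE8.group F))
      (s : ↥(chevE8.group F)) (ψ : ↥(normalizer (P : Set ↥(chevE8.group F))) →* Equiv.Perm (Fin 6)),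
      CB P N0 (t7 F) s ψ → False) :
    Cfsg.Agent.H527.Co3.Row.{u} @Lie.IsoE8 := by
  intro G _ _ _ h P N0 z s ψ C
  obtain ⟨F, hF, hF', ⟨e⟩⟩ := h
  by_cases h2 : (2 : F) = 0
  · have hch : CharP F 2 := by
      have := CharP.charP_iff_prime_eq_zero Nat.prime_two (R := F)
      exact this.2 (by exact_mod_cast h2)
    exact Cfsg.Agent.H738.C3.false_of_lieTwo C
      (Or.inr (Or.inr (Or.inr (Or.inr (Or.inr (Or.inr (Or.inl
        ⟨F, hF, hF', hch, Or.inr (Or.inr (Or.inr (Or.inr ⟨e⟩)))⟩)))))))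
  · exact e8_odd_of h2 (hfalse8 F h2) (hfalse7 F h2) e C

end Cfsg.Agent.H169.Co3
end
end
end
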